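import Mathlib
import Cfsg.Agent.T3.Es3
import Cfsg.Prelude.Def_Spor_Conway

/-!
The 3-local characterisation of the Harada-Norton group: definitions (see `stubs/Cfsg/Agent/H3/PLAN.md`).
-/

set_option autoImplicit false

namespace Cfsg.Agent.H3

open Cfsg.Agent.Rec Cfsg.Agent.Inv.Fz Cfsg.Agent.T3 Subgroup Equiv
open scoped commutatorElement

universe u

variable {G : Type u} [Group G]

/-- The centraliser of `x` contains no four-group. -/
def NoFour (x : G) : Prop :=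
  ∀ p q : G, p * p = 1 → q * q = 1 → p * q = q * p → p * x = x * p → q * x = x * q → p = 1 ∨ q = 1 ∨ p = q

/-- The centraliser of `z` has shape `3^(1+4).SL₂(5)`. -/
structure Cz (z : G) : Prop where
  es : GT.PG.ESZ 3 (Q3 z) z
  card : Nat.card (Q3 z) = 243
  exp : ∀ q ∈ Q3 z, q ^ 3 = 1
  cen : centralizer (Q3 z : Set G) ≤ Q3 z
  hom : ∃ f : centralizer ({z} : Set G) →* Matrix.SpecialLinearGroup (Fin 2) (ZMod 5), Function.Surjective f ∧
    ∀ g, f g = 1 ↔ (g : G) ∈ Q3 z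

/-- A line: `s` has order three outside `Q`, `i` has order four and inverts `s`, `i * i` inverts `Q / ⟨z⟩`. -/
structure Ln (z s i : G) : Prop where
  sz : s * z = z * s
  iz : i * z = z * i
  s3 : s ^ 3 = 1
  sQ : s ∉ Q3 z
  i4 : i * i * (i * i) = 1
  is : i * s * i⁻¹ = s⁻¹
  tQ : ∀ q ∈ Q3 z, i * i * q * (i * i)⁻¹ * q ∈ zpowers z

/-- The maximal abelian subgroup of `Q` centralised by `s` (order 27). -/
def EE (z s : G) : Subgroup G := Q3 z ⊓ centralizer {s}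
/-- The Thompson subgroup (order 81). -/
def JJ (z s : G) : Subgroup G := EE z s ⊔ zpowers s
/-- The Sylow 3-subgroup (order 729). -/
def SS (z s : G) : Subgroup G := Q3 z ⊔ zpowers s

/-- Letters for the normaliser in `C(z)` of a Sylow 3-subgroup (order 2916). -/
structure Fm (G : Type u) [Group G] where
  (z y w s i : G)
  cz : Cz z
  ln : Ln z s i
  ze : ZE z y
  yQ : y ∈ Q3 z
  wQ : w ∈ Q3 z
  ty : i * i * y * (i * i)⁻¹ = y⁻¹
  tw : i * i * w * (i * i)⁻¹ = w⁻¹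
  sy : s * y = y * s
  yy : y * (i * y * i⁻¹) = i * y * i⁻¹ * y
  wy : w * y = y * w
  wy' : ⁅w, i * y * i⁻¹⁆ = z
  ww : w * (i * w * i⁻¹) = i * w * i⁻¹ * w
  sw : s * w * s⁻¹ = w * y

namespace Fm

variable (F : Fm G)

def y' : G := F.i * F.y * F.i⁻¹
def w' : G := F.i * F.w * F.i⁻¹
def t : G := F.i * F.i
/-- The element with centraliser `3 × A₉`. -/
def a : G := F.y * F.y'
/-- Commutes with `a`, is inverted by `t`. -/
def v : G := F.w * F.w'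
/-- `i a i⁻¹ = u⁻¹`. -/
def u : G := F.y * F.y'⁻¹

end Fm

/-- `(0 1 2)`, `(3 4 5)`, `(6 7 8)` in `A₉`. -/
def d1 : alternatingGroup (Fin 9) := ⟨swap 0 2 * swap 0 1, Perm.mem_alternatingGroup.2 (by decide +kernel)⟩
def d2 : alternatingGroup (Fin 9) := ⟨swap 3 5 * swap 3 4, Perm.mem_alternatingGroup.2 (by decide +kernel)⟩
def d3 : alternatingGroup (Fin 9) := ⟨swap 6 8 * swap 6 7, Perm.mem_alternatingGroup.2 (by decide +kernel)⟩

/-- `N(⟨a⟩) = (3 × A₉) : 2` with the fusion of the elements of order three. -/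
structure N9 (G : Type u) [Group G] where
  (a d : G)
  κ : alternatingGroup (Fin 9) →* G
  inj : Function.Injective κ
  ord : orderOf a = 3
  comm : ∀ p, κ p * a = a * κ p
  cen : ∀ g, g * a = a * g → ∃ (k : ℕ) (p : alternatingGroup (Fin 9)), g = a ^ k * κ p
  d_sq : d * d = 1
  da : d * a * d⁻¹ = a⁻¹
  dκ : ∀ p, d * κ p * d⁻¹ = κ (MulAut.conjNormal (swap (0 : Fin 9) 1) p)
  conj1 : IsConj a (κ d1)
  conj2 : IsConj a (κ (d1 * d2))
  no4 : NoFour (κ (d1 * d2 * d3))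

/-- A subgroup `A₁₂` containing the normaliser of each of its 3-cycles. -/
structure A12 (G : Type u) [Group G] where
  Φ : alternatingGroup (Fin 12) →* G
  inj : Function.Injective Φ
  norm : ∀ c : alternatingGroup (Fin 12), (c : Perm (Fin 12)).IsThreeCycle → ∀ g : G,
    (g * Φ c * g⁻¹ = Φ c ∨ g * Φ c * g⁻¹ = (Φ c)⁻¹) → g ∈ Φ.range
  fuse : ∀ c y : alternatingGroup (Fin 12), (c : Perm (Fin 12)).IsThreeCycle → (y : Perm (Fin 12)).cycleType = {3, 3} →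
    IsConj (Φ c) (Φ y)
  nfuse : ∀ c y : alternatingGroup (Fin 12), (c : Perm (Fin 12)).IsThreeCycle →
    (y : Perm (Fin 12)).cycleType = {3, 3, 3} → ¬ IsConj (Φ c) (Φ y)

/-- `S₈` on the points `4, …, 11`. -/
def e8 : Perm (Fin 8) →* Perm (Fin 12) :=
  (finSumFinEquiv (m := 4) (n := 8)).permCongrHom.toMonoidHom.comp
    ((Perm.sumCongrHom (Fin 4) (Fin 8)).comp (MonoidHom.inr _ _))

/-- `(0 1)(2 3)`. -/
def uu : alternatingGroup (Fin 12) := ⟨swap 0 1 * swap 2 3, Perm.mem_alternatingGroup.2 (by decide +kernel)⟩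
/-- `(0 2)(1 3)`. -/
def ss : alternatingGroup (Fin 12) := ⟨swap 0 2 * swap 1 3, Perm.mem_alternatingGroup.2 (by decide +kernel)⟩
/-- `(0 1)(4 5)`. -/
def rr : alternatingGroup (Fin 12) := ⟨swap 0 1 * swap 4 5, Perm.mem_alternatingGroup.2 (by decide +kernel)⟩
/-- `(0 1)(2 3)(4 5)(6 7)`. -/
def nn : alternatingGroup (Fin 12) :=
  ⟨swap 0 1 * swap 2 3 * swap 4 5 * swap 6 7, Perm.mem_alternatingGroup.2 (by decide +kernel)⟩
/-- `(4 7)(5 8)(6 9)(10 11)`, which is `e8 v1`. -/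
def vv : alternatingGroup (Fin 12) :=
  ⟨swap 4 7 * swap 5 8 * swap 6 9 * swap 10 11, Perm.mem_alternatingGroup.2 (by decide +kernel)⟩
/-- `(9 10 11)`. -/
def cc : alternatingGroup (Fin 12) := ⟨swap 9 11 * swap 9 10, Perm.mem_alternatingGroup.2 (by decide +kernel)⟩
/-- `(6 7 8)`. -/
def dd : alternatingGroup (Fin 12) := ⟨swap 6 8 * swap 6 7, Perm.mem_alternatingGroup.2 (by decide +kernel)⟩
/-- `(4 5 6)`. -/
def z1 : alternatingGroup (Fin 12) := ⟨swap 4 6 * swap 4 5, Perm.mem_alternatingGroup.2 (by decide +kernel)⟩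
/-- `(7 8 9)`. -/
def z2 : alternatingGroup (Fin 12) := ⟨swap 7 9 * swap 7 8, Perm.mem_alternatingGroup.2 (by decide +kernel)⟩

/-- The twisted copy of `A₁₂` is the conjugate by `g`. -/
structure A12.Tw (X : A12 G) (g : G) : Prop where
  u : g * X.Φ uu * g⁻¹ = X.Φ uu
  r : g * X.Φ rr * g⁻¹ = X.Φ ss
  c : g * X.Φ cc * g⁻¹ = X.Φ (z1 * z2)
  d : g * X.Φ dd * g⁻¹ = X.Φ (z1 * z2⁻¹)
  n : g * X.Φ nn * g⁻¹ = X.Φ vv

/-- `(0 1 2)(3 4 5)` in `S₈`. -/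
def th : Perm (Fin 8) := swap 0 2 * swap 0 1 * (swap 3 5 * swap 3 4)
/-- `(0 3)(1 4)(2 5)(6 7)`. -/
def v1 : Perm (Fin 8) := swap 0 3 * swap 1 4 * swap 2 5 * swap 6 7
/-- `(0 1 3 2 5 4 7)`. -/
def ze : Perm (Fin 8) := swap 0 7 * swap 0 4 * swap 0 5 * swap 0 2 * swap 0 3 * swap 0 1
/-- `(1 2)(4 5)`. -/
def ta : Perm (Fin 8) := swap 1 2 * swap 4 5

/-- An involution with centraliser `2 × S₈`, as in the automorphism group of the Higman-Sims group. -/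
structure HS2 (Γ : Type u) [Group Γ] where
  s : Γ
  κ : Perm (Fin 8) →* Γ
  inj : Function.Injective κ
  s2 : s * s = 1
  s_not : s ∉ κ.range
  comm : ∀ p, κ p * s = s * κ p
  cen : ∀ g, g * s = s * g → g ∈ κ.range ∨ s * g ∈ κ.range
  cls1 : ∀ p, ¬ IsConj s (κ p)
  cls2 : ∀ p, IsConj s (s * κ p) → p = 1 ∨ p.IsSwap ∨ p.cycleType = {2, 2, 2, 2}
  fuse1 : IsConj s (s * κ (swap 0 1))
  fuse4 : IsConj s (s * κ v1)
  cz : ∀ g, g * κ (swap 0 2 * swap 0 1) = κ (swap 0 2 * swap 0 1) * g → g * s = s * g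
  hθ : ∀ d, IsConj s d → d * κ th = κ th * d → d * s * d⁻¹ ≠ s * κ v1

namespace HS2

variable {Γ : Type u} [Group Γ] (h : HS2 Γ)

/-- A generator of the homocyclic group `4³` with the action of `L₃(2) = ⟨ze, ta⟩`. -/
structure Let (b : Γ) : Prop where
  sq : b * b = h.κ v1
  sb : h.s * b * h.s⁻¹ = b⁻¹
  θb : h.κ th * b = b * h.κ th
  c1 : b * (h.κ ze * b * (h.κ ze)⁻¹) = h.κ ze * b * (h.κ ze)⁻¹ * b
  c2 : b * (h.κ (ze ^ 2) * b * (h.κ (ze ^ 2))⁻¹) = h.κ (ze ^ 2) * b * (h.κ (ze ^ 2))⁻¹ * b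
  /-- `b₃ = b₀ b₁³ b₂²`. -/
  z3 : h.κ (ze ^ 3) * b * (h.κ (ze ^ 3))⁻¹ =
    b * (h.κ ze * b * (h.κ ze)⁻¹) ^ 3 * (h.κ (ze ^ 2) * b * (h.κ (ze ^ 2))⁻¹) ^ 2
  t0 : h.κ ta * b * (h.κ ta)⁻¹ = b⁻¹
  t1 : h.κ ta * (h.κ ze * b * (h.κ ze)⁻¹) = h.κ ze * b * (h.κ ze)⁻¹ * h.κ ta

end HS2

end Cfsg.Agent.H3
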