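import Mathlib
import Cfsg.Agent.H3.Defs
import Cfsg.Agent.Sym.Aut
import Cfsg.Agent.Sym.Orbits
import Cfsg.Agent.AP.TFC

/-! Labelled copies of `A₉` in centralisers of elements of order three. -/

set_option autoImplicit false

namespace Cfsg.Agent.H3.PK

open Cfsg.Agent.Sym Subgroup Equiv
open Cfsg.Agent.AP (via_swap via_mul via_via)

universe u

/-- The alternating group of degree `n`. -/
abbrev A (n : ℕ) := alternatingGroup (Fin n)

section Perms

variable {α β : Type*} [DecidableEq α] [DecidableEq β]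

theorem via_cyc3 (e : α ↪ β) (a b c : α) : (cyc3 a b c).viaEmbedding e = cyc3 (e a) (e b) (e c) := by
  rw [cyc3, cyc3, via_mul, via_swap, via_swap]

omit [DecidableEq α] [DecidableEq β] in
theorem conj_via {e e' : α ↪ β} {h : Perm β} (k : ∀ i, h (e i) = e' i) (g : Perm α) :
    h * g.viaEmbedding e * h⁻¹ = g.viaEmbedding e' := by
  rw [mul_inv_eq_iff_eq_mul]
  ext x
  by_cases hx : x ∈ Set.range e
  · obtain ⟨i, rfl⟩ := hx
    rw [Perm.mul_apply, Perm.mul_apply, Perm.viaEmbedding_apply, k, k, Perm.viaEmbedding_apply]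
  · rw [Perm.mul_apply, Perm.mul_apply, Perm.viaEmbedding_apply_of_notMem _ _ _ hx,
      Perm.viaEmbedding_apply_of_notMem]
    rintro ⟨i, hi⟩
    exact hx ⟨i, h.injective (by rw [k, hi])⟩

theorem cyc3_rot {a b c x y z : α} (hab : a ≠ b) (hac : a ≠ c) (hbc : b ≠ c) (hxy : x ≠ y) (hxz : x ≠ z)
    (hyz : y ≠ z) (h : cyc3 a b c = cyc3 x y z) :
    (a = x ∧ b = y ∧ c = z) ∨ (a = y ∧ b = z ∧ c = x) ∨ (a = z ∧ b = x ∧ c = y) := by
  have h1 := cyc3_apply_fst hab hac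
  have h2 := cyc3_apply_snd hac hbc
  rw [h] at h1 h2
  have k1 := cyc3_apply_fst hxy hxz
  have k2 := cyc3_apply_snd hxz hyz
  have k3 := cyc3_apply_thd x y z
  by_cases e1 : a = x
  · subst e1
    obtain rfl := k1.symm.trans h1
    exact Or.inl ⟨rfl, rfl, h2.symm.trans k2⟩
  by_cases e2 : a = y
  · subst e2
    obtain rfl := k2.symm.trans h1
    exact Or.inr (Or.inl ⟨rfl, rfl, h2.symm.trans k3⟩)
  by_cases e3 : a = z
  · subst e3
    obtain rfl := k3.symm.trans h1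
    exact Or.inr (Or.inr ⟨rfl, rfl, h2.symm.trans k1⟩)
  exact absurd ((cyc3_apply_of_ne e1 e2 e3).symm.trans h1) hab

theorem conj_rot {g : Perm α} {a b c x y z : α} (hab : a ≠ b) (hac : a ≠ c) (hbc : b ≠ c) (hxy : x ≠ y) (hxz : x ≠ z)
    (hyz : y ≠ z) (h : g * cyc3 a b c * g⁻¹ = cyc3 x y z) :
    (g a = x ∧ g b = y ∧ g c = z) ∨ (g a = y ∧ g b = z ∧ g c = x) ∨ (g a = z ∧ g b = x ∧ g c = y) :=
  cyc3_rot (g.injective.ne hab) (g.injective.ne hac) (g.injective.ne hbc) hxy hxz hyz ((conj_cyc3 g a b c).symm.trans h)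

/-- A permutation commuting with a 3-cycle acts on its support as a power of it. -/
theorem split3 {g : Perm α} {a b c : α} (hab : a ≠ b) (hac : a ≠ c) (hbc : b ≠ c)
    (h : g * cyc3 a b c = cyc3 a b c * g) :
    ∃ k : ℕ, (cyc3 a b c ^ k * g) a = a ∧ (cyc3 a b c ^ k * g) b = b ∧ (cyc3 a b c ^ k * g) c = c := by
  have k1 := cyc3_apply_fst hab hac
  have k2 := cyc3_apply_snd hac hbc
  have k3 := cyc3_apply_thd a b c
  rcases conj_rot hab hac hbc hab hac hbc (mul_inv_eq_iff_eq_mul.2 h) with ⟨h1, h2, h3⟩ | ⟨h1, h2, h3⟩ | ⟨h1, h2, h3⟩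
  · exact ⟨0, by simp [h1, h2, h3]⟩
  · exact ⟨2, by simp [pow_two, h1, h2, h3, k1, k2, k3]⟩
  · exact ⟨1, by simp [h1, h2, h3, k1, k2, k3]⟩

variable [Fintype α]

/-- An involution commuting with a 3-cycle fixes its support. -/
theorem fix_of_sq {p t : Perm α} (hp : p.IsThreeCycle) (t2 : t * t = 1) (h : t * p = p * t) {x : α} (hx : p x ≠ x) :
    t x = x := by
  obtain ⟨h1, h2, h3, e⟩ := exists_eq_cyc3_of_mem_support hp (Perm.mem_support.2 hx)
  have k : t (t x) = x := by rw [← Perm.mul_apply, t2, Perm.one_apply]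
  rw [e] at h
  rcases conj_rot h1 h2 h3 h1 h2 h3 (mul_inv_eq_iff_eq_mul.2 h) with ⟨a, -, -⟩ | ⟨a, b, -⟩ | ⟨a, -, b⟩
  · exact a
  · rw [a, b] at k; exact absurd k h2.symm
  · rw [a, b] at k; exact absurd k h1.symm

/-- An element inverting a 3-cycle acts as a transposition on its support. -/
theorem label3 {p t : Perm α} (hp : p.IsThreeCycle) (h : t * p * t⁻¹ = p⁻¹) :
    ∃ x y z, x ≠ y ∧ x ≠ z ∧ y ≠ z ∧ p = cyc3 x y z ∧ t x = y ∧ t y = x ∧ t z = z := by
  obtain ⟨a, b, c, hab, hac, hbc, rfl⟩ := exists_eq_cyc3 hp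
  rw [cyc3_inv hab hac hbc] at h
  rcases conj_rot hab hac hbc hac hab hbc.symm h with ⟨h1, h2, h3⟩ | ⟨h1, h2, h3⟩ | ⟨h1, h2, h3⟩
  · exact ⟨b, c, a, hbc, hab.symm, hac.symm, (cyc3_rotate hab hac hbc).symm, h2, h3, h1⟩
  · exact ⟨c, a, b, hac.symm, hbc.symm, hab, ((cyc3_rotate hbc hab.symm hac.symm).trans
      (cyc3_rotate hab hac hbc)).symm, h3, h1, h2⟩
  · exact ⟨a, b, c, hab, hac, hbc, rfl, h1, h2, h3⟩

theorem isConj_alt {p q : alternatingGroup α} (h : (p : Perm α).cycleType = (q : Perm α).cycleType)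
    (hs : (q : Perm α).cycleType.sum + 2 ≤ Fintype.card α) : IsConj p q :=
  alternatingGroup.isConj_of (Perm.isConj_of_cycleType_eq h) (by rwa [← Perm.sum_cycleType, h])

theorem ty_of_three {p : Perm α} (h : orderOf p = 3) (h9 : Fintype.card α < 12) :
    p.cycleType = {3} ∨ p.cycleType = {3, 3} ∨ p.cycleType = {3, 3, 3} := by
  obtain ⟨k, h1, h2, e⟩ := exists_cycleType_of_orderOf_prime Nat.prime_three h
  have : k ≤ 3 := by omega
  rw [e]
  interval_cases k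
  exacts [Or.inl rfl, Or.inr (Or.inl rfl), Or.inr (Or.inr rfl)]

end Perms

theorem mem_of_invol (H : Subgroup (A 6)) (h : ∀ p, p * p = 1 → p ∈ H) (p : A 6) : p ∈ H := by
  have := alternatingGroup.isSimpleGroup (α := Fin 6) (by simp)
  let t : A 6 := ⟨swap 0 1 * swap 2 3, Perm.mem_alternatingGroup.2 (by decide +kernel)⟩
  have h1 : normalClosure {p : A 6 | p * p = 1} ≤ H := (closure_le _).2 fun x hx => by
    obtain ⟨q, hq, e⟩ := Group.mem_conjugatesOfSet_iff.1 hx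
    obtain ⟨g, rfl⟩ := isConj_iff.1 e
    exact h _ (by rw [conj_mul, show q * q = 1 from hq, mul_one, mul_inv_cancel])
  have h2 : t ∈ normalClosure {p : A 6 | p * p = 1} := subset_normalClosure (show t * t = 1 by decide +kernel)
  rcases (normalClosure_normal (s := {p : A 6 | p * p = 1})).eq_bot_or_eq_top with e | e
  · rw [e, mem_bot] at h2
    exact absurd h2 (by decide +kernel)
  · exact h1 (e ▸ mem_top p)

/-- The generators `(0 1 i)`. -/
def cy {n : ℕ} (i : Fin (n + 2)) : A (n + 2) := if h : (1 : Fin (n + 2)) ≠ i then altCyc3 zero_ne_one h else 1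

theorem coe_cy {n : ℕ} {i : Fin (n + 2)} (h : i ≠ 1) : (cy i : Perm (Fin (n + 2))) = cyc3 0 1 i := by
  rw [cy, dif_pos h.symm]; rfl

theorem cy_one {n : ℕ} : cy (1 : Fin (n + 2)) = 1 := dif_neg (by simp)

theorem altEmb_cy {m n : ℕ} (e : Fin (m + 2) ↪ Fin (n + 2)) (h0 : e 0 = 0) (h1 : e 1 = 1) (i : Fin (m + 2)) :
    altEmb e (cy i) = cy (e i) := by
  by_cases h : i = 1
  · rw [h, h1, cy_one, cy_one, map_one]
  · exact Subtype.ext (by rw [coe_altEmb, coe_cy h, coe_cy (h1 ▸ e.injective.ne h), via_cyc3, h0, h1])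

theorem conj_cy {n : ℕ} (e : Perm (Fin (n + 2))) (h0 : e 0 = 0) (h1 : e 1 = 1) (i : Fin (n + 2)) :
    MulAut.conjNormal e (cy i) = cy (e i) := by
  by_cases h : i = 1
  · rw [h, h1, cy_one, map_one]
  · exact Subtype.ext (by rw [MulAut.conjNormal_apply, coe_cy h, coe_cy (h1 ▸ e.injective.ne h), conj_cyc3, h0, h1])

variable {G : Type u} [Group G]

theorem ext_cy {n : ℕ} {f g : A (n + 2) →* G} (h : ∀ i, i ≠ 0 → i ≠ 1 → f (cy i) = g (cy i)) : f = g :=
  MonoidHom.eq_of_eqOn_dense (closure_altCyc3 zero_ne_one) (by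
    rintro _ ⟨i, rfl⟩
    have := h i i.2.1 i.2.2
    rwa [cy, dif_pos i.2.2.symm] at this)

theorem exists_cy {n : ℕ} (x : Fin (n + 2) → G) (h3 : ∀ i, i ≠ 0 → i ≠ 1 → x i ^ 3 = 1)
    (h2 : ∀ i j, i ≠ 0 → i ≠ 1 → j ≠ 0 → j ≠ 1 → i ≠ j → (x i * x j) ^ 2 = 1) :
    ∃ Φ : A (n + 2) →* G, ∀ i, i ≠ 0 → i ≠ 1 → Φ (cy i) = x i :=
  (exists_hom_of_carmichael zero_ne_one x h3 h2).imp fun Φ k i h0 h1 => by rw [cy, dif_pos h1.symm, k i h0]

theorem cy_cube {n : ℕ} (f : A (n + 2) →* G) {i : Fin (n + 2)} (h0 : i ≠ 0) (h1 : i ≠ 1) : f (cy i) ^ 3 = 1 := by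
  rw [← map_pow, show cy i ^ 3 = 1 from Subtype.ext (by
    rw [coe_pow, coe_cy h1]; exact cyc3_pow_three zero_ne_one h0.symm h1.symm), map_one]

theorem cy_sq {n : ℕ} (f : A (n + 2) →* G) {i j : Fin (n + 2)} (h0 : i ≠ 0) (h1 : i ≠ 1) (k0 : j ≠ 0) (k1 : j ≠ 1)
    (h : i ≠ j) : (f (cy i) * f (cy j)) ^ 2 = 1 := by
  rw [← map_mul, ← map_pow, show (cy i * cy j) ^ 2 = 1 from Subtype.ext (by
    rw [coe_pow, coe_mul, coe_cy h1, coe_cy k1]
    exact cyc3_mul_cyc3_sq zero_ne_one h0.symm k0.symm h1.symm h), map_one]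

/-- Conjugating a homomorphism in the target. -/
def cjh {H : Type*} [Group H] (g : G) (k : H →* G) : H →* G := (MulAut.conj g).toMonoidHom.comp k

@[simp] theorem cjh_apply {H : Type*} [Group H] (g : G) (k : H →* G) (p : H) : cjh g k p = g * k p * g⁻¹ := rfl

/-- Relabelling the points. -/
def rel {n : ℕ} (k : A n →* G) (h : Perm (Fin n)) : A n →* G := k.comp (MulAut.conjNormal h).toMonoidHom

theorem rel_apply {n : ℕ} (k : A n →* G) (h : Perm (Fin n)) (p : A n) : rel k h p = k (MulAut.conjNormal h p) := rfl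

theorem rel_eq {n : ℕ} (k : A n →* G) {h : Perm (Fin n)} {p q : A n} (e : h * p * h⁻¹ = q) : rel k h p = k q :=
  congrArg k (Subtype.ext e)

/-- `C(b) = ⟨b⟩ × k(A₉)`. -/
structure Lb (b : G) (k : A 9 →* G) : Prop where
  inj : Function.Injective k
  ord : orderOf b = 3
  comm : ∀ p, k p * b = b * k p
  cen : ∀ g, g * b = b * g → ∃ (m : ℕ) (p : A 9), g = b ^ m * k p

namespace Lb

variable {b : G} {k : A 9 →* G} (L : Lb b k)
include L

theorem cj (g : G) : Lb (g * b * g⁻¹) (cjh g k) where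
  inj := (MulAut.conj g).injective.comp L.inj
  ord := ((MulAut.conj g).orderOf_eq b).trans L.ord
  comm p := by rw [cjh_apply, conj_mul, conj_mul, L.comm]
  cen x hx := by
    obtain ⟨m, p, e⟩ := L.cen (g⁻¹ * x * g) (by
      calc _ = g⁻¹ * (x * (g * b * g⁻¹)) * g := by group
        _ = _ := by rw [hx]; group)
    exact ⟨m, p, by rw [cjh_apply, conj_pow, conj_mul, ← e]; group⟩

theorem rel (h : Perm (Fin 9)) : Lb b (rel k h) where
  inj := L.inj.comp (MulAut.conjNormal h).injective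
  ord := L.ord
  comm _ := L.comm _
  cen x hx := by
    obtain ⟨m, p, e⟩ := L.cen x hx
    exact ⟨m, (MulAut.conjNormal h).symm p, by rw [rel_apply, MulEquiv.apply_symm_apply, e]⟩

theorem comm_pow (p : A 9) (m : ℕ) : k p * b ^ m = b ^ m * k p := (Commute.pow_right (L.comm p) m).eq

theorem pow_eq_one {m : ℕ} {q : A 9} (e : b ^ m = k q) : b ^ m = 1 := by
  have : (q : Perm (Fin 9)) = 1 := eq_one_of_commute_alternatingGroup (by simp) fun x hx =>
    congrArg Subtype.val (L.inj (a₁ := ⟨x, hx⟩ * q) (a₂ := q * ⟨x, hx⟩) (by rw [map_mul, map_mul, ← e, L.comm_pow]))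
  rw [e, show q = 1 from Subtype.ext this, map_one]

theorem mem_of_inv {x d : G} (hx : x * b = b * x) (hd : d * b = b * d) (h : d * x * d⁻¹ = x⁻¹) : ∃ p, k p = x := by
  obtain ⟨m, p, rfl⟩ := L.cen x hx
  obtain ⟨l, q, rfl⟩ := L.cen d hd
  have h1 : b ^ l * k q * (b ^ m * k p) * (b ^ l * k q)⁻¹ = b ^ m * k (q * p * q⁻¹) := by
    rw [mul_inv_eq_iff_eq_mul, mul_assoc (b ^ m), ← mul_assoc _ (b ^ l), L.comm_pow, mul_assoc (b ^ l) (k _) (k q),
      ← map_mul, inv_mul_cancel_right, map_mul, ← mul_assoc, ← mul_assoc, ← mul_assoc, mul_assoc _ (k q), L.comm_pow,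
      ← mul_assoc, ← pow_add, ← pow_add, add_comm]
  have h2 : b ^ (m + m) = k ((q * p * q⁻¹ * p)⁻¹) := by
    rw [h1, eq_inv_iff_mul_eq_one, mul_assoc, ← mul_assoc (k _), L.comm_pow, mul_assoc, ← map_mul, ← mul_assoc,
      ← pow_add] at h
    rw [map_inv]
    exact eq_inv_of_mul_eq_one_left h
  have h3 := L.pow_eq_one h2
  have h4 : b ^ m = 1 := by
    rw [← orderOf_dvd_iff_pow_eq_one, L.ord] at h3 ⊢
    omega
  exact ⟨p, by rw [h4, one_mul]⟩

theorem mem_of_sq {x : G} (hx : x * b = b * x) (h : x * x = 1) : ∃ p, k p = x :=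
  L.mem_of_inv (d := 1) hx (by simp) (by simpa using eq_inv_of_mul_eq_one_left h)

theorem exists_phi {f : A 6 →* G} (hf : ∀ g, f g * b = b * f g) : ∃ φ : A 6 →* A 9, ∀ g, k (φ g) = f g := by
  have h : ∀ g, f g ∈ k.range := mem_of_invol (k.range.comap f) fun g hg =>
    L.mem_of_sq (hf g) (by rw [← map_mul, hg, map_one])
  exact ⟨(MonoidHom.ofInjective L.inj).symm.toMonoidHom.comp (f.codRestrict _ h), fun g =>
    MonoidHom.apply_ofInjective_symm L.inj ⟨f g, h g⟩⟩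

/-- An element of order three centralising a copy of `A₆` is a 3-cycle. -/
theorem main {f : A 6 →* G} (fi : Function.Injective f) (hf : ∀ g, f g * b = b * f g) {a d : G} (a3 : orderOf a = 3)
    (ab : a * b = b * a) (af : ∀ g, f g * a = a * f g) (d2 : d * d = 1) (db : d * b = b * d) (da : d * a * d⁻¹ = a⁻¹) :
    ∃ (φ : A 6 →* A 9) (τ p : A 9) (x y z : Fin 9), (∀ g, k (φ g) = f g) ∧ k τ = d ∧ k p = a ∧ x ≠ y ∧ x ≠ z ∧ y ≠ z ∧
      (p : Perm (Fin 9)) = cyc3 x y z ∧ ((τ : Perm (Fin 9)) x = y ∧ (τ : Perm (Fin 9)) y = x ∧ (τ : Perm (Fin 9)) z = z) ∧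
      ∀ g, (φ g : Perm (Fin 9)) x = x ∧ (φ g : Perm (Fin 9)) y = y ∧ (φ g : Perm (Fin 9)) z = z := by
  obtain ⟨φ, hφ⟩ := L.exists_phi hf
  obtain ⟨τ, rfl⟩ := L.mem_of_sq db d2
  obtain ⟨p, rfl⟩ := L.mem_of_inv ab db da
  have h1 : ∀ g, (φ g : Perm (Fin 9)) * p = p * φ g := fun g =>
    congrArg Subtype.val (L.inj (a₁ := φ g * p) (a₂ := p * φ g) (by rw [map_mul, map_mul, hφ, af]))
  have h2 : 360 ≤ Nat.card (centralizer {(p : Perm (Fin 9))}) := by
    have := Nat.card_le_card_of_injective (fun g : A 6 => (⟨φ g, mem_centralizer_singleton_iff.2 (h1 g)⟩ :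
      centralizer {(p : Perm (Fin 9))})) fun g g' e => fi (by
        rw [← hφ, ← hφ, show φ g = φ g' from Subtype.ext (Subtype.mk.inj e)])
    rwa [nat_card_alternatingGroup, Nat.card_fin] at this
  have h3 : (p : Perm (Fin 9)).IsThreeCycle := by
    rw [orderOf_injective k L.inj, ← orderOf_coe] at a3
    rcases ty_of_three a3 (by simp) with e | e | e
    · exact e
    · rw [card_centralizer_of_cycleType_replicate (k := 2) (p := 3) e] at h2
      exact absurd h2 (by decide)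
    · rw [card_centralizer_of_cycleType_replicate (k := 3) (p := 3) e] at h2
      exact absurd h2 (by decide)
  obtain ⟨x, y, z, hxy, hxz, hyz, e, ht⟩ := label3 h3 (t := τ) (congrArg Subtype.val
    (L.inj (a₁ := τ * p * τ⁻¹) (a₂ := p⁻¹) (by rw [map_mul, map_mul, map_inv, map_inv, da])))
  have h4 : ∀ w, (p : Perm (Fin 9)) w ≠ w → ∀ g, (φ g : Perm (Fin 9)) w = w := fun w hw =>
    mem_of_invol ((MulAction.stabilizer (Perm (Fin 9)) w).comap ((alternatingGroup _).subtype.comp φ))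
      fun g hg => fix_of_sq h3 (by rw [← coe_mul, ← map_mul, hg, map_one, coe_one]) (h1 g) hw
  refine ⟨φ, τ, p, x, y, z, hφ, rfl, rfl, hxy, hxz, hyz, e, ht, fun g => ⟨h4 _ ?_ g, h4 _ ?_ g, h4 _ ?_ g⟩⟩
  · rw [e, cyc3_apply_fst hxy hxz]; exact hxy.symm
  · rw [e, cyc3_apply_snd hxz hyz]; exact hyz.symm
  · rw [e, cyc3_apply_thd]; exact hxz

end Lb

end Cfsg.Agent.H3.PK
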