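import Mathlib
import Cfsg.Agent.H3.Defs
import Cfsg.Agent.H3.PK

/-! The subgroup `A₁₂` (PLAN section D). -/

set_option autoImplicit false

namespace Cfsg.Agent.H3

open Cfsg.Agent.Rec Cfsg.Agent.Inv.Fz Cfsg.Agent.T3 Subgroup Equiv
open scoped commutatorElement
open Cfsg.Agent.Sym PK
open Cfsg.Agent.AP (via_swap via_mul via_via via_inj)

universe u

variable {G : Type u} [Group G]

theorem NoFour.conj {x y : G} (h : NoFour x) (c : IsConj x y) : NoFour y := by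
  obtain ⟨g, rfl⟩ := isConj_iff.1 c
  intro p q p2 q2 pq px qx
  have k : ∀ {r : G}, r * (g * x * g⁻¹) = g * x * g⁻¹ * r → g⁻¹ * r * g * x = x * (g⁻¹ * r * g) := fun {r} e => by
    calc _ = g⁻¹ * (r * (g * x * g⁻¹)) * g := by group
      _ = _ := by rw [e]; group
  have m : ∀ r s : G, g⁻¹ * r * g * (g⁻¹ * s * g) = g⁻¹ * (r * s) * g := fun r s => by group
  have := h (g⁻¹ * p * g) (g⁻¹ * q * g) (by rw [m, p2]; group) (by rw [m, q2]; group) (by rw [m, m, pq]) (k px) (k qx)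
  simpa [mul_assoc, inv_mul_eq_one, inv_mul_eq_iff_eq_mul] using this

namespace DA

def ι : Fin 6 ↪ Fin 9 := ⟨![0, 1, 2, 3, 4, 5], by decide⟩
def ι' : Fin 6 ↪ Fin 9 := ⟨![0, 1, 2, 6, 7, 8], by decide⟩
def ι'' : Fin 6 ↪ Fin 9 := ⟨![1, 0, 2, 3, 4, 5], by decide⟩
def E4 : Fin 9 ↪ Fin 12 := ⟨![0, 1, 2, 3, 4, 5, 6, 7, 8], by decide⟩
def E3 : Fin 9 ↪ Fin 12 := ⟨![0, 1, 2, 3, 4, 5, 9, 10, 11], by decide⟩
def E2 : Fin 9 ↪ Fin 12 := ⟨![0, 1, 2, 6, 7, 8, 9, 10, 11], by decide⟩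
def rt : Fin 12 → Fin 9 := ![0, 1, 2, 3, 4, 5, 6, 7, 8, 6, 7, 8]
def sw : Perm (Fin 9) := swap 3 6 * swap 4 7 * swap 5 8
def TT : A 9 := ⟨swap 0 1 * swap 6 7, Perm.mem_alternatingGroup.2 (by decide +kernel)⟩
def P1 : A 9 := ⟨swap 3 4 * swap 5 6, Perm.mem_alternatingGroup.2 (by decide +kernel)⟩
def P2 : A 9 := ⟨swap 3 5 * swap 4 6, Perm.mem_alternatingGroup.2 (by decide +kernel)⟩
def c6 : A 6 := ⟨cyc3 3 4 5, Perm.mem_alternatingGroup.2 (by decide +kernel)⟩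
def t6 : A 6 := ⟨swap 0 1 * swap 3 4, Perm.mem_alternatingGroup.2 (by decide +kernel)⟩

theorem coe_d3 : (d3 : Perm (Fin 9)) = cyc3 6 7 8 := by decide +kernel

theorem emb_c6 : altEmb ι c6 = d2 := Subtype.ext ((via_cyc3 ι 3 4 5).trans (by decide +kernel))
theorem emb_c6' : altEmb ι' c6 = d3 := Subtype.ext ((via_cyc3 ι' 3 4 5).trans (by decide +kernel))
theorem emb_t6 : altEmb ι' t6 = TT := Subtype.ext (by
  rw [coe_altEmb, t6, via_mul, via_swap, via_swap]; decide +kernel)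

theorem emb_comm {m n : ℕ} (e : Fin m ↪ Fin n) {q : A n} (h : ∀ i, (q : Perm (Fin n)) (e i) = e i) (g : A m) :
    altEmb e g * q = q * altEmb e g := Subtype.ext (mul_inv_eq_iff_eq_mul.1 (conj_via h g)).symm

theorem exists_emb (φ : A 6 →* A 9) (hi : Function.Injective φ) (h : (φ (cy 2) : Perm (Fin 9)).IsThreeCycle) :
    ∃ e : Fin 6 ↪ Fin 9, ∀ g, φ g = altEmb e g :=
  (exists_embedding_of_isThreeCycle (by simp) ((alternatingGroup _).subtype.comp φ) (Subtype.val_injective.comp hi)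
    fun g hg => isThreeCycle_of_isConj h (((alternatingGroup _).subtype.comp φ).map_isConj
      (isConj_alt (Eq.trans (by decide +kernel) hg.symm) (by rw [hg]; decide)))).imp fun _ k g => Subtype.ext (k g)

theorem not_four {k : A 9 →* G} (hk : Function.Injective k) {x : G} (h1 : k P1 * x = x * k P1) (h2 : k P2 * x = x * k P2) :
    ¬ NoFour x := fun h => by
  rcases h _ _ (by rw [← map_mul, show P1 * P1 = 1 by decide +kernel, map_one])
    (by rw [← map_mul, show P2 * P2 = 1 by decide +kernel, map_one])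
    (by rw [← map_mul, show P1 * P2 = P2 * P1 by decide +kernel, map_mul]) h1 h2 with e | e | e
  · exact absurd (hk (e.trans k.map_one.symm)) (by decide +kernel)
  · exact absurd (hk (e.trans k.map_one.symm)) (by decide +kernel)
  · exact absurd (hk e) (by decide +kernel)

variable (n : N9 G)

theorem lb : Lb n.a n.κ := ⟨n.inj, n.ord, n.comm, n.cen⟩

theorem isConj_ty {p q : A 9} (h : (p : Perm (Fin 9)).cycleType = (q : Perm (Fin 9)).cycleType) :
    IsConj (n.κ p) (n.κ q) := by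
  obtain ⟨g, e⟩ := isConj_iff.1 (Perm.isConj_of_cycleType_eq h)
  by_cases hg : g ∈ alternatingGroup (Fin 9)
  · exact n.κ.map_isConj (isConj_iff.2 ⟨⟨g, hg⟩, Subtype.ext e⟩)
  · have h1 : swap 0 1 * g ∈ alternatingGroup (Fin 9) := by
      rw [Perm.mem_alternatingGroup, map_mul, sign_eq_neg_one_of_not_mem hg, Perm.sign_swap (by decide)]; rfl
    refine (n.κ.map_isConj (isConj_iff.2 ⟨⟨_, h1⟩, rfl⟩)).trans (isConj_iff.2 ⟨n.d, (n.dκ _).trans (congrArg _ ?_)⟩)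
    refine Subtype.ext ?_
    rw [MulAut.conjNormal_apply, ← e]
    simp [mul_assoc]

theorem no4 {p : A 9} (h : (p : Perm (Fin 9)).cycleType = {3, 3, 3}) : NoFour (n.κ p) :=
  n.no4.conj (isConj_ty n (Eq.trans (by decide +kernel) h.symm))

/-- The second and third block exchanged. -/
def flip : N9 G where
  a := n.a
  d := n.d
  κ := rel n.κ sw
  inj := ((lb n).rel sw).inj
  ord := n.ord
  comm := ((lb n).rel sw).comm
  cen := ((lb n).rel sw).cen
  d_sq := n.d_sq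
  da := n.da
  dκ p := by
    rw [rel_apply, rel_apply, n.dκ, ← MulAut.mul_apply, ← MulAut.mul_apply, ← map_mul, ← map_mul,
      show swap 0 1 * sw = sw * swap 0 1 by decide +kernel]
  conj1 := n.conj1.trans (isConj_ty n (by decide +kernel))
  conj2 := n.conj2.trans (isConj_ty n (by decide +kernel))
  no4 := no4 n (by decide +kernel)

theorem exists_k : ∃ k : A 9 →* G, Lb (n.κ d3) k ∧ (∀ g, k (altEmb ι g) = n.κ (altEmb ι g)) ∧ k d3 = n.a ∧
    k TT = n.d := by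
  obtain ⟨g, hg⟩ := isConj_iff.1 (n.conj1.trans (isConj_ty n (q := d3) (by decide +kernel)))
  have L := (lb n).cj g
  rw [hg] at L
  have h4 : ∀ p : A 9, (p : Perm (Fin 9)).cycleType = {3, 3, 3} → NoFour (cjh g n.κ p) := fun p hp =>
    (no4 n hp).conj (isConj_iff.2 ⟨g, rfl⟩)
  generalize cjh g n.κ = k at L h4
  obtain ⟨φ, τ, p, x, y, z, hφ, hτ, hp, hxy, hxz, hyz, ep, ⟨t1, t2, t3⟩, hf⟩ :=
    L.main (f := n.κ.comp (altEmb ι)) (n.inj.comp (altEmb_injective ι))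
      (fun g => by rw [MonoidHom.comp_apply, ← map_mul, emb_comm ι (by decide +kernel), map_mul]) n.ord (n.comm _).symm
      (fun g => n.comm _) n.d_sq (mul_inv_eq_iff_eq_mul.1 ((n.dκ d3).trans (congrArg _ (by decide +kernel)))) n.da
  simp only [MonoidHom.comp_apply] at hφ
  have φi : Function.Injective φ := fun a b e => altEmb_injective ι (n.inj (by rw [← hφ, ← hφ, e]))
  have h1 : k (φ (cy 2)) = n.κ (cy 2) := by rw [hφ, altEmb_cy ι rfl rfl]; rfl
  have c1 : n.κ P1 * n.κ (cy 2) = n.κ (cy 2) * n.κ P1 := by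
    rw [← map_mul, show P1 * cy 2 = cy 2 * P1 by decide +kernel, map_mul]
  have c2 : n.κ P2 * n.κ (cy 2) = n.κ (cy 2) * n.κ P2 := by
    rw [← map_mul, show P2 * cy 2 = cy 2 * P2 by decide +kernel, map_mul]
  obtain ⟨e, he⟩ := exists_emb φ φi (by
    rcases ty_of_three (p := (φ (cy 2) : Perm (Fin 9))) (by
      rw [orderOf_coe, orderOf_injective φ φi]
      exact orderOf_eq_prime (by decide +kernel) (by decide +kernel)) (by simp) with h | h | h
    · exact h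
    · refine absurd (h4 (φ (cy 2) * p) ?_) ?_
      · rw [coe_mul, Perm.Disjoint.cycleType_mul, h, ep, isThreeCycle_cyc3 hxy hxz hyz]
        · rfl
        · intro w
          by_cases e1 : w = x
          · exact Or.inl (e1 ▸ (hf _).1)
          by_cases e2 : w = y
          · exact Or.inl (e2 ▸ (hf _).2.1)
          by_cases e3 : w = z
          · exact Or.inl (e3 ▸ (hf _).2.2)
          exact Or.inr (ep ▸ cyc3_apply_of_ne e1 e2 e3)
      · rw [map_mul, h1, hp]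
        exact not_four n.inj (Commute.mul_right c1 (n.comm _)) (Commute.mul_right c2 (n.comm _))
    · exact absurd (h1 ▸ h4 _ h) (not_four n.inj c1 c2))
  have h2 : ∀ i, (φ (cy 2 * c6) : Perm (Fin 9)) (e i) ≠ e i := fun i => by
    rw [he, coe_altEmb, Perm.viaEmbedding_apply]
    exact e.injective.ne ((by decide +kernel : ∀ i, ((cy 2 * c6 : A 6) : Perm (Fin 6)) i ≠ i) i)
  obtain ⟨h, hh⟩ := Perm.exists_extending_pair (f := Sum.elim ι ![6, 7, 8]) (g := Sum.elim e ![x, y, z])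
    (by decide) (e.injective.sumElim (by
      intro i j
      fin_cases i <;> fin_cases j <;> simp [hxy, hxz, hyz, hxy.symm, hxz.symm, hyz.symm]) fun i j k => by
        refine h2 i ?_
        rw [k]
        fin_cases j
        exacts [(hf _).1, (hf _).2.1, (hf _).2.2])
  have g6 : h 6 = x := hh (Sum.inr 0)
  have g7 : h 7 = y := hh (Sum.inr 1)
  have g8 : h 8 = z := hh (Sum.inr 2)
  have h3 : ∀ g, rel k h (altEmb ι g) = n.κ (altEmb ι g) := fun g => by
    rw [rel_eq k (q := altEmb e g) (conj_via (fun i => hh (Sum.inl i)) _), ← he, hφ]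
  have L' := L.rel h
  refine ⟨rel k h, L', h3, by rw [rel_eq k (q := p) (by rw [coe_d3, conj_cyc3, g6, g7, g8, ep]), hp], ?_⟩
  have h5 : rel k h (MulAut.conjNormal h⁻¹ τ) = n.d := by rw [rel_eq k (q := τ) (by simp [mul_assoc]), hτ]
  obtain ⟨q, hq⟩ := AP.TFC.exists_via ι (u := (TT : Perm (Fin 9))⁻¹ * (h⁻¹ * τ * h⁻¹⁻¹)) fun b hb => by
    rw [Perm.mul_apply, Perm.inv_eq_iff_eq, inv_inv, Perm.mul_apply, Perm.mul_apply, Perm.inv_eq_iff_eq]
    rcases (by decide : ∀ b, b ∉ Set.range ι → b = 6 ∨ b = 7 ∨ b = 8) b hb with rfl | rfl | rfl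
    · rw [g6, t1, ← g7]; rfl
    · rw [g7, t2, ← g6]; rfl
    · rw [g8, t3, ← g8]; rfl
  have h6 : q = 1 := eq_one_of_commute_alternatingGroup (by simp) fun w hw => by
    have k1 : MulAut.conjNormal (swap (0 : Fin 9) 1) (altEmb ι ⟨w, hw⟩) =
        altEmb ι (MulAut.conjNormal (swap (0 : Fin 6) 1) ⟨w, hw⟩) := Subtype.ext (by
      rw [MulAut.conjNormal_apply, coe_altEmb, coe_altEmb, MulAut.conjNormal_apply, via_mul, via_mul, swap_inv, swap_inv,
        via_swap]; rfl)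
    have k2 := congrArg Subtype.val (L'.inj (a₁ := MulAut.conjNormal h⁻¹ τ * altEmb ι ⟨w, hw⟩ *
      (MulAut.conjNormal h⁻¹ τ)⁻¹) (a₂ := MulAut.conjNormal (swap (0 : Fin 9) 1) (altEmb ι ⟨w, hw⟩)) (by
        rw [map_mul, map_mul, map_inv (rel k h), h5, h3, n.dκ, k1, h3]))
    rw [coe_mul, coe_mul, coe_inv, MulAut.conjNormal_apply, MulAut.conjNormal_apply, coe_altEmb,
      conj_via (e' := ι'') (h := swap 0 1) (by decide +kernel),
      ← conj_via (e := ι) (e' := ι'') (h := (TT : Perm (Fin 9))) (by decide +kernel)] at k2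
    refine via_inj ι ?_
    rw [via_mul, via_mul, hq, mul_assoc (TT : Perm (Fin 9))⁻¹, mul_inv_eq_iff_eq_mul.1 k2]
    group
  rw [h6, show (1 : Perm (Fin 6)).viaEmbedding ι = 1 from map_one (Perm.viaEmbeddingHom ι), eq_comm,
    inv_mul_eq_one] at hq
  rw [← h5]
  exact congrArg _ (Subtype.ext hq)

theorem agree {k k' : A 9 →* G} (L : Lb (n.κ d3) k) (h1 : ∀ g, k (altEmb ι g) = n.κ (altEmb ι g)) (h2 : k d3 = n.a)
    (h3 : k TT = n.d) (i' : Function.Injective k') (k1 : ∀ g, k' (altEmb ι g) = rel n.κ sw (altEmb ι g))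
    (k2 : k' d3 = n.a) (k3 : k' TT = n.d) (g : A 6) : k (altEmb ι' g) = k' (altEmb ι' g) := by
  obtain ⟨φ, hφ⟩ := L.exists_phi (f := k'.comp (altEmb ι')) fun g => by
    rw [← rel_eq n.κ (h := sw) (p := d2) (q := d3) (by decide +kernel), ← emb_c6, ← k1, emb_c6, MonoidHom.comp_apply,
      ← map_mul, emb_comm ι' (by decide +kernel), map_mul]
  simp only [MonoidHom.comp_apply] at hφ
  have e1 : φ (cy 2) = cy 2 := L.inj (by
    have a1 : altEmb ι (cy 2) = cy 2 := altEmb_cy ι rfl rfl 2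
    have a2 : altEmb ι' (cy 2) = cy 2 := altEmb_cy ι' rfl rfl 2
    rw [hφ, a2, ← a1, k1, h1, a1, rel_eq n.κ (q := cy 2) (by decide +kernel)])
  have e2 : φ c6 = d3 := L.inj (by rw [hφ, emb_c6', k2, h2])
  have e3 : φ t6 = TT := L.inj (by rw [hφ, emb_t6, k3, h3])
  obtain ⟨e, he⟩ := exists_emb φ (fun a b e => altEmb_injective ι' (i' (by rw [← hφ, ← hφ, e])))
    (by rw [e1, Perm.IsThreeCycle]; decide +kernel)
  rw [he] at e1 e2 e3
  have f1 : cyc3 (e 0) (e 1) (e 2) = cyc3 0 1 2 := by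
    rw [← via_cyc3, ← coe_cy (by decide), ← coe_cy (by decide), ← e1, coe_altEmb]
  have f2 : cyc3 (e 3) (e 4) (e 5) = cyc3 6 7 8 := by rw [← via_cyc3, ← coe_d3, ← e2]; rfl
  have f3 : (TT : Perm (Fin 9)) (e 2) = e 2 := by rw [← e3, coe_altEmb, Perm.viaEmbedding_apply]; rfl
  have f4 : (TT : Perm (Fin 9)) (e 5) = e 5 := by rw [← e3, coe_altEmb, Perm.viaEmbedding_apply]; rfl
  have d := fun i j (h : i ≠ j) => e.injective.ne h
  have : e = ι' := by
    rcases cyc3_rot (d _ _ (by decide)) (d _ _ (by decide)) (d _ _ (by decide)) (by decide) (by decide) (by decide) f1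
      with ⟨a0, a1, a2⟩ | ⟨-, -, a⟩ | ⟨-, -, a⟩
    · rcases cyc3_rot (d _ _ (by decide)) (d _ _ (by decide)) (d _ _ (by decide)) (by decide) (by decide) (by decide) f2
        with ⟨a3, a4, a5⟩ | ⟨-, -, a⟩ | ⟨-, -, a⟩
      · ext i : 1
        fin_cases i
        exacts [a0, a1, a2, a3, a4, a5]
      · exact absurd (a ▸ f4) (by decide +kernel)
      · exact absurd (a ▸ f4) (by decide +kernel)
    · exact absurd (a ▸ f3) (by decide +kernel)
    · exact absurd (a ▸ f3) (by decide +kernel)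
  rw [← hφ, he, this]

theorem exists_Φ : ∃ Φ : A 12 →* G, (∀ p, Φ (altEmb E4 p) = n.κ p) ∧ Φ cc = n.a ∧ n.d ∈ Φ.range := by
  obtain ⟨k, L, h1, h2, h3⟩ := exists_k n
  obtain ⟨k', L', k1, k2, k3⟩ := exists_k (flip n)
  have h4 := agree n L h1 h2 h3 L'.inj k1 k2 k3
  let x : Fin 12 → G := fun i => if i < 9 then n.κ (cy (rt i)) else k (cy (rt i))
  have x4 : ∀ i, x (E4 i) = n.κ (cy i) := fun i => by
    obtain ⟨a, b⟩ := (by decide : ∀ i, E4 i < 9 ∧ rt (E4 i) = i) i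
    simp only [x, if_pos a, b]
  have x3 : ∀ i, x (E3 i) = k (cy i) := fun i => by
    rcases (by decide : ∀ i, rt (E3 i) = i ∧ (¬ E3 i < 9 ∨ E3 i < 9 ∧ ∃ j, ι j = i)) i with ⟨b, a | ⟨a, j, rfl⟩⟩
    · simp only [x, if_neg a, b]
    · simp only [x, if_pos a, b]
      rw [← altEmb_cy ι rfl rfl, h1]
  have x2 : ∀ i, x (E2 i) = k' (cy i) := fun i => by
    rcases (by decide +kernel : ∀ i, (¬ E2 i < 9 ∧ rt (E2 i) = i ∧ ∃ j, ι' j = i) ∨
      E2 i < 9 ∧ rt (E2 i) = sw i ∧ ∃ j, ι j = i) i with ⟨a, b, j, rfl⟩ | ⟨a, b, j, rfl⟩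
    · simp only [x, if_neg a, b]
      rw [← altEmb_cy ι' rfl rfl, h4]
    · simp only [x, if_pos a, b]
      rw [← conj_cy sw (by decide +kernel) (by decide +kernel), ← altEmb_cy ι rfl rfl, k1]
      rfl
  have key : ∀ i j : Fin 12, ∃ (E : Fin 9 ↪ Fin 12) (f : A 9 →* G), E 0 = 0 ∧ E 1 = 1 ∧ (∀ i, x (E i) = f (cy i)) ∧
      (∃ p, E p = i) ∧ ∃ q, E q = j := fun i j => by
    rcases (by decide +kernel : ∀ i j : Fin 12, ((∃ p, E4 p = i) ∧ ∃ q, E4 q = j) ∨ ((∃ p, E3 p = i) ∧ ∃ q, E3 q = j) ∨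
      ((∃ p, E2 p = i) ∧ ∃ q, E2 q = j)) i j with h | h | h
    exacts [⟨E4, _, rfl, rfl, x4, h⟩, ⟨E3, _, rfl, rfl, x3, h⟩, ⟨E2, _, rfl, rfl, x2, h⟩]
  obtain ⟨Φ, hΦ⟩ := exists_cy x (fun i h0 h1 => by
    obtain ⟨E, f, e0, e1, hx, ⟨p, rfl⟩, -⟩ := key i i
    rw [hx]
    exact cy_cube f (fun e => h0 (e ▸ e0)) fun e => h1 (e ▸ e1)) fun i j h0 h1 k0 k1 h => by
      obtain ⟨E, f, e0, e1, hx, ⟨p, rfl⟩, q, rfl⟩ := key i j
      rw [hx, hx]
      exact cy_sq f (fun e => h0 (e ▸ e0)) (fun e => h1 (e ▸ e1)) (fun e => k0 (e ▸ e0)) (fun e => k1 (e ▸ e1))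
        fun e => h (e ▸ rfl)
  have ag : ∀ (E : Fin 9 ↪ Fin 12) (f : A 9 →* G), E 0 = 0 → E 1 = 1 → (∀ i, x (E i) = f (cy i)) →
      ∀ p, Φ (altEmb E p) = f p := fun E f e0 e1 hx =>
    DFunLike.congr_fun (ext_cy (f := Φ.comp (altEmb E)) fun i h0 h1 => by
      rw [MonoidHom.comp_apply, altEmb_cy E e0 e1, hΦ _ (e0 ▸ E.injective.ne h0) (e1 ▸ E.injective.ne h1), hx])
  refine ⟨Φ, ag E4 _ rfl rfl x4, ?_, _, (ag E3 _ rfl rfl x3 TT).trans h3⟩
  rw [← h2, ← ag E3 _ rfl rfl x3]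
  exact congrArg _ (Subtype.ext (by rw [coe_altEmb, coe_d3, via_cyc3]; decide +kernel))

end DA

variable [Finite G]

set_option linter.unusedSectionVars false in
open DA in
theorem N9.exists_a12 (n : N9 G) : Nonempty (A12 G) := by
  obtain ⟨Φ, h1, h2, hd⟩ := exists_Φ n
  have hc : ∀ c : A 12, (c : Perm (Fin 12)).IsThreeCycle → IsConj cc c := fun c hc =>
    isConj_alt (Eq.trans (by decide +kernel) hc.symm) (by rw [hc]; decide)
  have h3 : ∀ g, g * n.a = n.a * g → g ∈ Φ.range := fun g hg => by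
    obtain ⟨m, p, rfl⟩ := n.cen g hg
    exact mul_mem (pow_mem (MonoidHom.mem_range.2 ⟨_, h2⟩) m) ⟨_, h1 p⟩
  have h4 : ∀ (p : A 9) (y : A 12), (p : Perm (Fin 9)).cycleType = (y : Perm (Fin 12)).cycleType →
      IsConj (n.κ p) (Φ y) := fun p y e => h1 p ▸ Φ.map_isConj (isConj_alt (by
        rw [coe_altEmb, cycleType_viaEmbedding, e]) (by
        have := (p : Perm (Fin 9)).sum_cycleType ▸ (p : Perm (Fin 9)).support.card_le_univ
        rw [← e]
        simp only [Fintype.card_fin] at this ⊢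
        omega))
  refine ⟨⟨Φ, ?_, fun c c3 g hg => ?_, fun c y c3 hy => ?_, fun c y c3 hy e => ?_⟩⟩
  · have := alternatingGroup.isSimpleGroup (α := Fin 12) (by simp)
    refine (MonoidHom.ker_eq_bot_iff Φ).1 ((Φ.normal_ker.eq_bot_or_eq_top).resolve_right fun e => ?_)
    have h5 := n.ord
    rw [← h2, show Φ cc = 1 from (e ▸ mem_top cc : cc ∈ Φ.ker), orderOf_one] at h5
    omega
  · obtain ⟨h, rfl⟩ := isConj_iff.1 (hc c c3)
    rw [map_mul, map_mul, map_inv, h2] at hg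
    have hh : Φ h ∈ Φ.range := ⟨h, rfl⟩
    rw [← mul_mem_cancel_right hh, ← mul_mem_cancel_left (inv_mem hh)]
    rcases hg with e | e
    · refine h3 _ (mul_inv_eq_iff_eq_mul.1 ?_)
      calc _ = (Φ h)⁻¹ * (g * (Φ h * n.a * (Φ h)⁻¹) * g⁻¹) * Φ h := by group
        _ = _ := by rw [e]; group
    · rw [← mul_mem_cancel_left (inv_mem hd)]
      refine h3 _ (mul_inv_eq_iff_eq_mul.1 ?_)
      calc _ = n.d⁻¹ * ((Φ h)⁻¹ * (g * (Φ h * n.a * (Φ h)⁻¹) * g⁻¹) * Φ h) * n.d := by group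
        _ = n.d⁻¹ * n.a⁻¹ * n.d := by rw [e]; group
        _ = _ := by rw [← n.da]; group
  · exact (h2 ▸ Φ.map_isConj (hc c c3)).symm.trans (n.conj2.trans (h4 _ y (Eq.trans (by decide +kernel) hy.symm)))
  · exact not_four n.inj (n.comm _) (n.comm _) (n.no4.conj ((h4 _ y (Eq.trans (by decide +kernel) hy.symm)).trans
      (e.symm.trans (h2 ▸ Φ.map_isConj (hc c c3)).symm)))

end Cfsg.Agent.H3
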