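import Mathlib
import Cfsg.Agent.H3.Defs
import Cfsg.Agent.H3.B0D
import Cfsg.Agent.Rec.Misc

/-! Codes for the group generated by the letters of a frame (order 2916), and its listed subgroups. -/

set_option autoImplicit false
set_option synthInstance.maxSize 100000
set_option synthInstance.maxHeartbeats 1000000
set_option linter.unusedSectionVars false

namespace Cfsg.Agent.H3

open Cfsg.Agent.Spor Cfsg.Agent.Rec Cfsg.Agent.Inv.Fz Cfsg.Agent.T3 Subgroup B0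
open scoped commutatorElement

universe u

namespace B0

/-- The codes for `GL₅(3)`. -/
noncomputable def C0 : Cod A (GL (Fin 5) (ZMod 3)) :=
  pairCod (NM.F3x5.spec.model (Equiv.refl _)) (matSpec_lt _ _) A_ok

theorem cod {G : Type u} [Group G] {e : List G} (hl : e.length = 10) (hs : Sat rel2 e) (hz : nth 1 e 4 ≠ 1) :
    ∃ C : Cod A G, C.RepL cL e := by
  obtain ⟨e₀, h₀⟩ : ∃ e, C0.RepL cL e := ⟨_, repL_pair _ _ A_ok cL_ok⟩
  have hl₀ : e₀.length = 10 := h₀.length_eq.symm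
  match e₀, hl₀, h₀ with
  | [i, i', s, s', z, z', y, y', w, w'], hl₀, h₀ =>
  refine pres2.cod_of_normal h₀ (h₀.sat rel2_ok) hl₀ (h₀.gen L_ok).2 (W := [[4]]) (fun K hK hn h1 => ?_) hs hl
    (by simpa using hz)
  have gJ := ((h₀.nth 4).cons <| (h₀.nth 6).cons <| (h₀.term (i * y * i') (by decide +kernel)).cons <|
    (h₀.nth 2).cons Cod.repL_nil).gen J_ok
  have hL := h₀.lists.cons ((h₀.gen L_ok).1.cons (gJ.1.cons Cod.listsL_nil))
  have hc := gJ.2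
  clear gJ
  generalize clos [nth 1 _ 4, nth 1 _ 6, i * y * i', nth 1 _ 2] = R at hL hc
  have hF : Finite R := Nat.finite_of_card_ne_zero (by rw [hc]; norm_num)
  have h0 : ∀ x ∈ {x | x ∈ [i, i', s, s', z, z', y, y', w, w']}, ∀ r ∈ R, x * r * x⁻¹ ∈ R :=
    hL.decide h₀ (by decide +kernel)
  have h3 : R ≤ clos [i, i', s, s', z, z', y, y', w, w'] := hL.decide h₀ (by decide +kernel)
  have h4 : y ∈ R ∧ i * y * i' ∈ R ∧ s ∈ R ∧ ∀ g ∈ clos [i, i', s, s', z, z', y, y', w, w'], g * y = y * g →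
      g * s = s * g → g * (i * y * i') = i * y * i' * g → g ∈ R := hL.decide h₀ (by decide +kernel)
  obtain ⟨⟨k, hk, hq⟩, hk1⟩ := ne_bot_iff_exists_ne_one.1 (inf_ne_bot_of_self_centralizing (R := R) h3
    (fun g hg => le_normalizer_clos h0 hg) (fun g hg hc => h4.2.2.2 g hg (hc _ h4.1) (hc _ h4.2.2.1) (hc _ h4.2.1)) hK hn h1)
  replace hk : k ∈ K := hk
  have h2 : ∀ k ∈ R, k ≠ 1 → Let (w * k * w⁻¹ * k⁻¹) fun l => Let (i * w * i') fun v => Let (v * k * v⁻¹ * k⁻¹) fun m =>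
      Let (v * l * v⁻¹ * l⁻¹) fun n => k = z ∨ k⁻¹ = z ∨ l = z ∨ l⁻¹ = z ∨ m = z ∨ m⁻¹ = z ∨ n = z ∨ n⁻¹ = z :=
    hL.decide h₀ (by decide +kernel)
  have hw : w ∈ clos [i, i', s, s', z, z', y, y', w, w'] := mem_clos (by simp)
  have hv : i * w * i' ∈ clos [i, i', s, s', z, z', y, y', w, w'] :=
    mul_mem (mul_mem (mem_clos (by simp)) hw) (mem_clos (by simp))
  have hl := K.mul_mem (hn w hw k hk) (K.inv_mem hk)
  have hm := K.mul_mem (hn _ hv k hk) (K.inv_mem hk)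
  have hn := K.mul_mem (hn _ hv _ hl) (K.inv_mem hl)
  suffices z ∈ K by simpa using this
  rcases h2 k hq (fun h => hk1 (Subtype.ext h)) with e | e | e | e | e | e | e | e <;> rw [← e]
  exacts [hk, K.inv_mem hk, hl, K.inv_mem hl, hm, K.inv_mem hm, hn, K.inv_mem hn]

end B0

variable {G : Type u} [Group G]

theorem Q3_comm {z q : G} (hq : q ∈ Q3 z) : q * z = z * q := mem_centralizer_singleton_iff.1 (map_subtype_le _ hq)

theorem Q3_norm {z g : G} (hg : g * z = z * g) : g ∈ normalizer (Q3 z : Set G) :=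
  GT.le_normalizer_pCoreOf _ (mem_centralizer_singleton_iff.2 hg)

theorem Q3_conj {z g q : G} (hg : g * z = z * g) (hq : q ∈ Q3 z) : g * q * g⁻¹ ∈ Q3 z :=
  (mem_normalizer_iff.1 (Q3_norm hg) q).1 hq

namespace Fm

variable (F : Fm G)

theorem sat : Sat rel2 [F.i, F.i⁻¹, F.s, F.s⁻¹, F.z, F.z⁻¹, F.y, F.y⁻¹, F.w, F.w⁻¹] := by
  have h1 := F.ln.s3
  have h2 := F.cz.es.z_pow
  have h3 := F.cz.exp _ F.yQ
  have h4 := F.cz.exp _ F.wQ
  have h5 := F.ln.i4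
  simp only [pow_succ, pow_zero, one_mul, mul_assoc] at h1 h2 h3 h4 h5
  simp only [rel2, rel1, ex2, List.cons_append, List.nil_append, sat_cons, sat_nil, evalW_cons, evalW_nil, nth_zero,
    nth_succ, mul_one, and_true, mul_inv_cancel, inv_mul_cancel, true_and, h1, h2, h3, h4, h5]
  refine ⟨?_, ?_, ?_, ?_, ?_, ?_, ?_, ?_, ?_, ?_, ?_, ?_, ?_⟩
  · rw [← mul_assoc, ← mul_assoc, F.ln.is]; group
  · rw [← mul_assoc, F.ln.iz]; group
  · rw [← mul_assoc, F.ln.sz]; group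
  · rw [← mul_assoc, Q3_comm F.yQ]; group
  · rw [← mul_assoc, Q3_comm F.wQ]; group
  · calc _ = F.i * F.i * F.y * (F.i * F.i)⁻¹ * F.y := by group
      _ = 1 := by rw [F.ty]; group
  · calc _ = F.i * F.i * F.w * (F.i * F.i)⁻¹ * F.w := by group
      _ = 1 := by rw [F.tw]; group
  · rw [← mul_assoc, F.sy]; group
  · calc _ = F.y * (F.i * F.y * F.i⁻¹) * F.y⁻¹ * (F.i * F.y * F.i⁻¹)⁻¹ := by group
      _ = 1 := by rw [F.yy]; group
  · rw [← mul_assoc, F.wy]; group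
  · calc _ = ⁅F.w, F.i * F.y * F.i⁻¹⁆ * F.z⁻¹ := by rw [commutatorElement_def]; group
      _ = 1 := by rw [F.wy']; group
  · calc _ = F.w * (F.i * F.w * F.i⁻¹) * F.w⁻¹ * (F.i * F.w * F.i⁻¹)⁻¹ := by group
      _ = 1 := by rw [F.ww]; group
  · calc _ = F.s * F.w * F.s⁻¹ * (F.w * F.y)⁻¹ := by group
      _ = 1 := by rw [F.sw]; group

/-- The letters. -/
abbrev e : List G := [F.z, F.y, F.y', F.w, F.w', F.s, F.i, F.t, F.a, F.v, F.u]

theorem cod : ∃ C : Cod A G, C.RepL cF F.e := by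
  obtain ⟨C, h⟩ := B0.cod rfl F.sat F.cz.es.z_ne_one
  exact ⟨C, (h.nth 4).cons <| (h.nth 6).cons <| (h.term (F.i * F.y * F.i⁻¹) (by decide +kernel)).cons <| (h.nth 8).cons <|
    (h.term (F.i * F.w * F.i⁻¹) (by decide +kernel)).cons <| (h.nth 2).cons <| (h.nth 0).cons <|
    (h.term (F.i * F.i) (by decide +kernel)).cons <| (h.term (F.y * (F.i * F.y * F.i⁻¹)) (by decide +kernel)).cons <|
    (h.term (F.w * (F.i * F.w * F.i⁻¹)) (by decide +kernel)).cons <|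
    (h.term (F.y * (F.i * F.y * F.i⁻¹)⁻¹) (by decide +kernel)).cons Cod.repL_nil⟩

/-- The codes. -/
noncomputable def C : Cod A G := F.cod.choose

theorem rep : F.C.RepL cF F.e := F.cod.choose_spec

/-- Order 9. -/
def Y : Subgroup G := clos [F.z, F.y]
/-- `C(z) ∩ C(y)`, order 243. -/
def W : Subgroup G := clos [F.z, F.y, F.y', F.s, F.w]
/-- `C(z) ∩ C(a)`, order 243. -/
def Sa : Subgroup G := clos [F.z, F.y, F.y', F.s, F.v]
/-- A complement to `J`, order 36. -/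
def K : Subgroup G := clos [F.w, F.w', F.i]

theorem clos_one (x : G) : clos [x] = zpowers x := by
  rw [zpowers_eq_closure, clos]; congr 1; ext; simp

theorem gY : F.C.Lists Y_t.dom F.Y ∧ Nat.card F.Y = 9 := (F.rep.pick [0, 1]).gen Y_ok
theorem gW : F.C.Lists W_t.dom F.W ∧ Nat.card F.W = 243 := (F.rep.pick [0, 1, 2, 5, 3]).gen W_ok
theorem gSa : F.C.Lists Sa_t.dom F.Sa ∧ Nat.card F.Sa = 243 := (F.rep.pick [0, 1, 2, 5, 9]).gen Sa_ok
theorem gK : F.C.Lists K_t.dom F.K ∧ Nat.card F.K = 36 := (F.rep.pick [3, 4, 6]).gen K_ok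
theorem gZ : F.C.Lists Z_t.dom (zpowers F.z) := ((F.rep.pick [0]).gen Z_ok).1.of_eq' (clos_one _)
theorem gA : F.C.Lists Aa_t.dom (zpowers F.a) := ((F.rep.pick [8]).gen Aa_ok).1.of_eq' (clos_one _)

theorem y'Q : F.y' ∈ Q3 F.z := Q3_conj F.ln.iz F.yQ
theorem w'Q : F.w' ∈ Q3 F.z := Q3_conj F.ln.iz F.wQ

variable [Finite G]

theorem Q_eq : clos [F.z, F.y, F.y', F.w, F.w'] = Q3 F.z :=
  eq_of_le_of_card_ge (clos_le.2 (by simp [F.cz.es.z_mem, F.yQ, F.y'Q, F.wQ, F.w'Q]))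
    (F.cz.card.trans ((F.rep.pick [0, 1, 2, 3, 4]).gen Q_ok).2.symm).le

theorem gQ : F.C.Lists Q_t.dom (Q3 F.z) := ((F.rep.pick [0, 1, 2, 3, 4]).gen Q_ok).1.of_eq' F.Q_eq

theorem E_eq : clos [F.z, F.y, F.y'] = EE F.z F.s := by
  have hL : F.C.ListsL [Q_t.dom, E_t.dom] [Q3 F.z, clos [F.z, F.y, F.y']] :=
    F.gQ.cons (((F.rep.pick [0, 1, 2]).gen E_ok).1.cons Cod.listsL_nil)
  have h : (∀ q ∈ clos [F.z, F.y, F.y'], q ∈ Q3 F.z ∧ q * F.s = F.s * q) ∧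
      ∀ q ∈ Q3 F.z, q * F.s = F.s * q → q ∈ clos [F.z, F.y, F.y'] := hL.decide F.rep (by decide +kernel)
  exact le_antisymm (fun q hq => ⟨(h.1 q hq).1, mem_centralizer_singleton_iff.2 (h.1 q hq).2⟩)
    fun q hq => h.2 q hq.1 (mem_centralizer_singleton_iff.1 hq.2)

theorem gE : F.C.Lists E_t.dom (EE F.z F.s) ∧ Nat.card (EE F.z F.s) = 27 :=
  F.E_eq ▸ (F.rep.pick [0, 1, 2]).gen E_ok

theorem clos_snoc (xs : List G) (x : G) : clos (xs ++ [x]) = clos xs ⊔ zpowers x := by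
  rw [← clos_one, clos, clos, clos, ← Subgroup.closure_union]; congr 1; ext; simp [or_comm]

theorem J_eq : clos [F.z, F.y, F.y', F.s] = JJ F.z F.s := by
  rw [JJ, ← F.E_eq]; exact clos_snoc [_, _, _] _

theorem S_eq : clos [F.z, F.y, F.y', F.w, F.w', F.s] = SS F.z F.s := by
  rw [SS, ← F.Q_eq]; exact clos_snoc [_, _, _, _, _] _

theorem gJ : F.C.Lists J_t.dom (JJ F.z F.s) ∧ Nat.card (JJ F.z F.s) = 81 :=
  F.J_eq ▸ (F.rep.pick [0, 1, 2, 5]).gen J_ok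

theorem gS : F.C.Lists S_t.dom (SS F.z F.s) ∧ Nat.card (SS F.z F.s) = 729 :=
  F.S_eq ▸ (F.rep.pick [0, 1, 2, 3, 4, 5]).gen S_ok

/-- Use: `F.lists.decide F.rep (by decide +kernel)`. -/
theorem lists : F.C.ListsL [J_t.dom, E_t.dom, Z_t.dom, Y_t.dom, W_t.dom, Sa_t.dom, K_t.dom, Aa_t.dom, Q_t.dom, S_t.dom]
    [JJ F.z F.s, EE F.z F.s, zpowers F.z, F.Y, F.W, F.Sa, F.K, zpowers F.a, Q3 F.z, SS F.z F.s] :=
  F.gJ.1.cons <| F.gE.1.cons <| F.gZ.cons <| F.gY.1.cons <| F.gW.1.cons <| F.gSa.1.cons <| F.gK.1.cons <| F.gA.cons <|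
    F.gQ.cons <| F.gS.1.cons Cod.listsL_nil

theorem J_comm : ∀ a ∈ JJ F.z F.s, ∀ b ∈ JJ F.z F.s, a * b = b * a := F.lists.decide F.rep (by decide +kernel)

theorem J_exp : ∀ a ∈ JJ F.z F.s, a ^ 3 = 1 := F.lists.decide F.rep (by decide +kernel)

theorem K_norm : F.K ≤ normalizer (JJ F.z F.s : Set G) := fun k hk => mem_normalizer_of_conj_mem
  ((show ∀ k ∈ F.K, ∀ j ∈ JJ F.z F.s, k * j * k⁻¹ ∈ JJ F.z F.s from F.lists.decide F.rep (by decide +kernel)) k hk)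

theorem K_z : ∀ k ∈ F.K, k * F.z = F.z * k := F.lists.decide F.rep (by decide +kernel)

theorem mem_W : ∀ g ∈ SS F.z F.s, g * F.y = F.y * g → g ∈ F.W := F.lists.decide F.rep (by decide +kernel)

theorem mem_Sa : ∀ g ∈ SS F.z F.s, g * F.a = F.a * g → g ∈ F.Sa := F.lists.decide F.rep (by decide +kernel)

theorem E_cls : ∀ e ∈ EE F.z F.s, e ∈ zpowers F.z ∨ ∃ k ∈ F.K, Let (k * e * k⁻¹) fun c => c = F.y ∨ c = F.a :=
  F.lists.decide F.rep (by decide +kernel)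

end Fm

end Cfsg.Agent.H3
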