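import Mathlib
import Cfsg.Agent.H3.Defs
import Cfsg.Agent.T16.A8St

/-! Permutations of twelve points: the centraliser of the four-group on the first four points. -/

set_option autoImplicit false

namespace Cfsg.Agent.H3.CV

open Cfsg.Agent.T16 Subgroup Equiv

theorem e8_low (q : Perm (Fin 8)) (i : Fin 4) : e8 q (Fin.castAdd 8 i) = Fin.castAdd 8 i := by
  change finSumFinEquiv (Sum.map id q (finSumFinEquiv.symm (Fin.castAdd 8 i))) = _
  rw [finSumFinEquiv_symm_apply_castAdd]; rfl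

theorem sign_e8 (q : Perm (Fin 8)) : Perm.sign (e8 q) = Perm.sign q := by
  change Perm.sign (finSumFinEquiv.permCongr (Perm.sumCongr 1 q)) = _
  rw [Perm.sign_permCongr, Perm.sign_sumCongr, map_one, one_mul]

theorem sign_emb (k : Perm (Fin 3) × Perm (Fin 5)) :
    Perm.sign (A8.emb k) = Perm.sign k.1 * Perm.sign k.2 := by
  change Perm.sign (finSumFinEquiv.permCongr (Perm.sumCongr k.1 k.2)) = _
  rw [Perm.sign_permCongr, Perm.sign_sumCongr]

theorem e8_inj : Function.Injective e8 :=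
  (finSumFinEquiv (m := 4) (n := 8)).permCongrHom.injective.comp
    (Perm.sumCongrHom_injective.comp fun _ _ h => congrArg Prod.snd h)

theorem exists_sum {m n : ℕ} {p : Perm (Fin (m + n))}
    (h : ∀ i : Fin m, ∃ j : Fin m, p (Fin.castAdd n i) = Fin.castAdd n j) :
    ∃ k : Perm (Fin m) × Perm (Fin n),
      finSumFinEquiv.permCongr (Perm.sumCongrHom (Fin m) (Fin n) k) = p := by
  obtain ⟨k, hk⟩ := Perm.mem_sumCongrHom_range_of_perm_mapsTo_inl
    (σ := finSumFinEquiv.symm.permCongr p) (by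
      rintro _ ⟨i, rfl⟩
      obtain ⟨j, hj⟩ := h i
      exact ⟨j, by simp [hj]⟩)
  exact ⟨k, by rw [hk]; ext x; simp⟩

theorem exists_e8 {p : Perm (Fin 12)} (h : ∀ i : Fin 4, p (Fin.castAdd 8 i) = Fin.castAdd 8 i) :
    ∃ q, e8 q = p := by
  obtain ⟨⟨a, q⟩, hk⟩ := exists_sum (m := 4) (n := 8) (p := p) fun i => ⟨i, h i⟩
  have : a = 1 := Equiv.ext fun i => by
    have := h i
    rw [← hk] at this
    change finSumFinEquiv (Sum.map a q (finSumFinEquiv.symm (Fin.castAdd 8 i))) = _ at this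
    rw [finSumFinEquiv_symm_apply_castAdd] at this
    exact Fin.castAdd_injective 4 8 this
  subst this
  exact ⟨q, hk⟩

/-- `A₈` on the points `4, …, 11`. -/
def j8 : alternatingGroup (Fin 8) →* alternatingGroup (Fin 12) :=
  (e8.comp (alternatingGroup (Fin 8)).subtype).codRestrict _ fun q =>
    Perm.mem_alternatingGroup.2 ((sign_e8 q).trans (Perm.mem_alternatingGroup.1 q.2))

theorem coe_j8 (q : alternatingGroup (Fin 8)) : (j8 q : Perm (Fin 12)) = e8 q := rfl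

/-- The even part of `S₃ × S₅` inside `A₈`. -/
def jK : A8.Kr →* alternatingGroup (Fin 8) :=
  (A8.emb.comp A8.Kr.subtype).codRestrict _ fun k =>
    Perm.mem_alternatingGroup.2 ((sign_emb k).trans k.2)

theorem jK_inj : Function.Injective jK := fun _ _ h =>
  Subtype.ext (A8.emb_inj (congrArg Subtype.val h))

theorem j8_comm (q : alternatingGroup (Fin 8)) {v : alternatingGroup (Fin 12)}
    (hv : ∀ j : Fin 8, (v : Perm (Fin 12)) (Fin.natAdd 4 j) = Fin.natAdd 4 j) :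
    j8 q * v = v * j8 q :=
  Subtype.ext (Perm.Disjoint.commute (f := e8 q) (g := v) fun x =>
    Fin.addCases (m := 4) (n := 8) (motive := fun x => e8 q x = x ∨ (v : Perm (Fin 12)) x = x)
      (fun i => Or.inl (e8_low _ i)) (fun j => Or.inr (hv j)) x)

theorem j8_uu (q : alternatingGroup (Fin 8)) : j8 q * uu = uu * j8 q := j8_comm q (by decide)
theorem j8_ss (q : alternatingGroup (Fin 8)) : j8 q * ss = ss * j8 q := j8_comm q (by decide)

theorem app {p a : alternatingGroup (Fin 12)} (h : p * a = a * p) (x : Fin 12) :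
    (p : Perm (Fin 12)) ((a : Perm (Fin 12)) x) = (a : Perm (Fin 12)) ((p : Perm (Fin 12)) x) :=
  congrArg (fun g : alternatingGroup (Fin 12) => (g : Perm (Fin 12)) x) h

theorem j8_eq_one {q : alternatingGroup (Fin 8)}
    (h : j8 q = 1 ∨ j8 q = uu ∨ j8 q = ss ∨ j8 q = uu * ss) : q = 1 := by
  have h0 : (j8 q : Perm (Fin 12)) 0 = 0 := e8_low q 0
  rcases h with h | h | h | h
  · exact Subtype.ext (e8_inj ((congrArg Subtype.val h).trans (map_one e8).symm))
  all_goals rw [h] at h0; exact absurd h0 (by decide)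

theorem cent_V4 {p : alternatingGroup (Fin 12)} (h1 : p * uu = uu * p) (h2 : p * ss = ss * p) :
    ∃ v, (v = 1 ∨ v = uu ∨ v = ss ∨ v = uu * ss) ∧ ∃ q, p = v * j8 q := by
  have k : ∀ x : Fin 12, (uu : Perm (Fin 12)) x ≠ x → ∃ v : alternatingGroup (Fin 12),
      (v = 1 ∨ v = uu ∨ v = ss ∨ v = uu * ss) ∧ ((v⁻¹ : alternatingGroup (Fin 12)) : Perm (Fin 12)) x = 0 ∧
        v⁻¹ * uu = uu * v⁻¹ ∧ v⁻¹ * ss = ss * v⁻¹ := by
    simp only [exists_eq_or_imp, exists_eq_left]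
    decide +kernel
  obtain ⟨v, hv, h0, c1, c2⟩ := k ((p : Perm (Fin 12)) 0) (by
    rw [← app h1, Ne, (p : Perm (Fin 12)).injective.eq_iff]; decide)
  have d1 : v⁻¹ * p * uu = uu * (v⁻¹ * p) := by rw [mul_assoc, h1, ← mul_assoc, c1, mul_assoc]
  have d2 : v⁻¹ * p * ss = ss * (v⁻¹ * p) := by rw [mul_assoc, h2, ← mul_assoc, c2, mul_assoc]
  change ((v⁻¹ * p : alternatingGroup (Fin 12)) : Perm (Fin 12)) 0 = 0 at h0
  rw [← mul_inv_cancel_left v p]
  generalize v⁻¹ * p = r at h0 d1 d2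
  have e1 := app d1 0
  have e2 := app d2 0
  rw [h0] at e1 e2
  have e3 := app d2 1
  rw [show (r : Perm (Fin 12)) 1 = 1 from e1] at e3
  obtain ⟨q, hq⟩ := exists_e8 (p := r) fun i => by
    fin_cases i
    exacts [h0, e1, e2, e3]
  exact ⟨v, hv, ⟨q, Perm.mem_alternatingGroup.2 (by
    rw [← sign_e8, hq]; exact Perm.mem_alternatingGroup.1 r.2)⟩, congrArg _ (Subtype.ext hq.symm)⟩

/-- `(0 1 2)`. -/
def a1 : alternatingGroup (Fin 8) := ⟨swap 0 2 * swap 0 1, Perm.mem_alternatingGroup.2 (by decide)⟩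
/-- `(3 4 5)`. -/
def a2 : alternatingGroup (Fin 8) := ⟨swap 3 5 * swap 3 4, Perm.mem_alternatingGroup.2 (by decide)⟩
/-- `(0 3)(1 4)(2 5)(6 7)`. -/
def a3 : alternatingGroup (Fin 8) := ⟨v1, Perm.mem_alternatingGroup.2 (by decide +kernel)⟩

theorem j8_a1 : j8 a1 = z1 := by decide +kernel
theorem j8_a2 : j8 a2 = z2 := by decide +kernel
theorem j8_a3 : j8 a3 = vv := by decide +kernel

theorem jK_norm (k : A8.Kr) : jK k * a1 * (jK k)⁻¹ = a1 ∨ jK k * a1 * (jK k)⁻¹ = a1⁻¹ := by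
  let c : A8.Kr := ⟨(swap 0 2 * swap 0 1, 1), by decide +kernel⟩
  have h1 : a1 = jK c := by decide +kernel
  have h2 : ∀ σ : Perm (Fin 3), σ * (swap 0 2 * swap 0 1) * σ⁻¹ = swap 0 2 * swap 0 1 ∨
      σ * (swap 0 2 * swap 0 1) * σ⁻¹ = (swap 0 2 * swap 0 1)⁻¹ := by decide
  rw [h1, ← map_inv, ← map_inv, ← map_mul, ← map_mul]
  exact (h2 k.1.1).imp (fun e => congrArg _ (Subtype.ext (Prod.ext e (by simp [c]))))
    fun e => congrArg _ (Subtype.ext (Prod.ext e (by simp [c])))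

theorem exists_jK {q : alternatingGroup (Fin 8)} (h : q * a1 * q⁻¹ = a1 ∨ q * a1 * q⁻¹ = a1⁻¹) :
    ∃ k, jK k = q := by
  have h1 : ∀ i : Fin 3, (a1 : Perm (Fin 8)) (Fin.castAdd 5 i) ≠ Fin.castAdd 5 i := by decide
  have h2 : ∀ x : Fin 8, ((a1 : Perm (Fin 8)) x ≠ x ∨ (a1 : Perm (Fin 8))⁻¹ x ≠ x) →
      ∃ j : Fin 3, x = Fin.castAdd 5 j := by decide
  obtain ⟨k, hk⟩ := exists_sum (m := 3) (n := 5) (p := q) fun i => h2 _ (h.imp (fun e e' => h1 i (by
      have := congrArg (fun g : alternatingGroup (Fin 8) => (g : Perm (Fin 8)) (q.1 (Fin.castAdd 5 i))) e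
      simpa [e'] using this)) fun e e' => h1 i (by
      have := congrArg (fun g : alternatingGroup (Fin 8) => (g : Perm (Fin 8)) (q.1 (Fin.castAdd 5 i))) e
      simpa [e'] using this))
  have hk' : A8.emb k = q := hk
  exact ⟨⟨k, (sign_emb k).symm.trans (hk' ▸ Perm.mem_alternatingGroup.1 q.2)⟩, Subtype.ext hk'⟩

theorem card_cent : Nat.card (centralizer ({a1 * a2} : Set (alternatingGroup (Fin 8)))) = 18 := by
  have h0 : (centralizer ({a1 * a2} : Set (alternatingGroup (Fin 8)))).map (Subgroup.subtype _) =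
      centralizer ({th} : Set (Perm (Fin 8))) ⊓ alternatingGroup (Fin 8) := by
    ext p
    simp only [mem_map, mem_centralizer_singleton_iff, mem_inf]
    exact ⟨fun ⟨q, h, e⟩ => e ▸ ⟨congrArg Subtype.val h, q.2⟩, fun ⟨h, e⟩ => ⟨⟨p, e⟩, Subtype.ext h, rfl⟩⟩
  rw [← card_map_of_injective (Subgroup.subtype_injective _), h0]
  have h1 := Inv.Fz.card_mul_relIndex
    (inf_le_left : centralizer ({th} : Set (Perm (Fin 8))) ⊓ alternatingGroup (Fin 8) ≤ _)
  have h2 : Nat.card (centralizer ({th} : Set (Perm (Fin 8)))) = 36 := by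
    rw [Perm.nat_card_centralizer]; decide +kernel
  have h3 := relIndex_dvd_index_of_normal (alternatingGroup (Fin 8)) (centralizer ({th} : Set (Perm (Fin 8))))
  rw [alternatingGroup.index_eq_two] at h3
  rw [h2, inf_relIndex_left] at h1
  rcases (Nat.dvd_prime Nat.prime_two).1 h3 with e | e
  · have := relIndex_eq_one.1 e (mem_centralizer_singleton_iff.2
      (show swap 6 7 * th = th * swap 6 7 by decide +kernel))
    simp at this
  · rw [e] at h1
    omega

/-- Words in five generators. -/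
def W (a b c : Fin 2) (j k : Fin 3) : alternatingGroup (Fin 12) :=
  uu ^ a.val * rr ^ b.val * nn ^ c.val * dd ^ j.val * cc ^ k.val

theorem W_comm : ∀ a b c j k, W a b c j k * cc = cc * W a b c j k ∧ W a b c j k * uu = uu * W a b c j k ∧
    W a b c j k * rr = rr * W a b c j k := by decide +kernel

theorem W_fix : ∀ x2 : Fin 12, uu.1 x2 ≠ x2 → rr.1 x2 = x2 → ∀ x4 : Fin 12, uu.1 x4 = x4 → rr.1 x4 ≠ x4 →
    ∀ x6 : Fin 12, uu.1 x6 = x6 → rr.1 x6 = x6 → cc.1 x6 = x6 →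
    ∀ x8 : Fin 12, uu.1 x8 = x8 → rr.1 x8 = x8 → cc.1 x8 = x8 → x6 ≠ x8 → ∀ x9 : Fin 12, cc.1 x9 ≠ x9 →
    ∃ a b c j k, (W a b c j k).1 x2 = 2 ∧ (W a b c j k).1 x4 = 4 ∧ (W a b c j k).1 x6 = 6 ∧
      (W a b c j k).1 x8 = 8 ∧ (W a b c j k).1 x9 = 9 := by decide +kernel

theorem eq_one_of_fix {r : alternatingGroup (Fin 12)} (h1 : r * cc = cc * r) (h2 : r * uu = uu * r)
    (h3 : r * rr = rr * r) (e2 : r.1 2 = 2) (e4 : r.1 4 = 4) (e6 : r.1 6 = 6) (e8 : r.1 8 = 8)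
    (e9 : r.1 9 = 9) : r = 1 := by
  have e3 : r.1 3 = 3 := (app h2 2).trans (by rw [e2]; rfl)
  have e5 : r.1 5 = 5 := (app h3 4).trans (by rw [e4]; rfl)
  have e10 : r.1 10 = 10 := (app h1 9).trans (by rw [e9]; rfl)
  have e11 : r.1 11 = 11 := (app h1 10).trans (by rw [e10]; rfl)
  have k7 : ∀ x : Fin 12, uu.1 x = x → rr.1 x = x → cc.1 x = x → x ≠ 6 → x ≠ 8 → x = 7 := by decide
  have e7 : r.1 7 = 7 := k7 _ (app h2 7).symm (app h3 7).symm (app h1 7).symm
    (fun e => absurd (r.1.injective (e.trans e6.symm)) (by decide))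
    (fun e => absurd (r.1.injective (e.trans e8.symm)) (by decide))
  have k0 : ∀ x : Fin 12, uu.1 x = rr.1 x → uu.1 x ≠ x → x = 0 ∨ x = 1 := by decide
  have e1 : r.1 1 = uu.1 (r.1 0) := app h2 0
  rcases k0 (r.1 0) (e1.symm.trans (app h3 0)) (by
    rw [← e1, Ne, r.1.injective.eq_iff]; decide) with e0 | e0
  · rw [e0] at e1
    refine Subtype.ext (Equiv.ext fun x => ?_)
    fin_cases x
    exacts [e0, e1, e2, e3, e4, e5, e6, e7, e8, e9, e10, e11]
  · rw [e0] at e1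
    have : r.1 = swap 0 1 := Equiv.ext fun x => by
      fin_cases x
      exacts [e0, e1, e2, e3, e4, e5, e6, e7, e8, e9, e10, e11]
    have h := Perm.mem_alternatingGroup.1 r.2
    rw [this] at h
    exact absurd h (by decide)

theorem mem_of_comm {H : Subgroup (alternatingGroup (Fin 12))} (m1 : cc ∈ H) (m2 : dd ∈ H) (m3 : uu ∈ H)
    (m4 : rr ∈ H) (m5 : nn ∈ H) {p : alternatingGroup (Fin 12)} (h1 : p * cc = cc * p)
    (h2 : p * uu = uu * p) (h3 : p * rr = rr * p) : p ∈ H := by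
  have ne : ∀ {a : alternatingGroup (Fin 12)}, p * a = a * p → ∀ x, a.1 x ≠ x → a.1 (p.1 x) ≠ p.1 x :=
    fun h x hx => by rwa [← app h, Ne, p.1.injective.eq_iff]
  obtain ⟨a, b, c, j, k, e2, e4, e6, e8, e9⟩ := W_fix (p.1 2) (ne h2 2 (by decide)) (app h3 2).symm
    (p.1 4) (app h2 4).symm (ne h3 4 (by decide)) (p.1 6) (app h2 6).symm (app h3 6).symm (app h1 6).symm
    (p.1 8) (app h2 8).symm (app h3 8).symm (app h1 8).symm (p.1.injective.ne (by decide))
    (p.1 9) (ne h1 9 (by decide))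
  obtain ⟨c1, c2, c3⟩ := W_comm a b c j k
  have := eq_one_of_fix (r := W a b c j k * p) (by rw [mul_assoc, h1, ← mul_assoc, c1, mul_assoc])
    (by rw [mul_assoc, h2, ← mul_assoc, c2, mul_assoc]) (by rw [mul_assoc, h3, ← mul_assoc, c3, mul_assoc])
    e2 e4 e6 e8 e9
  rw [eq_inv_of_mul_eq_one_right this]
  exact inv_mem (mul_mem (mul_mem (mul_mem (mul_mem (pow_mem m3 _) (pow_mem m4 _)) (pow_mem m5 _))
    (pow_mem m2 _)) (pow_mem m1 _))

end Cfsg.Agent.H3.CV
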