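import Mathlib
import Cfsg.Agent.H3.Defs
import Cfsg.Agent.H3.CVa
import Cfsg.Agent.T16.A8Main
import Cfsg.Agent.T16.Kit3A
import Cfsg.Agent.Inv.Classes

/-! The centraliser `2² × A₈` of the four-group (PLAN section E2). -/

set_option autoImplicit false

namespace Cfsg.Agent.H3

open Cfsg.Agent.Rec Cfsg.Agent.Inv.Fz Cfsg.Agent.T3 Subgroup Equiv
open scoped commutatorElement

universe u

variable {G : Type u} [Group G] [Finite G]

namespace CV

open Cfsg.Agent.T16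

theorem three {a b : G} (h3 : a ^ 3 = 1) (hb : b ∈ zpowers a) (h1 : b ≠ 1) : b = a ∨ b = a⁻¹ := by
  obtain ⟨k, rfl⟩ := hb
  have e : a ^ k = a ^ (k % 3) := by
    conv_lhs => rw [← Int.emod_add_mul_ediv k 3, zpow_add, zpow_mul, zpow_ofNat, h3, one_zpow, mul_one]
  simp only [e] at h1 ⊢
  obtain h | h | h : k % 3 = 0 ∨ k % 3 = 1 ∨ k % 3 = 2 := by omega
  · simp [h] at h1
  · simp [h]
  · rw [h, zpow_ofNat]
    exact Or.inr (eq_inv_of_mul_eq_one_left (by rw [← pow_succ, h3]))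

omit [Finite G] in
theorem tw_mem {X : A12 G} {g : G} (h : X.Tw g) {x : G} (h1 : x * X.Φ uu = X.Φ uu * x)
    (h2 : x * X.Φ ss = X.Φ ss * x) (h3 : x * X.Φ (z1 * z2) = X.Φ (z1 * z2) * x) : x ∈ X.Φ.range := by
  have k : ∀ {a b : alternatingGroup (Fin 12)}, g * X.Φ a * g⁻¹ = X.Φ b → x * X.Φ b = X.Φ b * x →
      g⁻¹ * x * g * X.Φ a = X.Φ a * (g⁻¹ * x * g) := fun {a b} e e' => by
    calc _ = g⁻¹ * (x * (g * X.Φ a * g⁻¹)) * g := by group
      _ = g⁻¹ * (g * X.Φ a * g⁻¹ * x) * g := by rw [e, e']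
      _ = _ := by group
  obtain ⟨p, hp⟩ := X.norm cc (Perm.isThreeCycle_swap_mul_swap_same (by decide) (by decide) (by decide))
    (g⁻¹ * x * g) (Or.inl (mul_inv_eq_iff_eq_mul.2 (k h.c h3)))
  have k' : ∀ {a b : alternatingGroup (Fin 12)}, g * X.Φ a * g⁻¹ = X.Φ b → x * X.Φ b = X.Φ b * x →
      p * a = a * p := fun e e' => X.inj (by rw [map_mul, map_mul, hp, k e e'])
  have := mem_of_comm (H := X.Φ.range.comap ((MulAut.conj g).toMonoidHom.comp X.Φ)) ⟨_, h.c.symm⟩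
    ⟨_, h.d.symm⟩ ⟨_, h.u.symm⟩ ⟨_, h.r.symm⟩ ⟨_, h.n.symm⟩ (k' h.c h3) (k' h.u h1) (k' h.r h2)
  obtain ⟨q, hq⟩ := this
  exact ⟨q, hq.trans (show g * X.Φ p * g⁻¹ = x by rw [hp]; group)⟩

end CV

open CV Cfsg.Agent.T16 in
theorem A12.Tw.cent_V {X : A12 G} {g : G} (h : X.Tw g) {x : G} (h1 : x * X.Φ uu = X.Φ uu * x)
    (h2 : x * X.Φ ss = X.Φ ss * x) : x ∈ X.Φ.range := by
  have u2 : X.Φ uu * X.Φ uu = 1 := by rw [← map_mul, show uu * uu = 1 by decide +kernel, map_one]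
  have s2 : X.Φ ss * X.Φ ss = 1 := by rw [← map_mul, show ss * ss = 1 by decide +kernel, map_one]
  have us : Commute (X.Φ uu) (X.Φ ss) := Commute.map (show uu * ss = ss * uu by decide +kernel) X.Φ
  let V : Subgroup G := closure {X.Φ uu, X.Φ ss}
  let L : Subgroup G := centralizer {X.Φ uu} ⊓ centralizer {X.Φ ss}
  have mV : ∀ {y}, y ∈ V ↔ y = 1 ∨ y = X.Φ uu ∨ y = X.Φ ss ∨ y = X.Φ uu * X.Φ ss :=
    Inv.mem_closure_pair_of_commute u2 s2 us
  have hs : Sec V L := by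
    refine ⟨(closure_le _).2 (Set.pair_subset ⟨mem_cen.2 rfl, mem_cen.2 us⟩ ⟨mem_cen.2 us.symm, mem_cen.2 rfl⟩),
      fun y hy => mem_normalizer_of_conj_mem fun a ha => ?_, ?_⟩
    · rcases mV.1 ha with rfl | rfl | rfl | rfl
      · simp
      · rwa [mem_cen'.1 hy.1]
      · rwa [mem_cen'.1 hy.2]
      · rwa [← conj_mul, mem_cen'.1 hy.1, mem_cen'.1 hy.2]
    · have : IsPGroup 2 V := fun a => ⟨1, Subtype.ext (by
        rw [pow_one, coe_pow, pow_two]
        rcases mV.1 a.2 with e | e | e | e <;> rw [e]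
        exacts [one_mul _, u2, s2, by rw [us.symm.mul_mul_mul_comm, u2, s2, one_mul]; rfl])⟩
      obtain ⟨n, hn⟩ := IsPGroup.iff_card.1 this
      rw [hn]
      exact Nat.Coprime.pow_left n (by norm_num)
  haveI := hs.normal
  have hq := hs.quo
  set π := QuotientGroup.mk' (V.subgroupOf L)
  let ι : alternatingGroup (Fin 8) →* L := (X.Φ.comp j8).codRestrict _ fun q =>
    ⟨mem_cen.2 (Commute.map (j8_uu q) X.Φ), mem_cen.2 (Commute.map (j8_ss q) X.Φ)⟩
  have hι : ∀ q, (ι q : G) = X.Φ (j8 q) := fun _ => rfl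
  let ρ := π.comp ι
  have hρ : ∀ q, ρ q = π (ι q) := fun _ => rfl
  have inj : Function.Injective ρ := (injective_iff_map_eq_one ρ).2 fun q e => j8_eq_one (by
    have := mV.1 (hq.eq_one.1 e)
    rwa [hι, ← map_mul, ← map_one X.Φ, X.inj.eq_iff, X.inj.eq_iff, X.inj.eq_iff, X.inj.eq_iff] at this)
  have back : ∀ y : L, (y : G) ∈ X.Φ.range → ∃ q, π y = ρ q := fun y ⟨p, hp⟩ => by
    obtain ⟨v, hv, q, rfl⟩ := cent_V4 (p := p) (X.inj (by rw [map_mul, map_mul, hp]; exact mem_cen.1 y.2.1))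
      (X.inj (by rw [map_mul, map_mul, hp]; exact mem_cen.1 y.2.2))
    refine ⟨q, mul_inv_eq_one.1 ?_⟩
    rw [hρ, ← map_inv, ← map_mul, hq.eq_one, coe_mul, coe_inv, hι, ← hp, map_mul, mul_inv_cancel_right]
    exact mV.2 (by rcases hv with rfl | rfl | rfl | rfl <;> simp)
  have o1 : orderOf a1 = 3 := orderOf_eq_prime (by decide +kernel) (by decide +kernel)
  have z3 : X.Φ z1 ^ 3 = 1 := by rw [← map_pow, show z1 ^ 3 = 1 by decide +kernel, map_one]
  have hZ : zpowers (ι a1 : G) ≤ L := zpowers_le.2 (ι a1).2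
  have hZ3 : IsPGroup 3 (zpowers (ι a1 : G)) := .of_card (n := 1) (by
    rw [Nat.card_zpowers, hι, orderOf_injective X.Φ X.inj, j8_a1, pow_one]
    exact orderOf_eq_prime (by decide +kernel) (by decide +kernel))
  let ψ : A8.Kr →* normalizer (zpowers (ρ a1) : Set _) := (ρ.comp jK).codRestrict _ fun k =>
    cj_eq_iff.1 (by
      rw [cj_zpowers, MonoidHom.comp_apply, ← map_inv, ← map_mul, ← map_mul]
      rcases jK_norm k with e | e <;> rw [e]
      rw [map_inv, zpowers_inv])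
  have hψ : Function.Bijective ψ := ⟨fun a b e => jK_inj (inj (congrArg Subtype.val e)), fun n => by
    obtain ⟨y, hy, e⟩ := hq.exists_norm (q := n) hZ hZ3 (by rw [hq.img_zpowers]; exact n.2)
    have e1 := three (a := (ι a1 : G)) (by rw [hι, j8_a1, z3]) (conj_mem_of_mem_norm hy (mem_zpowers _))
      (by rw [Ne, conj_eq_one, hι, map_eq_one_iff _ X.inj]; decide +kernel)
    obtain ⟨q, hq'⟩ := back y (X.norm z1
      (Perm.isThreeCycle_swap_mul_swap_same (by decide) (by decide) (by decide)) y (by rwa [hι, j8_a1] at e1))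
    have e2 : ρ (q * a1 * q⁻¹) = π (y * ι a1 * y⁻¹) := by simp only [map_mul, map_inv, hq', hρ]
    obtain ⟨k, rfl⟩ := exists_jK (q := q) (e1.imp (fun e => inj (e2.trans (congrArg π (Subtype.ext e))))
      fun e => inj (e2.trans (by rw [hρ, map_inv ι]; exact congrArg π (Subtype.ext e))))
    exact ⟨k, Subtype.ext (hq'.symm.trans e)⟩⟩
  have hy : centralizer ({ρ a1 * ρ a2} : Set _) = (centralizer {a1 * a2}).map ρ := by
    refine le_antisymm (fun c hc => ?_) ?_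
    · obtain ⟨y, e1, rfl⟩ := hq.cent_elt (x := ι (a1 * a2)) (q := c)
        (by rw [hι, ← map_pow, ← map_pow, show (a1 * a2) ^ 3 = 1 by decide +kernel, map_one, map_one])
        (by rw [← hρ, map_mul]; exact mem_cen.1 hc)
      rw [hι, map_mul, j8_a1, j8_a2] at e1
      obtain ⟨q, e2⟩ := back y (tw_mem h (mem_cen.1 y.2.1) (mem_cen.1 y.2.2) e1)
      refine ⟨q, mem_cen.2 (inj ?_), e2.symm⟩
      rw [map_mul, map_mul ρ _ q, map_mul, ← e2]
      exact mem_cen.1 hc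
    · rintro _ ⟨q, hq', rfl⟩
      rw [← map_mul]
      exact mem_cen.2 (Commute.map (mem_cen.1 hq') ρ)
  haveI := hq.finite
  obtain ⟨e⟩ := a8_of (z := ρ a1) (c := ρ a2) (t := ρ a3) ((orderOf_injective ρ inj a1).trans o1)
    (Commute.map (show a1 * a2 = a2 * a1 by decide +kernel) ρ)
    (fun hm => by
      rw [← MonoidHom.map_zpowers, mem_map_iff_mem inj] at hm
      rcases three (by decide +kernel) hm (by decide +kernel) with e | e <;>
        exact absurd e (by decide +kernel))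
    (by rw [← map_mul, show a3 * a3 = 1 by decide +kernel, map_one])
    (by rw [← map_inv, ← map_mul, ← map_mul]; exact congrArg ρ (by decide +kernel))
    (MulEquiv.ofBijective ψ hψ).symm (by rw [hy, card_map_of_injective inj, card_cent])
  obtain ⟨q, hq'⟩ := ((Nat.bijective_iff_injective_and_card ρ).2 ⟨inj, (Nat.card_congr e.toEquiv).symm⟩).2
    (π ⟨x, mem_cen.2 h1, mem_cen.2 h2⟩)
  have h3 := mul_inv_eq_one.2 hq'.symm
  rw [hρ, ← map_inv, ← map_mul, hq.eq_one] at h3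
  have h4 : V ≤ X.Φ.range := (closure_le _).2 (Set.pair_subset ⟨_, rfl⟩ ⟨_, rfl⟩)
  exact (mul_mem_cancel_right (inv_mem (show (ι q : G) ∈ X.Φ.range from ⟨_, rfl⟩))).1 (h4 h3)

end Cfsg.Agent.H3
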