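import Mathlib
import Cfsg.Agent.H3.Defs
import Cfsg.Agent.T3.LocA
import Cfsg.Agent.T16.McLA0

/-! Structure of `C(z) = 3^(1+4).SL₂(5)`: facts on `SL₂(5)`, the module, fixed points. -/

set_option autoImplicit false
set_option maxRecDepth 100000
set_option linter.unusedSectionVars false

namespace Cfsg.Agent.H3

open Cfsg.Agent.Rec Cfsg.Agent.Inv.Fz Cfsg.Agent.T3 Cfsg.Agent.T16 Subgroup Equiv
open scoped commutatorElement

universe u

namespace CA

theorem sl_sq : ∀ a : SL25, a * a = 1 → a = 1 ∨ a = -1 := by decide +kernel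

theorem sl_cases : ∀ a : SL25, a ^ 3 = 1 ∨ a = -1 ∨ a ^ 2 = -1 ∨ a ^ 3 = -1 ∨ (a ^ 10 = 1 ∧ a ^ 2 ≠ 1) := by
  decide +kernel

theorem sl_five : ∃ a : SL25, a ^ 10 = 1 ∧ a ^ 2 ≠ 1 := by decide +kernel

theorem sl_out : ∀ u : SL25, u ^ 3 = 1 → u ≠ 1 → ∃ a : SL25, a * u * a⁻¹ ≠ u ∧ a * u * a⁻¹ ≠ u⁻¹ := by decide +kernel

theorem sl_iota : ∀ u : SL25, u ^ 3 = 1 → u ≠ 1 → ∃ a : SL25, a * u * a⁻¹ = u⁻¹ ∧ a * a = -1 := by decide +kernel

/-- An element of order three. -/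
def u0 : SL25 := ⟨!![0, 4; 1, 4], by decide⟩

theorem sl_conj : ∀ u : SL25, u ^ 3 = 1 → u ≠ 1 → ∃ a : SL25, a * u0 = u * a := by decide +kernel

theorem sl_irr : ∀ u : SL25, u ^ 3 = 1 → u ≠ 1 → ∀ a : SL25, a * u = u⁻¹ * a → ∀ v : SL25, v ^ 3 = 1 → v ≠ 1 →
    v ≠ u → v ≠ u⁻¹ → (a * v = v * a ∨ a * v = v⁻¹ * a) →
      ((u * v) ^ 10 = 1 ∧ (u * v) ^ 2 ≠ 1) ∨ ((u * v⁻¹) ^ 10 = 1 ∧ (u * v⁻¹) ^ 2 ≠ 1) := by decide +kernel

/-- The action of an element of order three inverted by an element of order four on a module of order 81. -/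
theorem abs {V : Type u} [Group V] [Finite V] (hc : ∀ a b : V, a * b = b * a) (h81 : Nat.card V = 81)
    (h3 : ∀ v : V, v ^ 3 = 1) (σ ι : V →* V) (hσ : ∀ v, σ (σ (σ v)) = v) (hι : ∀ v, σ (ι (σ v)) = ι v)
    (hιι : ∀ v, ι (ι v) = v⁻¹) (K : Subgroup V) (hK : ∀ v, v ∈ K ↔ σ v * v⁻¹ = 1) (h9 : Nat.card K ≤ 9) :
    Nat.card K = 9 ∧ (∀ v, σ v * v⁻¹ ∈ K) ∧ ∀ k ∈ K, ∃ v, σ v * v⁻¹ = k := by
  let _ : CommGroup V := { ‹Group V› with mul_comm := hc }
  let δ : V →* V := σ / MonoidHom.id V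
  have hδ : ∀ v, δ v = σ v * v⁻¹ := fun v => div_eq_mul_inv _ _
  obtain rfl : K = δ.ker := Subgroup.ext fun v => by rw [hK, MonoidHom.mem_ker, hδ]
  have h1 := δ.ker.card_mul_index
  rw [index_ker, h81] at h1
  have h2 := card_mul_relIndex (inf_le_right : δ.ker ⊓ δ.range ≤ δ.range)
  rw [inf_relIndex_right, relIndex_ker] at h2
  have h4 : δ.range.map δ ≤ δ.ker ⊓ δ.range := by
    rintro _ ⟨_, ⟨v, rfl⟩, rfl⟩
    refine ⟨?_, _, rfl⟩
    show δ (δ (δ v)) = 1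
    simp only [hδ, map_mul, map_inv, hσ]
    calc _ = σ v ^ 3 * (σ (σ v) ^ 3)⁻¹ := by
          apply Additive.ofMul.injective
          simp only [ofMul_mul, ofMul_inv, ofMul_pow]
          abel
      _ = 1 := by rw [h3, h3, mul_inv_cancel]
  have h5 := card_le_of_le h4
  have h6 := card_le_of_le (inf_le_left : δ.ker ⊓ δ.range ≤ δ.ker)
  have h7 : Nat.card δ.ker = 9 := by
    obtain ⟨k, hk, e⟩ := (Nat.dvd_prime_pow Nat.prime_three).1 (show Nat.card δ.ker ∣ 3 ^ 4 from ⟨_, h1.symm⟩)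
    rw [e] at h1 h6 h9 ⊢
    interval_cases k <;> first | omega | nlinarith
  have h8 : Nat.card δ.range = 9 := by rw [h7] at h1; omega
  have e1 : ∀ v, ι (δ v) = δ (σ (σ (ι v)))⁻¹ := fun v => by
    have := congrArg (fun x => σ (σ x)) (hι v)
    simp only [hσ] at this
    simp only [hδ, map_mul, map_inv, hσ, this, inv_inv, mul_comm]
  have e2 : ∀ v, σ (δ v) = δ (σ v) := fun v => by simp only [hδ, map_mul, map_inv]
  have h10 : δ.range.map δ = ⊥ := by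
    refine eq_bot_iff.2 fun x hx => by_contra fun x1 => ?_
    have a1 : Nat.card (zpowers x) = 3 := by rw [Nat.card_zpowers, orderOf_eq_prime (h3 x) x1]
    have a2 := card_le_of_le (zpowers_le.2 hx)
    have a3 : zpowers x = δ.range.map δ := eq_of_le_of_card_ge (zpowers_le.2 hx) (by nlinarith)
    have a4 : ι x ∈ zpowers x := by
      rw [a3]
      obtain ⟨_, ⟨v, rfl⟩, rfl⟩ := hx
      exact ⟨_, ⟨(σ (σ (σ (σ (ι v)))⁻¹))⁻¹, by rw [map_inv, ← e2, ← e2, ← e1]⟩, (e1 _).symm⟩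
    have a5 := hιι x
    rcases mem_zpowers_three (h3 x) a4 with e | e | e
    · rw [e, map_one] at a5
      exact x1 (inv_eq_one.1 a5.symm)
    · rw [e, e] at a5
      exact x1 (eq_one_of_eq_inv (h3 x) a5)
    · rw [e, map_inv, e, inv_inv] at a5
      exact x1 (eq_one_of_eq_inv (h3 x) a5)
  have h11 : δ.range = δ.ker := eq_of_le_of_card_ge ((Subgroup.map_eq_bot_iff _).1 h10) (by omega)
  exact ⟨h7, fun v => h11.le ⟨v, hδ v⟩, fun k hk => (h11.ge hk).imp fun v e => (hδ v).symm.trans e⟩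

variable {G : Type u} [Group G] {z : G}

theorem Q_le (z : G) : Q3 z ≤ centralizer {z} := GT.pCoreOf_le _

theorem cjQ {g q : G} (hg : g ∈ centralizer {z}) (hq : q ∈ Q3 z) : g * q * g⁻¹ ∈ Q3 z :=
  conj_mem_of_mem_norm (norm_Q3 (mem_cen.1 hg)) hq

theorem cjZ {g c : G} (hg : g ∈ centralizer {z}) (hc : c ∈ zpowers z) : g * c * g⁻¹ ∈ zpowers z := by
  rwa [conj_z (mem_cen.1 hg) hc]

/-- The stabiliser of the coset `q Z`. -/
def Kq (z q : G) : Subgroup G where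
  carrier := {g | g ∈ centralizer {z} ∧ g * q * g⁻¹ * q⁻¹ ∈ zpowers z}
  one_mem' := ⟨one_mem _, by simp⟩
  mul_mem' := fun {g h} hg hh => ⟨mul_mem hg.1 hh.1, by
    have := mul_mem (cjZ hg.1 hh.2) hg.2
    convert this using 1; group⟩
  inv_mem' := fun {g} hg => ⟨inv_mem hg.1, by
    have := cjZ (inv_mem hg.1) (inv_mem hg.2)
    convert this using 1; group⟩

/-- The fixed points of `s` on `Q / Z`. -/
def Fe (z s : G) : Subgroup G where
  carrier := {q | q ∈ Q3 z ∧ s * q * s⁻¹ * q⁻¹ ∈ zpowers z}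
  one_mem' := ⟨one_mem _, by simp⟩
  mul_mem' := fun {q r} hq hr => ⟨mul_mem hq.1 hr.1, by
    have := mul_mem hq.2 (cjZ (Q_le z hq.1) hr.2)
    convert this using 1; group⟩
  inv_mem' := fun {q} hq => ⟨inv_mem hq.1, by
    have := cjZ (Q_le z (inv_mem hq.1)) (inv_mem hq.2)
    convert this using 1; group⟩

theorem Fe_le (s : G) : Fe z s ≤ Q3 z := fun _ h => h.1

theorem cj_Fe {g s q : G} (hg : g ∈ centralizer {z}) (hq : q ∈ Fe z s) : g * q * g⁻¹ ∈ Fe z (g * s * g⁻¹) :=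
  ⟨cjQ hg hq.1, by have := cjZ hg hq.2; convert this using 1; group⟩

/-- The homomorphism onto `SL₂(5)`. -/
structure Hm (z : G) (f : centralizer ({z} : Set G) →* SL25) : Prop where
  cz : Cz z
  surj : Function.Surjective f
  ker : ∀ g, f g = 1 ↔ (g : G) ∈ Q3 z

theorem exists_hm (h : Cz z) : ∃ f, Hm z f := let ⟨f, h1, h2⟩ := h.hom; ⟨f, h, h1, h2⟩

variable [Finite G]

section

variable (h : Cz z)
include h

theorem Q_le_Kq {q : G} (hq : q ∈ Q3 z) : Q3 z ≤ Kq z q := fun x hx => ⟨Q_le z hx, h.es.comm_mem x hx q hq⟩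

theorem Z_le_Fe {s : G} (hs : s ∈ centralizer {z}) : zpowers z ≤ Fe z s := fun x hx =>
  ⟨h.es.zpowers_le hx, mul_mem (cjZ hs hx) (inv_mem hx)⟩

theorem mem_Q {g : G} (hg : g ∈ centralizer {z}) (e : ∀ q ∈ Q3 z, g * q * g⁻¹ * q⁻¹ ∈ zpowers z) : g ∈ Q3 z :=
  (sup_le le_rfl h.cen) (h.es.mem_sup_centralizer (mem_cen.1 hg) e)

theorem Fe_mono {x y : G} (hx : x ∈ centralizer {z}) (e : x⁻¹ * y ∈ Q3 z) : Fe z x ≤ Fe z y := fun q hq =>
  ⟨hq.1, by simpa using (mul_mem (show x ∈ Kq z q from ⟨hx, hq.2⟩) (Q_le_Kq h hq.1 e)).2⟩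

theorem five0 {d : G} (hd : d ∈ centralizer {z}) (d5 : d ^ 5 = 1) (hQ : d ∉ Q3 z) {U : Subgroup G} (hU : U ≤ Q3 z)
    (hz : z ∈ U) (hn : d ∈ normalizer (U : Set G)) : U = zpowers z ∨ U = Q3 z := by
  have : Fact (Nat.Prime 5) := ⟨Nat.prime_five⟩
  refine or_iff_not_imp_right.2 fun h1 => ?_
  have h2 := card_dvd_of_le hU
  have h3 := card_lt_of_lt (lt_of_le_of_ne hU h1)
  rw [h.card] at h2 h3
  obtain ⟨k, hk5, e2⟩ := (Nat.dvd_prime_pow Nat.prime_three).1 (show _ ∣ 3 ^ 5 from h2)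
  have h6 := cent_of_five d5 hn (by rw [e2] at h3 ⊢; interval_cases k <;> simp_all) hz h.es.z_ne_one
    (fun y ⟨n, hn⟩ => hn ▸ (Commute.zpow_left (mem_cen.1 hd).symm n).eq)
  have h7 := GT.card_modEq_card_inf_centralizer (p := 5) (Q := zpowers d) (L := Q3 z)
    (IsPGroup.of_card_dvd_pow (n := 1) (by
      rw [Nat.card_zpowers, pow_one]; exact orderOf_dvd_of_pow_eq_one d5)) (zpowers_le.2 (norm_Q3 (mem_cen.1 hd)))
  have h8 := card_le_of_le (show U ≤ Q3 z ⊓ centralizer (zpowers d : Set G) from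
    le_inf hU (le_centralizer_iff.1 (zpowers_le.2 h6)))
  have h9 := card_dvd_of_le (inf_le_left : Q3 z ⊓ centralizer (zpowers d : Set G) ≤ Q3 z)
  rw [h.card] at h7 h9
  obtain ⟨j, hj, e3⟩ := (Nat.dvd_prime_pow Nat.prime_three).1 (show _ ∣ 3 ^ 5 from h9)
  have h10 : Q3 z ⊓ centralizer (zpowers d : Set G) ≠ Q3 z := fun e =>
    hQ (h.cen (le_centralizer_iff.1 (e.ge.trans inf_le_right) (mem_zpowers _)))
  have h11 := card_lt_of_lt (lt_of_le_of_ne inf_le_left h10)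
  refine (eq_of_le_of_card_ge (zpowers_le.2 hz) ?_).symm
  rw [e3] at h7 h8 h11
  rw [h.card] at h11
  rw [h.es.card_zpowers]
  interval_cases j <;> simp_all [Nat.ModEq]

end

namespace Hm

variable {f : centralizer ({z} : Set G) →* SL25} (h : Hm z f)
include h

theorem five {g : centralizer ({z} : Set G)} (e : f g ^ 10 = 1 ∧ f g ^ 2 ≠ 1) {U : Subgroup G} (hU : U ≤ Q3 z)
    (hz : z ∈ U) (hn : (g : G) ∈ normalizer (U : Set G)) : U = zpowers z ∨ U = Q3 z := by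
  refine five0 h.cz (d := (g : G) ^ 6) (pow_mem g.2 6) ?_ (fun h1 => e.2 ?_) hU hz (pow_mem hn 6)
  · rw [← pow_mul, show 6 * 5 = 10 * 3 by norm_num, pow_mul]
    exact h.cz.exp _ ((h.ker (g ^ 10)).1 (by rw [map_pow, e.1]))
  · have := pow_gcd_eq_one.2 ⟨map_pow f g 6 ▸ (h.ker (g ^ 6)).2 h1, e.1⟩
    simpa using this

theorem quo {x y : centralizer ({z} : Set G)} (e : f x = f y) : (x : G)⁻¹ * y ∈ Q3 z :=
  (h.ker (x⁻¹ * y)).1 (by rw [map_mul, map_inv, e, inv_mul_cancel])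

theorem Fe_eq {x y : centralizer ({z} : Set G)} (e : f x = f y) : Fe z x = Fe z y :=
  le_antisymm (Fe_mono h.cz x.2 (h.quo e)) (Fe_mono h.cz y.2 (h.quo e.symm))

theorem neg {x : centralizer ({z} : Set G)} (hx : f x = -1) : Fe z x ≤ zpowers z := by
  obtain ⟨a, ha⟩ := sl_five
  obtain ⟨d, rfl⟩ := h.surj a
  refine ((h.five ha (Fe_le (x : G)) (Z_le_Fe h.cz x.2 (mem_zpowers z)) (mem_normalizer_of_conj_mem fun q hq => ?_)).resolve_right
    fun e => sl25_neg (hx ▸ (h.ker x).2 (mem_Q h.cz x.2 fun q hq => (e.ge hq).2))).le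
  exact (h.Fe_eq (x := d * x * d⁻¹) (by simp [hx])).le (cj_Fe d.2 hq)

theorem inv_of_neg {x : centralizer ({z} : Set G)} (hx : f x = -1) :
    ∀ q ∈ Q3 z, (x : G) * q * (x : G)⁻¹ * q ∈ zpowers z := fun q hq => by
  have h1 : ((x * x : centralizer ({z} : Set G)) : G) ∈ Q3 z := (h.ker _).1 (by simp [hx])
  have h2 := cjQ x.2 hq
  refine h.neg hx ⟨mul_mem h2 hq, ?_⟩
  have := mul_mem (h.cz.es.comm_mem _ h1 q hq) (h.cz.es.comm_mem q hq _ h2)
  simp only [commutatorElement_def] at this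
  convert this using 1; push_cast; group

section

variable {q : G} (hq : q ∈ Q3 z) (hz : q ∉ zpowers z)
include hq hz

theorem ne_neg {k : centralizer ({z} : Set G)} (hk : (k : G) ∈ Kq z q) : f k ≠ -1 := fun e => hz (h.neg e ⟨hq, hk.2⟩)

theorem cube {g : centralizer ({z} : Set G)} (hg : (g : G) ∈ Kq z q) : f g ^ 3 = 1 := by
  rcases sl_cases (f g) with e | e | e | e | e
  · exact e
  · exact absurd e (h.ne_neg hq hz hg)
  · exact absurd ((map_pow f g 2).trans e) (h.ne_neg hq hz (pow_mem hg 2))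
  · exact absurd ((map_pow f g 3).trans e) (h.ne_neg hq hz (pow_mem hg 3))
  · rcases h.five e (Fe_le (g : G)) (Z_le_Fe h.cz g.2 (mem_zpowers z)) (mem_normalizer_of_conj_mem fun q hq => by
      simpa using cj_Fe g.2 hq) with e' | e'
    · exact absurd (e'.le ⟨hq, hg.2⟩) hz
    · rw [(h.ker g).2 (mem_Q h.cz g.2 fun q hq => (e'.ge hq).2), one_pow]

theorem mem_zp {g s : centralizer ({z} : Set G)} (hg : (g : G) ∈ Kq z q) (hs : (s : G) ∈ Kq z q) (h1 : f s ≠ 1) :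
    f g ∈ zpowers (f s) := by
  by_contra hn
  rcases sl25_two (f s) (by rw [← pow_three', h.cube hq hz hs]) h1 (f g) (by rw [← pow_three', h.cube hq hz hg])
    (fun e => hn (e ▸ one_mem _)) (fun e => hn (e ▸ mem_zpowers _))
    (fun e => hn (e ▸ mul_mem (mem_zpowers _) (mem_zpowers _))) with e | e | e
  · exact h.ne_neg hq hz (k := s * g * (s * g)) (mul_mem (mul_mem hs hg) (mul_mem hs hg))
      (by simpa only [map_mul] using e)
  · exact h.ne_neg hq hz (k := s * (g * g) * (s * (g * g)))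
      (mul_mem (mul_mem hs (mul_mem hg hg)) (mul_mem hs (mul_mem hg hg))) (by simpa only [map_mul] using e)
  · exact h.ne_neg hq hz (k := (s * g) ^ 5) (pow_mem (mul_mem hs hg) 5) (by simpa only [map_mul, map_pow] using e)

theorem exists_out : ∃ g : centralizer ({z} : Set G), (g : G) * q = q * g ∧ f g ≠ 1 := by
  by_contra hn
  push Not at hn
  have h1 : centralizer {q} ⊓ centralizer {z} = centralizer {q} ⊓ Q3 z := le_antisymm
    (fun g hg => ⟨hg.1, (h.ker ⟨g, hg.2⟩).1 (hn ⟨g, hg.2⟩ (mem_cen.1 hg.1))⟩) (inf_le_inf_left _ (Q_le z))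
  have h2 := relIndex_mul_relIndex (centralizer {q} ⊓ Q3 z) (Q3 z) (centralizer {z}) inf_le_right (Q_le z)
  have h3 : (Q3 z).relIndex (centralizer {z}) = 120 := by
    rw [relIndex, show (Q3 z).subgroupOf _ = f.ker from Subgroup.ext fun g => (h.ker g).symm, index_ker,
      MonoidHom.range_eq_top.2 h.surj, card_top, Perm.card_sl_two_five]
  rw [inf_relIndex_right, h.cz.es.relIndex_centralizer hq hz, h3, ← h1, inf_relIndex_right] at h2
  have h4 := Nat.card_le_card_of_injective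
    (fun x : centralizer ({z} : Set G) ⧸ (centralizer {q}).subgroupOf (centralizer {z}) =>
      (⟨x.out * q * (x.out : G)⁻¹, cjQ x.out.2 hq⟩ : Q3 z)) fun x y e => by
      rw [← x.out_eq', ← y.out_eq', QuotientGroup.eq, mem_subgroupOf]
      have e' : (x.out : G) * q * (x.out : G)⁻¹ = y.out * q * (y.out : G)⁻¹ := congrArg Subtype.val e
      refine mem_cen'.2 ?_
      calc _ = (x.out : G)⁻¹ * (y.out * q * (y.out : G)⁻¹) * x.out := by push_cast; group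
        _ = q := by rw [← e']; group
  rw [h.cz.card] at h4
  change (centralizer {q}).relIndex (centralizer {z}) ≤ _ at h4
  omega

end

theorem mem_SS {g s : centralizer ({z} : Set G)} : (g : G) ∈ SS z s ↔ f g ∈ zpowers (f s) := by
  rw [SS, GT.PG.mem_sup_of_le_normalizer (zpowers_le.2 (norm_Q3 (mem_cen.1 s.2)))]
  constructor
  · rintro ⟨v, hv, _, ⟨k, rfl⟩, e⟩
    refine ⟨k, ?_⟩
    rw [show g = ⟨v, Q_le z hv⟩ * s ^ k from Subtype.ext e.symm, map_mul, (h.ker ⟨v, Q_le z hv⟩).2 hv, one_mul, map_zpow]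
  · rintro ⟨k, e⟩
    exact ⟨_, (h.ker (g * (s ^ k)⁻¹)).1 (by rw [map_mul, map_inv, map_zpow, ← e, mul_inv_cancel]), (s : G) ^ k,
      ⟨k, rfl⟩, by simp⟩

theorem card_Fe {s : centralizer ({z} : Set G)} (h3 : f s ^ 3 = 1) (h1 : f s ≠ 1) : Nat.card (Fe z s) ≤ 27 := by
  obtain ⟨a, a1, a2⟩ := sl_out _ h3 h1
  obtain ⟨g, rfl⟩ := h.surj a
  have h2 : cj (g : G) (Fe z s) ≤ Fe z (g * s * (g : G)⁻¹) := cj_le_iff.2 fun q hq => cj_Fe g.2 hq
  have h4 := GT.CopAct.card_mul_card_le_of_le (Fe_le (z := z) s) (h2.trans (Fe_le _))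
  have h5 : Fe z s ⊓ cj (g : G) (Fe z s) ≤ zpowers z := fun q hq => by_contra fun hz => by
    have h6 := h.mem_zp hq.1.1 hz (g := g * s * g⁻¹) ⟨(g * s * g⁻¹).2, (h2 hq.2).2⟩ ⟨s.2, hq.1.2⟩ h1
    rw [map_mul, map_mul, map_inv] at h6
    rcases mem_zpowers_three h3 h6 with e | e | e
    exacts [h1 (conj_eq_one.1 e), a1 e, a2 e]
  have h6 := card_le_of_le h5
  rw [h.cz.es.card_zpowers] at h6
  rw [card_cj, h.cz.card] at h4
  nlinarith

theorem exists_ln {g : centralizer ({z} : Set G)} (h3 : f g ^ 3 = 1) (h1 : f g ≠ 1) :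
    ∃ (s : centralizer ({z} : Set G)) (i : G), Ln z s i ∧ f s = (f g)⁻¹ := by
  obtain ⟨a, a1, a2⟩ := sl_iota _ h3 h1
  obtain ⟨j, rfl⟩ := h.surj a
  have a3 : f j ^ 4 = 1 := by rw [show 4 = 2 * 2 by norm_num, pow_mul, pow_two (f j), a2]; simp
  have a4 : j ^ 12 = 1 := by
    rw [show 12 = 4 * 3 by norm_num, pow_mul]
    exact Subtype.ext (h.cz.exp _ ((h.ker (j ^ 4)).1 (by rw [map_pow, a3])))
  have a5 : f (j ^ 9) = f j := by rw [map_pow, show 9 = 4 * 2 + 1 by norm_num, pow_succ, pow_mul, a3, one_pow, one_mul]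
  have a6 : j ^ 9 * j ^ 9 * (j ^ 9 * j ^ 9) = 1 := by
    rw [← pow_add, ← pow_add, show 9 + 9 + (9 + 9) = 12 * 3 by norm_num, pow_mul, a4, one_pow]
  rw [← a5] at a1 a2
  generalize j ^ 9 = i at a1 a2 a6
  have hp : IsPGroup 3 ((zpowers (f g)).comap f) := fun x => ⟨2, Subtype.ext (Subtype.ext (by
    have : f (x ^ 3) = 1 := by
      rw [map_pow]
      rcases mem_zpowers_three h3 x.2 with e | e | e <;> rw [e]
      exacts [one_pow 3, h3, by rw [inv_pow, h3, inv_one]]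
    simpa [← pow_mul] using h.cz.exp _ ((h.ker _).1 this)))⟩
  obtain ⟨n, hn⟩ := IsPGroup.iff_card.1 hp
  have ht : f (i * i) = -1 := by rw [map_mul, a2]
  obtain ⟨k, -, m, hm, b1, b2, b3⟩ := exists_fixed_mul_inverted (O := (zpowers (f g)).comap f)
    (by rw [hn]; exact Odd.pow (by decide)) a6 (mem_normalizer_of_conj_mem fun x hx => by
      rw [mem_comap, map_mul, map_mul, map_inv, ht]; simpa using hx) (x := g) (mem_zpowers _)
  have b4 : f m = 1 := by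
    have b5 := congrArg f b2
    rw [map_mul, map_mul, map_inv, ht, map_inv] at b5
    refine eq_one_of_eq_inv ?_ (by simpa using b5)
    rcases mem_zpowers_three h3 hm with e | e | e <;> rw [e]
    exacts [one_pow 3, h3, by rw [inv_pow, h3, inv_one]]
  have b5 : f k = f g := by rw [b3, map_mul, b4, mul_one]
  have c1 : f (k * (i * k⁻¹ * i⁻¹)) = (f g)⁻¹ := by
    rw [map_mul, show i * k⁻¹ * i⁻¹ = (i * k * i⁻¹)⁻¹ by group, map_inv, map_mul, map_mul, map_inv, b5, a1, inv_inv,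
      eq_inv_iff_mul_eq_one, ← pow_three', h3]
  have c2 : i * (k * (i * k⁻¹ * i⁻¹)) * i⁻¹ = (k * (i * k⁻¹ * i⁻¹))⁻¹ := by
    calc _ = i * k * i⁻¹ * (i * i * k * (i * i)⁻¹)⁻¹ := by group
      _ = _ := by rw [← b1]; group
  generalize k * (i * k⁻¹ * i⁻¹) = s at c1 c2
  have c3 : ((s ^ 3 : centralizer ({z} : Set G)) : G) ∈ Q3 z := (h.ker _).1 (by rw [map_pow, c1, inv_pow, h3, inv_one])
  have c4 : i * s ^ 3 * i⁻¹ = (s ^ 3)⁻¹ := by rw [← conj_pow, c2, inv_pow]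
  have c5 : ((s ^ 3 : centralizer ({z} : Set G)) : G) ∈ zpowers z := h.neg ht ⟨c3, by
    have : i * i * s ^ 3 * (i * i)⁻¹ * (s ^ 3)⁻¹ = 1 := by
      calc _ = i * (i * s ^ 3 * i⁻¹) * i⁻¹ * (s ^ 3)⁻¹ := by group
        _ = i * (s ^ 3)⁻¹ * i⁻¹ * (s ^ 3)⁻¹ := by rw [c4]
        _ = (i * s ^ 3 * i⁻¹)⁻¹ * (s ^ 3)⁻¹ := by group
        _ = 1 := by rw [c4]; group
    exact (mem_bot.2 (congrArg Subtype.val this) |> (bot_le : ⊥ ≤ zpowers z))⟩
  refine ⟨s, i, ⟨mem_cen.1 s.2, mem_cen.1 i.2, eq_one_of_sq h.cz.es c5 ?_, fun e => h1 ?_, congrArg Subtype.val a6,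
    congrArg Subtype.val c2, h.inv_of_neg ht⟩, c1⟩
  · exact (congrArg Subtype.val c4).symm.trans (conj_z (mem_cen.1 i.2) c5)
  · rw [← inv_eq_one, ← c1, (h.ker s).2 e]

end Hm

end CA

end Cfsg.Agent.H3
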