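import Mathlib
import Cfsg.Agent.H3.Defs
import Cfsg.Agent.H3.CzA

/-! Structure of `C(z) = 3^(1+4).SL₂(5)` (PLAN section A). -/

set_option autoImplicit false
set_option linter.unusedSectionVars false

namespace Cfsg.Agent.H3

open Cfsg.Agent.Rec Cfsg.Agent.Inv.Fz Cfsg.Agent.T3 Cfsg.Agent.T16 Subgroup Equiv CA
open scoped commutatorElement

universe u

variable {G : Type u} [Group G] [Finite G]

variable {z s i : G}

theorem Cz.conj (h : Cz z) (g : G) : Cz (g * z * g⁻¹) := by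
  obtain ⟨f, h1, h2⟩ := h.hom
  have e := cj_centralizer_singleton g z
  let φ := (cjEquiv g (centralizer {z})).trans (MulEquiv.subgroupCongr e)
  refine ⟨Q3_cj g z ▸ h.es.map (f := (MulAut.conj g).toMonoidHom) (MulAut.conj g).injective,
    by rw [Q3_cj, card_cj, h.card], fun q hq => ?_, by rw [Q3_cj, ← cj_centralizer]; exact cj_mono h.cen,
    f.comp φ.symm.toMonoidHom, h1.comp φ.symm.surjective, fun x => ?_⟩
  · rw [Q3_cj, mem_cj] at hq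
    have := h.exp _ hq
    rwa [show g⁻¹ * q * g = g⁻¹ * q * g⁻¹⁻¹ by rw [inv_inv], conj_pow, conj_eq_one] at this
  · obtain ⟨y, rfl⟩ := φ.surjective x
    rw [Q3_cj, show ((φ y : centralizer ({g * z * g⁻¹} : Set G)) : G) = g * y * g⁻¹ from rfl, conj_mem_cj, ← h2]
    simp

theorem Cz.inv (h : Cz z) : Cz z⁻¹ := by
  obtain ⟨f, h1, h2⟩ := h.hom
  have e : Q3 z⁻¹ = Q3 z := by rw [Q3, cent_inv, Q3]
  refine ⟨⟨by rw [orderOf_inv, h.es.orderOf_z], ?_, ?_, ?_⟩, e ▸ h.card, e ▸ h.exp, e ▸ h.cen,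
    f.comp (MulEquiv.subgroupCongr (cent_inv z)).toMonoidHom, h1.comp (MulEquiv.surjective _), fun x => ?_⟩
  · rw [e, zpowers_inv]; exact h.es.comm_mem
  · rw [e, zpowers_inv]; exact h.es.pow_mem
  · rw [e, zpowers_inv]; exact h.es.center_eq
  · rw [e]; exact h2 _

theorem Cz.of_ze (h : Cz z) {y : G} (hy : ZE z y) : Cz y := by
  rcases hy with hy | hy <;> obtain ⟨g, rfl⟩ := isConj_iff.1 hy
  exacts [h.conj g, h.inv.conj g]

theorem Cz.noFour (h : Cz z) : NoFour z := fun p q p2 q2 pq pz qz => by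
  obtain ⟨f, hf⟩ := exists_hm h
  have h1 : ∀ x ∈ Q3 z, x * x = 1 → x = 1 := fun x hx x2 => by
    have := h.exp x hx
    rwa [pow_three, x2, mul_one] at this
  have h2 : ∀ x : centralizer ({z} : Set G), (x : G) * x = 1 → (x : G) = 1 ∨ f x = -1 := fun x x2 =>
    (sl_sq (f x) (by rw [← map_mul, show x * x = 1 from Subtype.ext x2, map_one])).imp_left
      fun e => h1 _ ((hf.ker x).1 e) x2
  rcases h2 ⟨p, mem_cen.2 pz⟩ p2 with a | a
  · exact .inl a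
  rcases h2 ⟨q, mem_cen.2 qz⟩ q2 with b | b
  · exact .inr (.inl b)
  refine .inr (.inr (inv_mul_eq_one.1 (h1 _ (hf.quo (a.trans b.symm)) ?_)))
  show p⁻¹ * q * (p⁻¹ * q) = 1
  rw [inv_eq_of_mul_eq_one_right p2, mul_assoc, ← mul_assoc q, ← pq, mul_assoc, q2, mul_one, p2]

namespace CA

variable {f : centralizer ({z} : Set G) →* SL25}

theorem Hm.fs (h : Hm z f) (l : Ln z s i) : f ⟨s, mem_cen.2 l.sz⟩ ^ 3 = 1 ∧ f ⟨s, mem_cen.2 l.sz⟩ ≠ 1 :=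
  ⟨by rw [← map_pow, show (⟨s, mem_cen.2 l.sz⟩ : centralizer ({z} : Set G)) ^ 3 = 1 from Subtype.ext l.s3, map_one],
    fun e => l.sQ ((h.ker _).1 e)⟩

theorem main (h : Cz z) (l : Ln z s i) : Nat.card (Fe z s) = 27 ∧ (∀ v ∈ Q3 z, s * v * s⁻¹ * v⁻¹ ∈ Fe z s) ∧
    ∀ e ∈ Fe z s, ∃ v ∈ Q3 z, (s * v * s⁻¹ * v⁻¹)⁻¹ * e ∈ zpowers z := by
  obtain ⟨f, hf⟩ := exists_hm h
  have hN : ((zpowers z).subgroupOf (Q3 z)).Normal := ⟨fun c hc q => cjZ (Q_le z q.2) hc⟩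
  let π := QuotientGroup.mk' ((zpowers z).subgroupOf (Q3 z))
  have hπ : Function.Surjective π := QuotientGroup.mk'_surjective _
  have h1 : ∀ a : Q3 z, π a = 1 ↔ (a : G) ∈ zpowers z := fun a => QuotientGroup.eq_one_iff a
  have hρ : ∀ g, g * z = z * g → ∃ (c : Q3 z →* Q3 z) (ρ : _ →* _), (∀ q, (c q : G) = g * q * g⁻¹) ∧
      ∀ q, ρ (π q) = π (c q) := fun g hg =>
    ⟨((Q3 z).normalizerMonoidHom ⟨g, norm_Q3 hg⟩).toMonoidHom,
      QuotientGroup.map _ _ ((Q3 z).normalizerMonoidHom ⟨g, norm_Q3 hg⟩).toMonoidHom fun c hc => cjZ (mem_cen.2 hg) hc,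
      fun _ => rfl, fun _ => rfl⟩
  obtain ⟨cs, σ, a1, a2⟩ := hρ s l.sz
  obtain ⟨ci, ι, b1, b2⟩ := hρ i l.iz
  have h81 : Nat.card (Q3 z ⧸ (zpowers z).subgroupOf (Q3 z)) = 81 := by
    have := card_mul_relIndex h.es.zpowers_le
    rw [h.es.card_zpowers, h.card] at this
    change (zpowers z).relIndex (Q3 z) = 81
    omega
  have hδ : ∀ q, σ (π q) * (π q)⁻¹ = π (cs q * q⁻¹) := fun q => by rw [a2, map_mul, map_inv]
  have hδ' : ∀ q : Q3 z, ((cs q * q⁻¹ : Q3 z) : G) = s * q * s⁻¹ * (q : G)⁻¹ := fun q => by rw [coe_mul, a1, coe_inv]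
  let K := (σ.eqLocus (MonoidHom.id _))
  have hK : ∀ v, v ∈ K ↔ σ v * v⁻¹ = 1 := fun v => mul_inv_eq_one.symm
  have hK' : ∀ q : Q3 z, π q ∈ K ↔ (q : G) ∈ Fe z s := fun q => by
    rw [hK, hδ, h1, hδ']; exact ⟨fun e => ⟨q.2, e⟩, fun e => e.2⟩
  have hc : Nat.card (Fe z s) = 3 * Nat.card K := by
    have c1 := card_mul_relIndex (Fe_le (z := z) s)
    have c2 := K.card_mul_index
    rw [relIndex, show (Fe z s).subgroupOf (Q3 z) = K.comap π from Subgroup.ext fun q => (hK' q).symm,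
      index_comap_of_surjective _ hπ, h.card] at c1
    rw [h81] at c2
    refine Nat.eq_of_mul_eq_mul_right (Nat.pos_of_ne_zero (index_ne_zero_of_finite (H := K))) ?_
    rw [c1, mul_assoc, c2]
    norm_num
  have h27 := hf.card_Fe (hf.fs l).1 (hf.fs l).2
  obtain ⟨r1, r2, r3⟩ := abs (fun a b => by
      obtain ⟨a, rfl⟩ := hπ a
      obtain ⟨b, rfl⟩ := hπ b
      rw [← commutatorElement_eq_one_iff_mul_comm, ← map_commutatorElement, h1]
      exact h.es.comm_mem a a.2 b b.2) h81 (fun a => by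
      obtain ⟨a, rfl⟩ := hπ a
      rw [← map_pow, h1]
      exact h.es.pow_mem a a.2) σ ι (fun a => by
      obtain ⟨a, rfl⟩ := hπ a
      rw [a2, a2, a2]
      refine congrArg π (Subtype.ext ?_)
      rw [a1, a1, a1]
      calc _ = s ^ 3 * a * (s ^ 3)⁻¹ := by rw [pow_three]; group
        _ = _ := by rw [l.s3]; group) (fun a => by
      obtain ⟨a, rfl⟩ := hπ a
      rw [a2, b2, a2, b2]
      refine congrArg π (Subtype.ext ?_)
      rw [a1, b1, a1, b1]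
      calc _ = s * (i * s * i⁻¹) * (i * a * i⁻¹) * (s * (i * s * i⁻¹))⁻¹ := by group
        _ = _ := by rw [l.is]; group) (fun a => by
      obtain ⟨a, rfl⟩ := hπ a
      rw [b2, b2, eq_inv_iff_mul_eq_one, ← map_mul, h1, coe_mul, b1, b1]
      convert l.tQ a a.2 using 1
      group) K hK (by change Nat.card (Fe z s) ≤ 27 at h27; omega)
  refine ⟨by omega, fun v hv => hδ' ⟨v, hv⟩ ▸ (hK' _).1 (hδ _ ▸ r2 _), fun e he => ?_⟩
  obtain ⟨v, hv⟩ := r3 _ ((hK' ⟨e, he.1⟩).2 he)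
  obtain ⟨v, rfl⟩ := hπ v
  refine ⟨v, v.2, ?_⟩
  have := (h1 ((cs v * v⁻¹)⁻¹ * ⟨e, he.1⟩)).1 (by rw [map_mul, map_inv, ← hδ, hv, inv_mul_cancel])
  rwa [coe_mul, coe_inv, hδ'] at this

theorem Fe_eq_EE (h : Cz z) (l : Ln z s i) : Fe z s = EE z s := by
  refine le_antisymm (fun e he => ⟨he.1, mem_cen.2 ?_⟩) fun e he => ⟨he.1, by
    rw [← mem_cen.1 he.2]; simp⟩
  have ht : i * i * z = z * (i * i) := (show Commute i z from l.iz).mul_left l.iz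
  have h1 : i * i * s * (i * i)⁻¹ = s := by
    calc _ = i * (i * s * i⁻¹) * i⁻¹ := by group
      _ = (i * s * i⁻¹)⁻¹ := by rw [l.is, ← conj_inv, l.is]
      _ = s := by rw [l.is, inv_inv]
  have h2 := conj_z l.sz (l.tQ e he.1)
  have h3 := conj_z (mem_cen.1 (Q_le z (inv_mem he.1))) he.2
  have h4 := eq_one_of_sq h.es he.2 (by
    have h5 := conj_z ht he.2
    have h6 := conj_z (mem_cen.1 (Q_le z (h.es.zpowers_le (l.tQ e he.1)))) (inv_mem he.2)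
    calc _ = i * i * e * (i * i)⁻¹ * e * (e⁻¹ * (s * e * s⁻¹ * e⁻¹) * e⁻¹⁻¹)⁻¹ * (i * i * e * (i * i)⁻¹ * e)⁻¹ := by
          rw [h3, h6]
      _ = s * (i * i * e * (i * i)⁻¹ * e) * s⁻¹ * (e⁻¹ * (s * e * s⁻¹ * e⁻¹) * e⁻¹⁻¹)⁻¹ *
          (i * i * e * (i * i)⁻¹ * e)⁻¹ := by rw [h2]
      _ = s * (i * i * e * (i * i)⁻¹) * s⁻¹ * (i * i * e * (i * i)⁻¹)⁻¹ := by group
      _ = i * i * s * (i * i)⁻¹ * (i * i * e * (i * i)⁻¹) * (i * i * s * (i * i)⁻¹)⁻¹ * (i * i * e * (i * i)⁻¹)⁻¹ := by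
          rw [h1]
      _ = i * i * (s * e * s⁻¹ * e⁻¹) * (i * i)⁻¹ := by group
      _ = _ := h5)
  rw [mul_inv_eq_one, mul_inv_eq_iff_eq_mul] at h4
  exact h4.symm

end CA

theorem Ln.card_E (h : Cz z) (l : Ln z s i) : Nat.card (EE z s) = 27 := Fe_eq_EE h l ▸ (main h l).1

theorem Ln.cm (h : Cz z) (l : Ln z s i) : ∀ v ∈ Q3 z, s * v * s⁻¹ * v⁻¹ ∈ EE z s := Fe_eq_EE h l ▸ (main h l).2.1

theorem Ln.comm_E (h : Cz z) (l : Ln z s i) : ∀ a ∈ EE z s, ∀ b ∈ EE z s, a * b = b * a := fun a ha b hb => by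
  obtain ⟨v, hv, e⟩ := (main h l).2.2 a (Fe_eq_EE h l ▸ ha)
  have h1 := cjQ (mem_cen.2 l.sz) hv
  have h2 := om_conj h.es l.sz hv hb.1
  rw [mem_cen'.1 (show s ∈ centralizer {b} from mem_cen.2 (mem_cen.1 hb.2).symm)] at h2
  have h3 := mul_mem h1 (inv_mem hv)
  rw [← om_eq_zero h.es ha.1 hb.1, ← mul_inv_cancel_left (s * v * s⁻¹ * v⁻¹) a,
    om_mul_left h.es h3 (h.es.zpowers_le e) hb.1, om_z_left h.es e hb.1, om_mul_left h.es h1 (inv_mem hv) hb.1,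
    om_inv_left h.es hv hb.1, h2]
  ring

theorem Ln.mem_E (h : Cz z) (l : Ln z s i) : ∀ v ∈ Q3 z, s * v * s⁻¹ * v⁻¹ ∈ zpowers z → v ∈ EE z s :=
  fun _ hv e => (Fe_eq_EE h l).le ⟨hv, e⟩

theorem Cz.exists_ln (h : Cz z) {q : G} (hq : q ∈ Q3 z) (hz : q ∉ zpowers z) : ∃ s i, Ln z s i ∧ q ∈ EE z s := by
  obtain ⟨f, hf⟩ := exists_hm h
  obtain ⟨g, e, h1⟩ := hf.exists_out hq hz
  have hg : (g : G) ∈ Kq z q := ⟨g.2, by rw [e]; simp⟩
  obtain ⟨s, i, l, e'⟩ := hf.exists_ln (hf.cube hq hz hg) h1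
  exact ⟨s, i, l, (Fe_eq_EE h l).le ((hf.Fe_eq (y := g⁻¹) (by rw [e', map_inv])).ge ⟨hq, (inv_mem hg).2⟩)⟩

theorem Ln.stab (h : Cz z) (l : Ln z s i) {g q : G} (hg : g * z = z * g) (hq : q ∈ EE z s) (hz : q ∉ zpowers z)
    (e : g * q * g⁻¹ * q⁻¹ ∈ zpowers z) : g ∈ SS z s := by
  obtain ⟨f, hf⟩ := exists_hm h
  exact (hf.mem_SS (g := ⟨g, mem_cen.2 hg⟩) (s := ⟨s, mem_cen.2 l.sz⟩)).2 (hf.mem_zp hq.1 hz ⟨mem_cen.2 hg, e⟩
    ⟨mem_cen.2 l.sz, ((Fe_eq_EE h l).ge hq).2⟩ (hf.fs l).2)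

theorem Ln.cent_E (h : Cz z) (l : Ln z s i) {g : G} (hg : ∀ e ∈ EE z s, g * e = e * g) : g ∈ JJ z s := by
  have hz : z ∈ EE z s := ⟨h.es.z_mem, mem_cen.2 l.sz.symm⟩
  obtain ⟨q, hq, hqz⟩ : ∃ q ∈ EE z s, q ∉ zpowers z := by
    by_contra hn
    push Not at hn
    have := card_le_of_le (show EE z s ≤ zpowers z from hn)
    rw [l.card_E h, h.es.card_zpowers] at this
    omega
  obtain ⟨v, hv, _, ⟨k, rfl⟩, rfl⟩ := (GT.PG.mem_sup_of_le_normalizer (zpowers_le.2 (norm_Q3 l.sz))).1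
    (l.stab h (hg z hz) hq hqz (by rw [hg q hq]; simp))
  refine mul_mem (mem_sup_left ?_) (mem_sup_right ⟨k, rfl⟩)
  have h1 : ∀ e ∈ EE z s, e * v = v * e := fun e he => by
    have h2 : e * s ^ k = s ^ k * e := (show Commute e s from mem_cen.1 he.2).zpow_right k
    refine mul_right_cancel (b := s ^ k) ?_
    rw [mul_assoc, ← hg e he, mul_assoc, mul_assoc, h2]
  have h2 := card_ab_le h.es h.card (A := EE z s ⊔ zpowers v) (sup_le inf_le_left (zpowers_le.2 hv))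
    (Loc.Mss.le_cent_sup (sup_le (fun a ha b hb => l.comm_E h b hb a ha) (zpowers_le.2 h1))
      (sup_le (Loc.Mss.cent_comm (zpowers_le.2 h1)) (le_centralizer _)))
  exact (eq_of_le_of_card_ge le_sup_left (by rwa [l.card_E h])).ge (mem_sup_right (mem_zpowers v))

theorem CA.JJ_eq (h : Cz z) (l : Ln z s i) : JJ z s = centralizer (EE z s : Set G) :=
  le_antisymm (sup_le (fun a ha b hb => l.comm_E h b hb a ha) (zpowers_le.2 fun _ hb => mem_cen.1 hb.2))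
    fun _ hg => l.cent_E h fun e he => (hg e he).symm

theorem Ln.conj_ln (h : Cz z) (l : Ln z s i) {s' i' : G} (l' : Ln z s' i') :
    ∃ g, g * z = z * g ∧ cj g (EE z s') = EE z s ∧ cj g (JJ z s') = JJ z s := by
  obtain ⟨f, hf⟩ := exists_hm h
  obtain ⟨a, ha⟩ := sl_conj _ (hf.fs l).1 (hf.fs l).2
  obtain ⟨b, hb⟩ := sl_conj _ (hf.fs l').1 (hf.fs l').2
  obtain ⟨g, hg⟩ := hf.surj (a * b⁻¹)
  have h1 : cj (g : G) (EE z s') = EE z s := by
    refine eq_of_le_of_card_ge (cj_le_iff.2 fun q hq => (Fe_eq_EE h l).le ?_) (by rw [card_cj, l.card_E h, l'.card_E h])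
    refine (hf.Fe_eq (x := g * ⟨s', mem_cen.2 l'.sz⟩ * g⁻¹) (y := ⟨s, mem_cen.2 l.sz⟩) ?_).le
      (cj_Fe g.2 ((Fe_eq_EE h l').ge hq))
    rw [map_mul, map_mul, map_inv, hg]
    calc _ = a * b⁻¹ * (f ⟨s', mem_cen.2 l'.sz⟩ * b) * a⁻¹ := by group
      _ = a * u0 * a⁻¹ := by rw [← hb]; group
      _ = _ := by rw [ha]; group
  exact ⟨g, mem_cen.1 g.2, h1, by rw [JJ_eq h l, JJ_eq h l', cj_centralizer, h1]⟩

theorem Cz.three (h : Cz z) {P : Subgroup G} (hP : P ≤ centralizer {z}) (h3 : IsPGroup 3 P) :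
    Nat.card P ≤ 3 * Nat.card (P ⊓ Q3 z : Subgroup G) := by
  obtain ⟨f, hf⟩ := exists_hm h
  have h1 := (f.comp (inclusion hP)).ker.card_mul_index
  obtain ⟨k, hk⟩ := IsPGroup.iff_card.1 (h3.of_surjective _ (f.comp (inclusion hP)).rangeRestrict_surjective)
  have h2 := card_subgroup_dvd_card (f.comp (inclusion hP)).range
  rw [index_ker, hk, show (f.comp (inclusion hP)).ker = (P ⊓ Q3 z).subgroupOf P from Subgroup.ext fun x =>
    (hf.ker _).trans ⟨fun e => ⟨x.2, e⟩, fun e => e.2⟩, Nat.card_congr (subgroupOfEquivOfLe inf_le_left).toEquiv] at h1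
  rw [hk, Perm.card_sl_two_five] at h2
  rw [← h1, mul_comm]
  refine Nat.mul_le_mul_right _ ?_
  rcases k with _ | _ | k
  · norm_num
  · norm_num
  · exact absurd ((Dvd.intro_left (3 ^ k) (by ring : 3 ^ k * 9 = _)).trans h2) (by norm_num)

theorem Cz.cent_out (h : Cz z) {g : G} (hg : g * z = z * g) (g3 : g ^ 3 = 1) (hQ : g ∉ Q3 z) :
    Nat.card (Q3 z ⊓ centralizer {g} : Subgroup G) ≤ 27 := by
  obtain ⟨f, hf⟩ := exists_hm h
  refine (card_le_of_le fun q hq => ?_).trans (hf.card_Fe (s := ⟨g, mem_cen.2 hg⟩) (by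
    rw [← map_pow, show (⟨g, mem_cen.2 hg⟩ : centralizer ({z} : Set G)) ^ 3 = 1 from Subtype.ext g3, map_one])
    fun e => hQ ((hf.ker _).1 e))
  exact ⟨hq.1, by show g * q * g⁻¹ * q⁻¹ ∈ _; rw [← mem_cen.1 hq.2]; simp⟩

theorem Cz.sig (h : Cz z) {X A : Subgroup G} (hX : X ≤ centralizer {z}) (cop : (Nat.card X).Coprime 3)
    (hA : A ≤ centralizer {z}) (h3 : IsPGroup 3 A) (h27 : 27 ≤ Nat.card A) (hn : A ≤ normalizer (X : Set G)) :
    X = ⊥ := by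
  obtain ⟨f, hf⟩ := exists_hm h
  obtain ⟨q, hq, hz⟩ : ∃ q ∈ A ⊓ Q3 z, q ∉ zpowers z := by
    by_contra hn
    push Not at hn
    have h1 := card_le_of_le (show A ⊓ Q3 z ≤ zpowers z from hn)
    have h2 := h.three hA h3
    rw [h.es.card_zpowers] at h1
    omega
  have h1 : ∀ x ∈ X, ∀ k, x ^ 3 ^ k = 1 → x = 1 := fun x hx k e => orderOf_eq_one_iff.1
    (Nat.eq_one_of_dvd_coprimes (cop.pow_right k) (orderOf_dvd_natCard X hx) (orderOf_dvd_of_pow_eq_one e))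
  refine eq_bot_iff.2 fun x hx => h1 x hx 2 ?_
  have h2 := h1 (x * q * x⁻¹ * q⁻¹) (by
    simpa [mul_assoc] using mul_mem hx (conj_mem_of_mem_norm (hn hq.1) (inv_mem hx))) 1
    (h.exp _ (mul_mem (cjQ (hX hx) hq.2) (inv_mem hq.2)))
  have h4 := hf.cube hq.2 hz (g := ⟨x, hX hx⟩) ⟨hX hx, by rw [h2]; exact one_mem _⟩
  rw [← map_pow, hf.ker] at h4
  rw [pow_two, pow_mul]
  exact h.exp _ h4

theorem Ln.irr (h : Cz z) (l : Ln z s i) {s2 : G} (h1 : s2 * z = z * s2) (h2 : s2 ^ 3 = 1) (h3 : s2 ∉ SS z s)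
    (h4 : i ∈ normalizer (SS z s2 : Set G)) {U : Subgroup G} (hU : U ≤ Q3 z) (hz : z ∈ U)
    (n1 : s ∈ normalizer (U : Set G)) (n2 : s2 ∈ normalizer (U : Set G)) : U = zpowers z ∨ U = Q3 z := by
  obtain ⟨f, hf⟩ := exists_hm h
  set a : centralizer ({z} : Set G) := ⟨s, mem_cen.2 l.sz⟩
  set b : centralizer ({z} : Set G) := ⟨s2, mem_cen.2 h1⟩
  set j : centralizer ({z} : Set G) := ⟨i, mem_cen.2 l.iz⟩
  have a1 := mt (hf.mem_SS (g := b) (s := a)).2 h3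
  have a2 : f b ^ 3 = 1 := by rw [← map_pow, show b ^ 3 = 1 from Subtype.ext h2, map_one]
  have a3 : f b ≠ 1 := fun e => a1 (e ▸ one_mem _)
  have a4 := (hf.mem_SS (g := j * b * j⁻¹) (s := b)).1 (conj_mem_of_mem_norm h4 (mem_sup_right (mem_zpowers s2)))
  rw [map_mul, map_mul, map_inv] at a4
  rcases sl_irr (f a) (hf.fs l).1 (hf.fs l).2 (f j) (by
      rw [← map_inv, ← map_mul, ← map_mul, show j * a = a⁻¹ * j from Subtype.ext (mul_inv_eq_iff_eq_mul.1 l.is)])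
    (f b) a2 a3 (fun e => a1 (e ▸ mem_zpowers _)) (fun e => a1 (e ▸ inv_mem (mem_zpowers _)))
    (((mem_zpowers_three a2 a4).resolve_left fun e => a3 (conj_eq_one.1 e)).imp mul_inv_eq_iff_eq_mul.1
      mul_inv_eq_iff_eq_mul.1) with e | e
  · exact hf.five (g := a * b) (by rwa [map_mul]) hU hz (mul_mem n1 n2)
  · exact hf.five (g := a * b⁻¹) (by rwa [map_mul, map_inv]) hU hz (mul_mem n1 (inv_mem n2))

end Cfsg.Agent.H3
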