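import Mathlib
import Cfsg.Agent.H3.Cz
import Cfsg.Agent.H3.B0

/-! Isotropic points and the choice of the letters. -/

set_option autoImplicit false
set_option linter.unusedSectionVars false

namespace Cfsg.Agent.H3

open Cfsg.Agent.Rec Cfsg.Agent.Inv.Fz Cfsg.Agent.T3 Cfsg.Agent.T16 Cfsg.Agent.GT.PG Subgroup
open scoped commutatorElement

universe u

variable {G : Type u} [Group G] [Finite G] {z s i q : G}

theorem zcj {a y : G} (h : ZE a y) (g : G) : ZE a (g * y * g⁻¹) :=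
  h.imp (·.trans (isConj_iff.2 ⟨g, rfl⟩)) (·.trans (isConj_iff.2 ⟨g, rfl⟩))

theorem zinv {a y : G} (h : ZE a y) : ZE a y⁻¹ := by
  rcases h with h | h <;> obtain ⟨g, rfl⟩ := isConj_iff.1 h
  · exact .inr (isConj_iff.2 ⟨g, by group⟩)
  · exact .inl (isConj_iff.2 ⟨g, by group⟩)

theorem zcj' {a y g : G} (h : ZE a (g * y * g⁻¹)) : ZE a y := by simpa [mul_assoc] using zcj h g⁻¹

theorem mem_EE {v : G} : v ∈ EE z s ↔ v ∈ Q3 z ∧ v * s = s * v := mem_inf.trans (and_congr_right' mem_cen)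

theorem p3 (s3 : s ^ 3 = 1) : IsPGroup 3 (zpowers s) := fun x =>
  ⟨1, Subtype.ext (by rcases mem_zpowers_three s3 x.2 with e | e | e <;> simp [e, s3])⟩

theorem norm_of_cen {K : Subgroup G} (h : K ≤ centralizer {s}) : s ∈ normalizer (K : Set G) :=
  centralizer_le_normalizer _ fun _ hx => mem_cen.1 (h hx)

theorem Cz.pS (h : Cz z) (sz : s * z = z * s) (s3 : s ^ 3 = 1) : IsPGroup 3 (SS z s) :=
  h.es.isPGroup.to_sup_of_normal_left' (p3 s3) (zpowers_le.2 (Q3_norm sz))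

theorem Cz.card_cent (h : Cz z) (hq : q ∈ Q3 z) (hz : q ∉ zpowers z) :
    Nat.card (Q3 z ⊓ centralizer {q} : Subgroup G) = 81 := by
  have := relIndex_mul_card_inf (centralizer {q}) (Q3 z)
  rw [h.es.relIndex_centralizer hq hz, h.card, inf_comm] at this
  omega

theorem Ln.z_mem (h : Cz z) (l : Ln z s i) : zpowers z ≤ EE z s :=
  zpowers_le.2 (mem_EE.2 ⟨h.es.z_mem, l.sz.symm⟩)

theorem Ln.iso_a (h : Cz z) (l : Ln z s i) (hq : q ∈ EE z s) (hz : q ∉ zpowers z) (ze : ZE z q) : z ∈ Q3 q := by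
  by_contra hn
  have hq' := h.of_ze ze
  have h1 : (Q3 z ⊓ centralizer {q}) ⊔ zpowers s ≤ centralizer {q} :=
    sup_le inf_le_right (zpowers_le.2 (mem_cen.2 (mem_EE.1 hq).2.symm))
  have h2 := hq'.three h1 ((h.pS l.sz l.s3).to_le (sup_le_sup_right inf_le_left _))
  have h3 := hq'.cent_out (Q3_comm hq.1).symm h.es.z_pow hn
  have h4 : ((Q3 z ⊓ centralizer {q}) ⊔ zpowers s) ⊓ Q3 q ≤ Q3 q ⊓ centralizer {z} := le_inf inf_le_right
    (inf_le_left.trans (sup_le (fun x hx => mem_cen.2 (Q3_comm hx.1)) (zpowers_le.2 (mem_cen.2 l.sz))))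
  have h5 := card_le_of_le h4
  have h6 := Inv.Fz.card_lt_of_lt (lt_of_le_of_ne (le_sup_left : Q3 z ⊓ centralizer {q} ≤ _ ⊔ zpowers s)
    fun e => l.sQ (e.ge (mem_sup_right (mem_zpowers s))).1)
  rw [h.card_cent hq.1 hz] at h6
  omega

theorem Ln.iso_b (h : Cz z) (l : Ln z s i) (hq : q ∈ EE z s) (hz : q ∉ zpowers z) (ze : ZE z q) {w : G} (hw : w ∈ Q3 z)
    (wq : w * q = q * w) : s * w * s⁻¹ * w⁻¹ ∈ zpowers z ⊔ zpowers q := by
  by_cases hE : w ∈ EE z s
  · rw [← (mem_EE.1 hE).2]; simp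
  have hq' := h.of_ze ze
  have z1 := l.iso_a h hq hz ze
  have z2 : z ∉ zpowers q := fun e => hz (hq'.es.zpowers_eq_of_mem e h.es.z_ne_one ▸ mem_zpowers q)
  obtain ⟨y0, hy0, e0⟩ := hq'.es.exists_commutator_eq z1 z2
  have c0 := hq'.es.card_split z1 hy0 e0
  obtain ⟨x1, h1, x2, h2, e⟩ := (hq'.es.split z1 hy0 e0).exists_pair fun e => by
    rw [e, hq'.es.card_zpowers, hq'.card] at c0; omega
  have cE := l.cm h w hw
  generalize hc : s * w * s⁻¹ * w⁻¹ = c at cE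
  have EQ : EE z s ≤ Q3 z := inf_le_left
  have KQ : zpowers z ⊔ zpowers c ≤ Q3 z := sup_le h.es.zpowers_le (zpowers_le.2 cE.1)
  have DQ : EE z s ⊔ zpowers w ≤ Q3 z := sup_le EQ (zpowers_le.2 hw)
  have hD : EE z s ⊔ zpowers w = Q3 z ⊓ centralizer {q} := eq_of_le_of_card_ge
    (le_inf DQ (sup_le (fun x hx => mem_cen.2 (l.comm_E h x hx q hq)) (zpowers_le.2 (mem_cen.2 wq))))
    (by rw [h.card_cent hq.1 hz, card_sup_zpowers Nat.prime_three (h.es.le_normalizer_of_zpowers_le (l.z_mem h) EQ hw) hE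
      (h.exp w hw ▸ one_mem _), l.card_E h])
  have n1 := h.es.le_normalizer_of_zpowers_le le_sup_left KQ
  have n2 : s ∈ normalizer ((zpowers z ⊔ zpowers c : Subgroup G) : Set G) :=
    norm_of_cen (sup_le (zpowers_le.2 (mem_cen.2 l.sz.symm)) (zpowers_le.2 (mem_cen.2 (mem_EE.1 cE).2)))
  have k1 : ⁅EE z s ⊔ zpowers w, zpowers s⁆ ≤ zpowers z ⊔ zpowers c := by
    refine GT.commutator_sup_le (DQ.trans n1) (commutator_le.2 fun a ha b hb => ?_) (le_trans
      (commutator_mono le_sup_right le_rfl) (commutator_sup_zpowers_le (zpowers_le.2 n2) (n1 hw) fun g hg => ?_))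
    · rw [commutatorElement_def, conj_z (mem_EE.1 ha).2 hb]; simp
    · have cK : c ∈ zpowers z ⊔ zpowers c := mem_sup_right (mem_zpowers c)
      rcases mem_zpowers_three l.s3 hg with rfl | rfl | rfl
      · simp
      · exact (show ⁅w, g⁆ = c⁻¹ by rw [← hc, commutatorElement_def]; group) ▸ inv_mem cK
      · exact (show ⁅w, s⁻¹⁆ = s⁻¹ * c * s⁻¹⁻¹ by rw [← hc, commutatorElement_def]; group) ▸
          (mem_normalizer_iff.1 (inv_mem n2) c).1 cK
  have n3 : (EE z s ⊔ zpowers w) ⊔ zpowers s ≤ normalizer ((zpowers z ⊔ zpowers c : Subgroup G) : Set G) :=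
    sup_le (DQ.trans n1) (zpowers_le.2 n2)
  have k2 : ⁅(EE z s ⊔ zpowers w) ⊔ zpowers s, (EE z s ⊔ zpowers w) ⊔ zpowers s⁆ ≤ zpowers z ⊔ zpowers c := by
    refine GT.commutator_sup_le n3 ?_ ?_ <;> rw [commutator_comm] <;> refine GT.commutator_sup_le n3 ?_ ?_
    · exact (commutator_mono DQ DQ).trans (h.es.commutator_le.trans le_sup_left)
    · rwa [commutator_comm]
    · exact k1
    · exact commutator_le.2 fun a ha b hb => by rw [commutatorElement_def, conj_z (mem_cen.1 (zpowers_le.2 (mem_cen.2 rfl) ha)) hb]; simp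
  have hP : ∀ x ∈ Q3 q ⊓ centralizer {z} ⊓ centralizer {y0}, x ∈ (EE z s ⊔ zpowers w) ⊔ zpowers s := fun x hx => by
    have xq := Q3_comm hx.1.1
    obtain ⟨v, hv, k, rfl⟩ := (mem_sup_zpowers_of_mem_normalizer (Q3_norm l.sz)).1
      (l.stab h (mem_cen.1 hx.1.2) hq hz (by rw [xq]; simp))
    refine mul_mem (mem_sup_left (hD.ge ⟨hv, ?_⟩)) (mem_sup_right (zpow_mem_zpowers s k))
    exact (mul_mem_cancel_right (zpow_mem (mem_cen.2 (mem_EE.1 hq).2.symm) k)).1 (mem_cen.2 xq)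
  have k3 : q ∈ zpowers z ⊔ zpowers c := e ▸ k2 (commutator_mem_commutator (hP _ h1) (hP _ h2))
  obtain ⟨a, ha, k, rfl⟩ := (mem_sup_zpowers_of_mem_normalizer
    (h.es.le_normalizer_of_zpowers_le le_rfl h.es.zpowers_le cE.1)).1 k3
  have aK : a ∈ zpowers z ⊔ zpowers (a * c ^ k) := mem_sup_left ha
  have cK : c ^ k ∈ zpowers z ⊔ zpowers (a * c ^ k) := (mul_mem_cancel_left aK).1 (mem_sup_right (mem_zpowers _))
  rcases zpow_cases (h.exp c cE.1) k with e1 | e1 | e1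
  · exact absurd (by rwa [e1, mul_one]) hz
  · rwa [e1] at cK ⊢
  · nth_rewrite 2 [e1] at cK; exact inv_mem_iff.1 cK

theorem Ln.inv (l : Ln z s i) : Ln z s⁻¹ i :=
  ⟨(show Commute s z from l.sz).inv_left.eq, l.iz, by rw [inv_pow, l.s3, inv_one], fun e => l.sQ (inv_mem_iff.1 e), l.i4,
    by rw [← conj_inv, l.is], l.tQ⟩

theorem Ln.ts (l : Ln z s i) : i * i * s * (i * i)⁻¹ = s := by
  rw [show i * i * s * (i * i)⁻¹ = i * (i * s * i⁻¹) * i⁻¹ by group, l.is, ← conj_inv, l.is, inv_inv]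

theorem Ln.tz (l : Ln z s i) : i * i * z = z * (i * i) := ((show Commute i z from l.iz).mul_left l.iz).eq

/-- The element of `q ⟨z⟩` inverted by `i * i`. -/
theorem Ln.exists_inv (h : Cz z) (l : Ln z s i) (hq : q ∈ Q3 z) :
    ∃ c ∈ zpowers z, i * i * (q * c) * (i * i)⁻¹ = (q * c)⁻¹ := by
  have hc := l.tQ q hq
  refine ⟨_, hc, ?_⟩
  have c3 := h.es.pow_eq_one_of_mem_zpowers hc
  have c1 := (h.es.commute_of_mem_zpowers hq hc).inv_left.eq
  rw [← conj_mul, conj_z l.tz hc]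
  generalize hd : i * i * q * (i * i)⁻¹ * q = c at c3 c1
  rw [eq_mul_inv_of_mul_eq hd, mul_inv_rev, mul_assoc, c1, ← mul_assoc, eq_inv_of_mul_eq_one_left (a := c * c)]
  rw [← c3, pow_succ, pow_two]

theorem exists_fm0 {y : G} (h : Cz z) (l : Ln z s i) (hy : y ∈ EE z s) (hz : y ∉ zpowers z) (ze : ZE z y)
    (ty : i * i * y * (i * i)⁻¹ = y⁻¹) : Nonempty (Fm G) := by
  have es := h.es
  have yQ := hy.1
  have y'Q := Q3_conj l.iz yQ
  have y'E : i * y * i⁻¹ ∈ EE z s⁻¹ := mem_EE.2 ⟨y'Q, by rw [← l.is, conj_mul, conj_mul, (mem_EE.1 hy).2]⟩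
  replace y'E : i * y * i⁻¹ ∈ EE z s := mem_EE.2 ⟨y'Q, by
    simpa using (show Commute _ _ from (mem_EE.1 y'E).2).inv_right.eq⟩
  have yy := l.comm_E h _ hy _ y'E
  obtain ⟨x, hx, xy⟩ := es.exists_commutator_eq yQ hz
  have o1 := om_one es xy
  obtain ⟨w0, w0Q, a0, a1⟩ : ∃ w ∈ Q3 z, om z w y = 0 ∧ om z w (i * y * i⁻¹) = 1 := by
    by_contra! hn
    have h1 : ∀ g ∈ Q3 z, om z g y = 0 → om z g (i * y * i⁻¹) = 0 := fun g hg e => by
      have h2 := hn g hg e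
      have h3 := hn g⁻¹ (inv_mem hg) (by rw [om_inv_left es hg yQ, e, neg_zero])
      rw [om_inv_left es hg y'Q] at h3
      revert h2 h3; generalize om z g (i * y * i⁻¹) = m; revert m; decide
    have h2 : ∀ g ∈ Q3 z, om z g (i * y * i⁻¹) = - (om z g y * om z x (i * y * i⁻¹)) := fun g hg => by
      have h3 := h1 _ (mul_mem hg (pow_mem hx (om z g y).val)) (by
        rw [om_mul_left es hg (pow_mem hx _) yQ, om_pow_left es hx yQ, om_swap es yQ hx, o1]; ring)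
      rw [om_mul_left es hg (pow_mem hx _) y'Q, om_pow_left es hx y'Q] at h3
      linear_combination h3
    have i1 : i⁻¹ * z = z * i⁻¹ := (show Commute i z from l.iz).inv_left.eq
    have xQ := Q3_conj i1 hx
    have h3 := h2 _ (Q3_conj l.iz hx)
    have h4 := h2 x hx
    have h5 := h2 _ (Q3_conj l.iz xQ)
    have h6 := om_conj es l.iz hx y'Q
    rw [om_conj es l.iz hx yQ, om_swap es yQ hx, o1] at h3
    rw [show i * (i * y * i⁻¹) * i⁻¹ = i * i * y * (i * i)⁻¹ by group, ty, om_inv_right es (Q3_conj l.iz hx) yQ] at h6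
    revert h3 h6
    generalize om z (i * x * i⁻¹) y = m
    generalize om z x (i * y * i⁻¹) = n
    revert m n; decide
  obtain ⟨c, hc, tw⟩ := l.exists_inv h w0Q
  have w1Q := mul_mem w0Q (es.zpowers_le hc)
  have b0 : om z (w0 * c) y = 0 := by rw [om_mul_left es w0Q (es.zpowers_le hc) yQ, a0, om_z_left es hc yQ, add_zero]
  have b1 : om z (w0 * c) (i * y * i⁻¹) = 1 := by
    rw [om_mul_left es w0Q (es.zpowers_le hc) y'Q, a1, om_z_left es hc y'Q, add_zero]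
  generalize w0 * c = w at tw w1Q b0 b1
  have wy : Commute w y := (om_eq_zero es w1Q yQ).1 b0
  have w'Q := Q3_conj l.iz w1Q
  have b2 : om z y (i * w * i⁻¹) = 1 := by
    have := om_conj es l.iz w1Q y'Q
    rw [show i * (i * y * i⁻¹) * i⁻¹ = i * i * y * (i * i)⁻¹ by group, ty, om_inv_right es w'Q yQ, b1] at this
    rw [om_swap es w'Q yQ, this]
  obtain ⟨s', l', sy, sw⟩ : ∃ s', Ln z s' i ∧ s' * y = y * s' ∧ s' * w * s'⁻¹ = w * y := by
    obtain ⟨a, ha, k, e⟩ := (mem_sup_zpowers_of_mem_normalizer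
      (es.le_normalizer_of_zpowers_le le_rfl es.zpowers_le yQ)).1 (l.iso_b h hy hz ze w1Q wy.eq)
    have sy := (mem_EE.1 hy).2
    have e1 : s * w * s⁻¹ = a * y ^ k * w := by rw [e]; group
    have e2 : s * w⁻¹ * s⁻¹ = a * y⁻¹ ^ k * w⁻¹ := by
      rw [← tw, ← ty, ← conj_z l.tz ha, conj_zpow, conj_mul, conj_mul, ← e1,
        ← conj_mul (b := i * i) (a := s * w), ← conj_mul (b := i * i) (a := s), ← conj_inv (b := i * i), l.ts]
    rw [← conj_inv, e1, mul_inv_rev, mul_inv_rev, inv_zpow, mul_assoc a,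
      (wy.zpow_right k).inv_inv.symm.eq, ← mul_assoc a, (es.commute_of_mem_zpowers (inv_mem w1Q) ha).symm.eq, mul_assoc,
      (es.commute_of_mem_zpowers (inv_mem ((Q3 z).zpow_mem yQ k)) ha).symm.eq] at e2
    have e3 : a = 1 := eq_one_of_eq_inv (es.pow_eq_one_of_mem_zpowers ha) (mul_left_cancel (mul_left_cancel e2)).symm
    rw [e3, one_mul] at e1
    rcases zpow_cases (h.exp y yQ) k with e4 | e4 | e4 <;> rw [e4] at e1
    · have := l.comm_E h w (mem_EE.2 ⟨w1Q, by rw [mul_inv_eq_iff_eq_mul.1 e1, one_mul]⟩) _ y'E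
      rw [(om_eq_zero es w1Q y'Q).2 this] at b1
      exact absurd b1 (by decide)
    · exact ⟨s, l, sy.symm, e1.trans wy.symm.eq⟩
    · refine ⟨s⁻¹, l.inv, (show Commute s y from sy.symm).inv_left.eq, ?_⟩
      calc _ = s⁻¹ * (y * (s * w * s⁻¹)) * s := by rw [e1]; group
        _ = y * w := by rw [← mul_assoc, ← mul_assoc, (show Commute s y from sy.symm).inv_left.eq]; group
        _ = _ := wy.symm.eq
  set m := (om z w (i * w * i⁻¹)).val with hm
  have mQ := pow_mem yQ m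
  have m'Q := pow_mem y'Q m
  refine ⟨⟨z, y, w * y ^ m, s', i, h, l', ze, yQ, mul_mem w1Q mQ, ty, ?_, sy, yy, (wy.mul_left ((Commute.refl y).pow_left m)).eq,
    comm_of_om es (mul_mem w1Q mQ) y'Q ?_, ?_, ?_⟩⟩
  · rw [← conj_mul, ← conj_pow, tw, ty, inv_pow, mul_inv_rev, (wy.pow_right m).inv_inv.eq]
  · rw [om_mul_left es w1Q mQ y'Q, b1, om_pow_left es yQ y'Q, (om_eq_zero es yQ y'Q).2 yy]; ring
  · rw [← conj_mul, ← conj_pow, ← om_eq_zero es (mul_mem w1Q mQ) (mul_mem w'Q m'Q), om_mul_left es w1Q mQ (mul_mem w'Q m'Q),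
      om_mul_right es w1Q w'Q m'Q, om_mul_right es mQ w'Q m'Q, om_pow_right es w1Q y'Q, om_pow_left es yQ w'Q,
      om_pow_left es yQ m'Q, om_pow_right es yQ y'Q, b1, b2, (om_eq_zero es yQ y'Q).2 yy]
    generalize om z w (i * w * i⁻¹) = n
    revert n; decide
  · rw [← conj_mul, ← conj_pow, sw, sy, mul_inv_cancel_right, mul_assoc, mul_assoc, pow_mul_comm']

end Cfsg.Agent.H3
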