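import Mathlib
import Cfsg.Agent.H3.Fm0

/-! The frame (PLAN section B). -/

set_option autoImplicit false
set_option linter.unusedSectionVars false
set_option synthInstance.maxSize 100000
set_option synthInstance.maxHeartbeats 1000000

namespace Cfsg.Agent.H3

open Cfsg.Agent.Rec Cfsg.Agent.Inv.Fz Cfsg.Agent.T3 Cfsg.Agent.T16 Cfsg.Agent.GT.PG Subgroup Equiv
open scoped commutatorElement

universe u

variable {G : Type u} [Group G] [Finite G]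

theorem ze_mul {z y c : G} (h : Cz z) (hy : y ∈ Q3 z) (hz : y ∉ zpowers z) (ze : ZE z y) (hc : c ∈ zpowers z) :
    ZE z (y * c) := by
  obtain ⟨x, hx, e⟩ := h.es.exists_commutator_eq hy hz
  obtain ⟨k, rfl⟩ := hc
  have h1 := h.es.commutator_zpow_right hy hx k
  rw [e] at h1
  have h2 : y * z ^ k = (x ^ k)⁻¹ * y * (x ^ k)⁻¹⁻¹ := by
    have h3 := (h.es.commute_of_mem_zpowers ((Q3 z).zpow_mem hx k) (zpow_mem_zpowers z k)).eq
    have h4 := (h.es.commute_of_mem_zpowers hy (zpow_mem_zpowers z k)).eq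
    rw [h4, inv_inv, mul_assoc, eq_inv_mul_iff_mul_eq, ← mul_assoc, h3, ← h1, commutatorElement_def]
    have h5 := (h.es.commute_of_mem_zpowers (mul_mem ((Q3 z).zpow_mem hx k) hy) (zpow_mem_zpowers z k)).eq
    group
  exact h2 ▸ zcj ze _

theorem exists_fm {z y : G} (h : Cz z) (hy : y ∈ Q3 z) (hz : y ∉ zpowers z) (ze : ZE z y) : Nonempty (Fm G) := by
  obtain ⟨s, i, l, hE⟩ := h.exists_ln hy hz
  obtain ⟨c, hc, ty⟩ := l.exists_inv h hy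
  exact exists_fm0 h l (mul_mem hE (l.z_mem h hc)) (fun e => hz ((mul_mem_cancel_right hc).1 e)) (ze_mul h hy hz ze hc) ty

theorem Fm.not_a (F : Fm G) : ¬ ZE F.z F.a := fun ze => by
  have h : F.a ∈ EE F.z F.s ∧ F.a ∉ zpowers F.z ∧ F.v ∈ Q3 F.z ∧ F.v * F.a = F.a * F.v ∧
      ∀ c ∈ zpowers F.z, ∀ d ∈ zpowers F.a, c * d ≠ F.s * F.v * F.s⁻¹ * F.v⁻¹ := F.lists.decide F.rep (by decide +kernel)
  obtain ⟨c, hc, d, hd, e⟩ := (mem_sup_of_le_normalizer (zpowers_le.2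
    (F.cz.es.le_normalizer_of_zpowers_le le_rfl F.cz.es.zpowers_le h.1.1))).1
      (F.ln.iso_b F.cz h.1 h.2.1 ze h.2.2.1 h.2.2.2.1)
  exact h.2.2.2.2 c hc d hd e

namespace Fm

variable (F : Fm G)

theorem yE : F.y ∈ EE F.z F.s ∧ F.y ∉ zpowers F.z := F.lists.decide F.rep (by decide +kernel)

theorem W_eq : F.W = centralizer (F.Y : Set G) := by
  have h : (∀ g ∈ F.W, ∀ x ∈ F.Y, x * g = g * x) ∧ F.z ∈ F.Y ∧ F.y ∈ F.Y := F.lists.decide F.rep (by decide +kernel)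
  refine le_antisymm h.1 fun g hg => F.mem_W g (F.ln.stab F.cz (hg _ h.2.1).symm F.yE.1 F.yE.2 ?_) (hg _ h.2.2).symm
  rw [← hg _ h.2.2]; simp

theorem norm_W {g : G} (hg : g ∈ normalizer (F.Y : Set G)) : g ∈ normalizer (F.W : Set G) :=
  F.W_eq ▸ normalizer_le_normalizer_centralizer _ hg

theorem norm_J {g : G} (hg : g ∈ normalizer (F.Y : Set G)) : g ∈ normalizer (JJ F.z F.s : Set G) := by
  have h1 : ∀ x ∈ F.W, x ∈ JJ F.z F.s ∨ ∀ x' ∈ F.W, x * x' = x' * x → x' ∈ F.Y ∨ x' * x ∈ F.Y ∨ x' * x⁻¹ ∈ F.Y :=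
    F.lists.decide F.rep (by decide +kernel)
  have h2 : ∀ j ∈ JJ F.z F.s, j ∈ F.W ∧ ∃ j' ∈ JJ F.z F.s, j' ∉ F.Y ∧ j' * j ∉ F.Y ∧ j' * j⁻¹ ∉ F.Y :=
    F.lists.decide F.rep (by decide +kernel)
  refine mem_normalizer_of_conj_mem fun j hj => (h1 _ ((mem_normalizer_iff.1 (F.norm_W hg) j).1 (h2 j hj).1)).resolve_right
    fun h => ?_
  obtain ⟨j', hj', a1, a2, a3⟩ := (h2 j hj).2
  have := h _ ((mem_normalizer_iff.1 (F.norm_W hg) j').1 (h2 j' hj').1) (by rw [conj_mul, conj_mul, F.J_comm j hj j' hj'])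
  rw [conj_inv, conj_mul, conj_mul, ← mem_normalizer_iff.1 hg, ← mem_normalizer_iff.1 hg, ← mem_normalizer_iff.1 hg] at this
  tauto

/-- An element of order three normalising `Y` centralises `W / J`. -/
theorem cent_WJ {g : G} (hg : g ∈ normalizer (F.Y : Set G)) (g3 : g ^ 3 = 1) : g * F.w * g⁻¹ * F.w⁻¹ ∈ JJ F.z F.s := by
  have h1 : F.w ∈ F.W ∧ F.w ∉ JJ F.z F.s ∧ F.w * F.w ∉ JJ F.z F.s ∧ (∀ j ∈ JJ F.z F.s, F.w * j * F.w⁻¹ ∈ JJ F.z F.s) ∧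
      ∀ x ∈ F.W, x ∈ JJ F.z F.s ∨ x * F.w⁻¹ ∈ JJ F.z F.s ∨ x * F.w ∈ JJ F.z F.s := F.lists.decide F.rep (by decide +kernel)
  have hJ := mem_normalizer_iff.1 (F.norm_J hg)
  rcases h1.2.2.2.2 _ ((mem_normalizer_iff.1 (F.norm_W hg) _).1 h1.1) with h | h | h
  · exact absurd ((hJ _).2 h) h1.2.1
  · exact h
  · refine absurd ?_ h1.2.2.1
    have h2 := (hJ _).1 h
    have h3 := (hJ _).1 h2
    have hw := mem_normalizer_of_conj_mem h1.2.2.2.1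
    have h4 := (mem_normalizer_iff.1 (mul_mem (mul_mem (F.norm_J hg) hw) (inv_mem (F.norm_J hg))) _).1 h2
    have h5 := mul_mem (mul_mem h3 (inv_mem h4)) h
    convert h5 using 1
    calc F.w * F.w = g * g * g * F.w * (g * g * g)⁻¹ * F.w := by rw [← pow_two g, ← pow_succ, g3]; group
      _ = _ := by group

/-- `r` inverts `J`. -/
def Iv (r : G) : Prop := ∀ j ∈ JJ F.z F.s, r * j * r⁻¹ = j⁻¹

variable {F}

theorem Iv.cj {r g : G} (h : F.Iv r) (hg : g ∈ normalizer (JJ F.z F.s : Set G)) : F.Iv (g * r * g⁻¹) := fun j hj => by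
  have := h _ ((mem_normalizer_iff.1 (inv_mem hg) j).1 hj)
  calc _ = g * (r * (g⁻¹ * j * g⁻¹⁻¹) * r⁻¹) * g⁻¹ := by group
    _ = _ := by rw [this]; group

theorem Iv.mul {r r' : G} (h : F.Iv r) (h' : F.Iv r') : r * r' ∈ JJ F.z F.s := F.ln.cent_E F.cz fun e he => by
  have h1 := h e (mem_sup_left he)
  have h2 := h' e (mem_sup_left he)
  rw [← mul_inv_eq_iff_eq_mul, show r * r' * e * (r * r')⁻¹ = r * (r' * e * r'⁻¹) * r⁻¹ by group, h2, ← conj_inv, h1, inv_inv]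

theorem Iv.norm {r : G} (h : F.Iv r) : r ∈ normalizer (JJ F.z F.s : Set G) :=
  mem_normalizer_of_conj_mem fun j hj => h j hj ▸ inv_mem hj

theorem Iv.sq {r : G} (h : F.Iv r) : r * r = 1 :=
  eq_one_of_eq_inv (F.J_exp _ (h.mul h)) (by rw [← h _ (h.mul h)]; group)

/-- Every coset `g J` contains an element commuting with `r`. -/
theorem Iv.fix {r g : G} (h : F.Iv r) (hg : g ∈ normalizer (JJ F.z F.s : Set G)) :
    g⁻¹ * r * g * r ∈ JJ F.z F.s ∧ r * (g * (g⁻¹ * r * g * r)⁻¹) = g * (g⁻¹ * r * g * r)⁻¹ * r := by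
  have h1 : g⁻¹ * r * g * r ∈ JJ F.z F.s := by simpa using (h.cj (inv_mem hg)).mul h
  refine ⟨h1, ?_⟩
  have h2 := h _ h1
  have h3 := F.J_exp _ h1
  have h4 : r * g * r⁻¹ = g * (g⁻¹ * r * g * r) := by rw [inv_eq_of_mul_eq_one_right h.sq]; group
  generalize g⁻¹ * r * g * r = e at h2 h3 h4
  rw [← mul_inv_eq_iff_eq_mul, ← conj_mul, ← conj_inv, h2, h4, inv_inv, mul_assoc, inv_eq_of_mul_eq_one_right (a := e)]
  rw [← h3, pow_succ', pow_two]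

theorem Iv.mid {r g : G} (h : F.Iv r) (hg : g ∈ normalizer (JJ F.z F.s : Set G)) (h2 : g * g * r * (g * g)⁻¹ = r) :
    ∃ r', F.Iv r' ∧ g * r' * g⁻¹ = r' := by
  have h' := h.cj hg
  refine ⟨_, h'.cj h.norm, ?_⟩
  have h3 := F.J_exp _ (h.mul h')
  have h4 := h.sq
  have h5 := h'.sq
  have h6 : g * (g * r * g⁻¹) * g⁻¹ = r := Eq.trans (by group) h2
  rw [← conj_mul, ← conj_mul, ← conj_inv, h6]
  generalize g * r * g⁻¹ = r' at h3 h5
  rw [inv_eq_of_mul_eq_one_right h4, inv_eq_of_mul_eq_one_right h5]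
  have : r * r' * r * (r' * r * r') = 1 := by rw [← h3]; simp only [pow_succ, pow_zero, one_mul, mul_assoc]
  rw [eq_inv_of_mul_eq_one_left this, mul_inv_rev, mul_inv_rev, inv_eq_of_mul_eq_one_right h4,
    inv_eq_of_mul_eq_one_right h5, mul_assoc]

theorem exists_iv : ∃ u r, u ∈ normalizer (F.Y : Set G) ∧ u ^ 3 = 1 ∧ u * F.z * u⁻¹ ∉ zpowers F.z ∧ F.Iv r ∧
    F.i * r * F.i⁻¹ = r := by
  have h1 := F.ln.iso_a F.cz F.yE.1 F.yE.2 F.ze
  have cy := F.cz.of_ze F.ze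
  have h0 : F.z ∉ [1, F.y, F.y⁻¹] ∧ F.y * F.z ∉ zpowers F.z ∧ F.y * F.z ∈ F.Y ∧ F.y ∈ F.Y ∧
      (∀ x ∈ F.Y, F.w' * x * F.w'⁻¹ ∈ F.Y) ∧ F.w' * F.z * F.w'⁻¹ = F.z ∧ F.w' * F.y * F.w'⁻¹ = F.z⁻¹ * F.y ∧ F.w' ^ 3 = 1 ∧
      F.y * F.z = F.z * F.y ∧ (∀ j ∈ JJ F.z F.s, F.t * j * F.t⁻¹ ∈ JJ F.z F.s) ∧ F.t * F.t = 1 ∧
      (∀ j ∈ JJ F.z F.s, F.i * j * F.i⁻¹ ∈ JJ F.z F.s) ∧ (∀ x ∈ F.Y, x ∈ JJ F.z F.s) ∧
      ∀ j ∈ JJ F.z F.s, j * F.w * j⁻¹ * F.w⁻¹ ∈ F.Y ∧ ∀ j' ∈ JJ F.z F.s,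
        j' * F.w * j'⁻¹ * F.w⁻¹ = (j * F.w * j⁻¹ * F.w⁻¹)⁻¹ → j' * j ∈ F.Y := by
    simp only [List.mem_cons, List.not_mem_nil, or_false]
    exact F.lists.decide F.rep (by decide +kernel)
  obtain ⟨a1, a2, a3, a4, a5, a6, a7, a8, a9, a10, a11, a12, a13, a14⟩ := h0
  obtain ⟨x, hx, e⟩ := cy.es.exists_commutator_eq (inv_mem h1) fun h =>
    a1 (by simpa using mem_zpowers_three cy.es.z_pow (inv_mem_iff.1 h))
  have uy : x * F.y * x⁻¹ = F.y := mul_inv_eq_iff_eq_mul.2 (Q3_comm hx)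
  have uz : x * F.z * x⁻¹ = F.y * F.z := by rw [a9, ← e, commutatorElement_def]; group
  have uY : x ∈ normalizer (F.Y : Set G) :=
    mem_normalizer_of_conj_mem (conj_clos_mem (by simp [uy, uz, a3, a4]))
  have wY := mem_normalizer_of_conj_mem a5
  have nz : x * F.w' * x * F.z * (x * F.w' * x)⁻¹ = F.y := by
    rw [show x * F.w' * x * F.z * (x * F.w' * x)⁻¹ = x * (F.w' * (x * F.z * x⁻¹) * F.w'⁻¹) * x⁻¹ by group, uz,
      ← conj_mul (b := F.w'), a6,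
      a7, mul_assoc F.z⁻¹, a9, inv_mul_cancel_left, uy]
  have ny : x * F.w' * x * F.y * (x * F.w' * x)⁻¹ = F.z⁻¹ := by
    rw [show x * F.w' * x * F.y * (x * F.w' * x)⁻¹ = x * (F.w' * (x * F.y * x⁻¹) * F.w'⁻¹) * x⁻¹ by group, uy, a7, ← conj_mul,
      ← conj_inv, uy, uz]; group
  have cw : ∀ g ∈ normalizer (F.Y : Set G), ∀ g' ∈ normalizer (F.Y : Set G), g * F.w * g⁻¹ * F.w⁻¹ ∈ JJ F.z F.s →
      g' * F.w * g'⁻¹ * F.w⁻¹ ∈ JJ F.z F.s → g * g' * F.w * (g * g')⁻¹ * F.w⁻¹ ∈ JJ F.z F.s := fun g hg g' _ b1 b2 => by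
    convert mul_mem ((mem_normalizer_iff.1 (F.norm_J hg) _).1 b2) b1 using 1; group
  have xw := F.cent_WJ uY (cy.exp x hx)
  have nY := mul_mem (mul_mem uY wY) uY
  have nw := cw _ (mul_mem uY wY) _ uY (cw _ uY _ wY xw (F.cent_WJ wY a8)) xw
  generalize x * F.w' * x = n at nz ny nY nw
  have rY := mul_mem nY nY
  have rw := cw _ nY _ nY nw nw
  have rz : n * n * F.z * (n * n)⁻¹ = F.z⁻¹ := by rw [← ny, ← nz]; group
  have ry : n * n * F.y * (n * n)⁻¹ = F.y⁻¹ := by nth_rewrite 2 [← nz]; rw [conj_inv, ← ny]; group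
  generalize n * n = r at rY rw rz ry
  have iY : ∀ c ∈ F.Y, r * c * r⁻¹ = c⁻¹ := fun c hc => by
    induction hc using closure_induction with
    | mem c hc => simp only [List.mem_cons, List.not_mem_nil, or_false, Set.mem_ofPred_eq] at hc; rcases hc with rfl | rfl <;> assumption
    | one => simp
    | mul a b ha hb h1 h2 => rw [← conj_mul, h1, h2, ← mul_inv_rev, F.J_comm b (a13 b hb) a (a13 a ha)]
    | inv a ha h1 => rw [← conj_inv, h1]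
  have rJ := mem_normalizer_iff.1 (F.norm_J rY)
  have iv : F.Iv (r * r * r) := fun j hj => by
    have b1 := (rJ j).1 hj
    have b2 := (a14 j hj).2 _ b1 (by
      rw [← iY _ (a14 j hj).1]
      calc _ = (r * F.w * r⁻¹ * F.w⁻¹) * (r * j * r⁻¹ * F.w * (r * j * r⁻¹)⁻¹ * F.w⁻¹) * (r * F.w * r⁻¹ * F.w⁻¹)⁻¹ := by
            rw [F.J_comm _ rw _ (a13 _ (a14 _ b1).1), mul_inv_cancel_right]
        _ = (r * F.w * r⁻¹ * F.w⁻¹) * (r * j * r⁻¹) * (F.w * (r * j * r⁻¹)⁻¹ * F.w⁻¹ * (r * F.w * r⁻¹ * F.w⁻¹)⁻¹) := by group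
        _ = _ := by rw [F.J_comm _ rw _ b1]; group)
    have b5 := iY _ b2
    have b6 := F.J_exp _ (a13 _ b2)
    have b7 := F.J_comm _ (a13 _ b2) j hj
    have b8 : r * j * r⁻¹ = r * j * r⁻¹ * j * j⁻¹ := by group
    generalize r * j * r⁻¹ * j = c at b5 b6 b7 b8
    rw [show r * r * r * j * (r * r * r)⁻¹ = r * (r * (r * j * r⁻¹) * r⁻¹) * r⁻¹ by group, b8, ← conj_mul (a := c), ← conj_inv,
      b5, b8, ← conj_mul, ← conj_inv, ← conj_inv, ← conj_mul, ← conj_inv, b5, b8, inv_inv, mul_inv_rev, inv_inv, inv_inv,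
      mul_assoc c, ← (show Commute c j from b7).inv_right.eq, ← mul_assoc, ← mul_assoc, ← pow_two, ← pow_succ, b6, one_mul]
  obtain ⟨r1, i1, e1⟩ := iv.mid (mem_normalizer_of_conj_mem a10) (by rw [a11]; group)
  obtain ⟨r2, i2, e2⟩ := i1.mid (mem_normalizer_of_conj_mem a12) e1
  exact ⟨x, r2, uY, cy.exp x hx, uz ▸ a2, i2, e2⟩

end Fm

theorem Ln.EE_eq {z s i s2 : G} (h : Cz z) (l : Ln z s i) (l2 : s2 ∉ Q3 z) (hs : s2 ∈ SS z s) :
    EE z s2 ≤ EE z s := fun v hv => by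
  obtain ⟨q, hq, k, rfl⟩ := (mem_sup_zpowers_of_mem_normalizer (Q3_norm l.sz)).1 hs
  have h1 : s ^ k * v * (s ^ k)⁻¹ * v⁻¹ ∈ zpowers z := by
    have h2 := h.es.comm_mem _ (inv_mem hq) v hv.1
    convert h2 using 1
    calc _ = q⁻¹ * (q * s ^ k * v) * (s ^ k)⁻¹ * v⁻¹ := by group
      _ = _ := by rw [← (mem_EE.1 hv).2, commutatorElement_def]; group
  rcases zpow_cases l.s3 k with e | e | e <;> rw [e] at h1
  · exact absurd (by rwa [e, mul_one]) l2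
  · exact l.mem_E h v hv.1 h1
  · exact mem_EE.2 ⟨hv.1, by simpa using (show Commute _ _ from (mem_EE.1 (l.inv.mem_E h v hv.1 h1)).2).inv_right.eq⟩

theorem Fm.move (F : Fm G) : ∃ g, g * F.a = F.a * g ∧ g ∉ normalizer (JJ F.z F.s : Set G) := by
  by_contra! hn
  obtain ⟨u, r, uY, u3, uz, iv, ir⟩ := F.exists_iv
  have h := F.cz
  have es := h.es
  have h0 : F.w ∈ F.K ∧ F.z ∈ JJ F.z F.s ∧ (∀ j ∈ JJ F.z F.s, Let (F.w * j⁻¹) fun x => x ∉ JJ F.z F.s ∧ x * F.y = F.y * x ∧ F.s * x * F.s⁻¹ = x * F.y ∧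
        x * F.y' ≠ F.y' * x ∧ ∀ j' ∈ JJ F.z F.s, j' * x * j'⁻¹ * x⁻¹ ∈ JJ F.z F.s) :=
    F.lists.decide F.rep (by decide +kernel)
  obtain ⟨a1, a3, a4⟩ := h0
  have rz := iv _ a3
  have rQ : ∀ q ∈ Q3 F.z, r * q * r⁻¹ ∈ Q3 F.z := fun q hq => by
    have h1 : Q3 F.z⁻¹ = Q3 F.z := congrArg (pCoreOf 3) (Subgroup.ext fun g => by
      rw [mem_cen, mem_cen]; exact Commute.inv_right_iff)
    rw [← h1, ← rz, Q3_cj]; exact conj_mem_cj.2 hq
  obtain ⟨e1, c1⟩ := iv.fix (F.K_norm a1)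
  obtain ⟨e2, c2⟩ := iv.fix (F.norm_J uY)
  have eQ : F.w⁻¹ * r * F.w * r ∈ Q3 F.z := by
    have := mul_mem (inv_mem F.wQ) (rQ _ F.wQ)
    rwa [inv_eq_of_mul_eq_one_right iv.sq, ← mul_assoc, ← mul_assoc] at this
  obtain ⟨b1, b2, b3, b4, b5⟩ := a4 _ e1
  have xQ := mul_mem F.wQ (inv_mem eQ)
  have pN := mul_mem (F.norm_J uY) (le_normalizer (inv_mem e2))
  have pz : u * (u⁻¹ * r * u * r)⁻¹ * F.z * (u * (u⁻¹ * r * u * r)⁻¹)⁻¹ ∉ zpowers F.z := by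
    rwa [mul_assoc u, F.J_comm _ (inv_mem e2) _ a3, ← mul_assoc, mul_inv_rev u, ← mul_assoc,
      mul_inv_cancel_right]
  have px : u * (u⁻¹ * r * u * r)⁻¹ * (F.w * (F.w⁻¹ * r * F.w * r)⁻¹) * (u * (u⁻¹ * r * u * r)⁻¹)⁻¹ *
      (F.w * (F.w⁻¹ * r * F.w * r)⁻¹)⁻¹ ∈ JJ F.z F.s := by
    have hu := mem_normalizer_iff.1 (F.norm_J uY)
    have hw := mem_normalizer_iff.1 (F.K_norm a1)
    have := mul_mem (mul_mem ((hu _).1 (b5 _ (inv_mem e2))) ((hu _).1 ((hw _).1 (inv_mem e1))))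
      (mul_mem (F.cent_WJ uY u3) ((hw _).1 e1))
    generalize F.w⁻¹ * r * F.w * r = e at this
    generalize u⁻¹ * r * u * r = e' at this
    convert this using 1; group
  generalize u * (u⁻¹ * r * u * r)⁻¹ = p at c2 pN pz px
  generalize F.w * (F.w⁻¹ * r * F.w * r)⁻¹ = x at c1 b1 b2 b3 b4 xQ px
  clear b5 e1 e2 eQ
  have px' : p * x = x * p := by
    have h1 := iv _ px
    rw [(((show Commute r p from c2).mul_right c1).mul_right (show Commute r p from c2).inv_right).mul_right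
      (show Commute r x from c1).inv_right, mul_inv_cancel_right] at h1
    rw [← mul_inv_eq_iff_eq_mul, ← mul_inv_eq_one]; exact eq_one_of_eq_inv (F.J_exp _ px) h1
  have EJ : EE F.z F.s ≤ JJ F.z F.s := le_sup_left
  have xz : x ∉ zpowers F.z := fun e => b1 (EJ (F.ln.z_mem h e))
  obtain ⟨s2, i2, l2, xE⟩ := h.exists_ln xQ xz
  have ns : s2 ∉ SS F.z F.s := fun e => b1 (EJ (F.ln.EE_eq h l2.sQ e xE))
  have inf : EE F.z s2 ⊓ EE F.z F.s = zpowers F.z := le_antisymm (fun q hq => by_contra fun hz =>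
    ns (F.ln.stab h l2.sz hq.2 hz (by rw [← (mem_EE.1 hq.1).2]; simp))) (le_inf (l2.z_mem h) (F.ln.z_mem h))
  have nE : Q3 F.z ≤ normalizer (EE F.z F.s : Set G) := es.le_normalizer_of_zpowers_le (F.ln.z_mem h) inf_le_left
  have sup : EE F.z s2 ⊔ EE F.z F.s = Q3 F.z := eq_of_le_of_card_ge (sup_le inf_le_left inf_le_left) (by
    have := card_sup_mul_card_inf (H := EE F.z s2) (inf_le_left.trans nE)
    rw [inf, l2.card_E h, F.gE.2, es.card_zpowers] at this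
    rw [h.card]; omega)
  have st : ∀ g, (g * F.z * g⁻¹ = F.z ∨ g * F.z * g⁻¹ = F.z⁻¹) → g * x * g⁻¹ ∈ EE F.z s2 → g * s2 * g⁻¹ ∈ SS F.z s2 :=
    fun g hg hx => by
      have h1 : g * s2 * g⁻¹ * (g * F.z * g⁻¹) = g * F.z * g⁻¹ * (g * s2 * g⁻¹) := by rw [conj_mul, conj_mul, l2.sz]
      have h2 : g * s2 * g⁻¹ * F.z = F.z * (g * s2 * g⁻¹) := by
        rcases hg with e | e <;> rw [e] at h1
        exacts [h1, Commute.inv_right_iff.1 h1]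
      refine l2.stab h h2 hx (fun e => xz ?_) (by rw [conj_mul, ← (mem_EE.1 xE).2]; group; exact one_mem _)
      have h3 : cj g (zpowers F.z) = zpowers F.z := by
        rw [cj_zpowers]; rcases hg with e | e <;> rw [e]; exact zpowers_inv
      exact conj_mem_cj.1 (h3.ge e)
  have rx : r * x * r⁻¹ = x := mul_inv_eq_iff_eq_mul.2 c1
  have rE : ∀ e ∈ EE F.z s2, r * e * r⁻¹ ∈ EE F.z s2 := fun e he => by
    have lr : r * s2 * r⁻¹ ∉ Q3 F.z := fun e => l2.sQ (by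
      have := rQ _ e
      rwa [show r * (r * s2 * r⁻¹) * r⁻¹ = r * r * s2 * (r * r)⁻¹ by group, iv.sq, one_mul, inv_one, mul_one] at this)
    exact l2.EE_eq h lr (st r (.inr rz) (rx.symm ▸ xE)) (mem_EE.2 ⟨rQ e he.1, by rw [conj_mul, conj_mul, (mem_EE.1 he).2]⟩)
  have ix : F.i * x * F.i⁻¹ ∈ EE F.z s2 := by
    obtain ⟨e, he, f, hf, h1⟩ := (mem_sup_of_le_normalizer' (H := EE F.z s2) (inf_le_left.trans nE)).1
      (sup.ge (Q3_conj F.ln.iz xQ))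
    have h2 : r * (e * f) * r⁻¹ = e * f := by
      have c3 : Commute r F.i := (mul_inv_eq_iff_eq_mul.1 ir).symm
      rw [h1, ((c3.mul_right c1).mul_right c3.inv_right).eq, mul_inv_cancel_right]
    rw [← conj_mul, iv f (EJ hf)] at h2
    have h3 : f⁻¹ = e⁻¹ * (r * e * r⁻¹) := by
      rw [eq_mul_of_mul_inv_eq h2, mul_assoc, inv_mul_cancel_left, inv_eq_of_mul_eq_one_right (b := f * f)]
      rw [← F.J_exp f (EJ hf), pow_succ', pow_two]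
    exact h1 ▸ mul_mem he (inv_mem_iff.1 (h3 ▸ mul_mem (inv_mem he) (rE e he)))
  have nz : ¬ ZE F.z x := fun ze => by
    have UQ : zpowers F.z ⊔ zpowers x ⊔ zpowers F.y ≤ Q3 F.z :=
      sup_le (sup_le es.zpowers_le (zpowers_le.2 xQ)) (zpowers_le.2 F.yQ)
    have m1 : F.z ∈ zpowers F.z ⊔ zpowers x ⊔ zpowers F.y := mem_sup_left (mem_sup_left (mem_zpowers _))
    have m2 : x ∈ zpowers F.z ⊔ zpowers x ⊔ zpowers F.y := mem_sup_left (mem_sup_right (mem_zpowers _))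
    have m3 : F.y ∈ zpowers F.z ⊔ zpowers x ⊔ zpowers F.y := mem_sup_right (mem_zpowers _)
    have nU : ∀ g, g * F.z = F.z * g → g * x * g⁻¹ ∈ zpowers F.z ⊔ zpowers x ⊔ zpowers F.y →
        g * F.y * g⁻¹ ∈ zpowers F.z ⊔ zpowers x ⊔ zpowers F.y →
        g ∈ normalizer ((zpowers F.z ⊔ zpowers x ⊔ zpowers F.y : Subgroup G) : Set G) := fun g g1 g2 g3 => by
      rw [← cj_eq_iff]; refine cj_eq_of_le ?_
      rw [cj_sup, cj_sup, cj_zpowers, cj_zpowers, cj_zpowers, g1, mul_inv_cancel_right]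
      exact sup_le (sup_le (zpowers_le.2 m1) (zpowers_le.2 g2)) (zpowers_le.2 g3)
    have iS : F.i ∈ normalizer (SS F.z s2 : Set G) := by
      rw [← cj_eq_iff]; refine cj_eq_of_le ?_
      rw [SS, cj_sup, cj_zpowers, cj_eq_iff.2 (Q3_norm F.ln.iz)]
      exact sup_le le_sup_left (zpowers_le.2 (st _ (.inl (mul_inv_eq_iff_eq_mul.2 F.ln.iz)) ix))
    rcases F.ln.irr h l2.sz l2.s3 ns iS UQ m1 (nU _ F.ln.sz (b3 ▸ mul_mem m2 m3) (by rwa [F.sy, mul_inv_cancel_right]))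
      (nU _ l2.sz (by rwa [← (mem_EE.1 xE).2, mul_inv_cancel_right])
        ((mul_mem_cancel_right (inv_mem m3)).1 (mem_sup_left (l2.iso_b h xE xz ze F.yQ b2.symm)))) with e | e
    · exact xz (e.le m2)
    · have : zpowers F.z ⊔ zpowers x ⊔ zpowers F.y ≤ centralizer {x} := sup_le (sup_le
        (zpowers_le.2 (mem_cen.2 (Q3_comm xQ).symm)) (zpowers_le.2 (mem_cen.2 rfl))) (zpowers_le.2 (mem_cen.2 b2.symm))
      exact b4 (mem_cen.1 (this (e.ge F.y'Q))).symm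
  obtain ⟨g, gz, gE, gJ⟩ := F.ln.conj_ln h l2
  have gz' : cj g (zpowers F.z) = zpowers F.z := by rw [cj_zpowers, gz, mul_inv_cancel_right]
  obtain ⟨k, hk, e | e⟩ := (F.E_cls _ (gE.le (conj_mem_cj.2 xE))).resolve_left fun e => xz (conj_mem_cj.1 (gz'.ge e))
  · exact nz (zcj' (zcj' (e ▸ F.ze)))
  have kJ : cj (k * g) (JJ F.z s2) = JJ F.z F.s := by rw [← cj_cj, gJ, cj_eq_iff.2 (F.K_norm hk)]
  have h1 := cj_eq_iff.2 (hn (k * g * p * (k * g)⁻¹) (by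
    rw [← e, show k * (g * x * g⁻¹) * k⁻¹ = k * g * x * (k * g)⁻¹ by group, conj_mul, conj_mul, px']))
  rw [← kJ, cj_cj, inv_mul_cancel_right, ← cj_cj (k * g), cj_inj] at h1
  have z2 : p * F.z * p⁻¹ ∈ JJ F.z s2 := h1.le (conj_mem_cj.2 (mem_sup_left (l2.z_mem h (mem_zpowers _))))
  have z1 := (mem_normalizer_iff.1 pN _).1 a3
  have cJ : ∀ {s i : G}, Ln F.z s i → JJ F.z s ≤ centralizer (EE F.z s : Set G) := fun l =>
    sup_le (fun a ha b hb => l.comm_E h b hb a ha) (zpowers_le.2 fun b hb => (mem_EE.1 hb).2)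
  have z3 : p * F.z * p⁻¹ ∈ centralizer (Q3 F.z : Set G) := by
    rw [← sup]
    exact le_centralizer_iff.1 (sup_le (le_centralizer_iff.1 (zpowers_le.2 (cJ l2 z2)))
      (le_centralizer_iff.1 (zpowers_le.2 (cJ F.ln z1)))) (mem_zpowers _)
  exact pz (es.center_eq.le ⟨h.cen z3, z3⟩)

end Cfsg.Agent.H3
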