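import Mathlib
import Cfsg.Agent.H3.Defs

/-! The homocyclic group `4³` (PLAN section F1): the generator `b` and its first conjugate commute. -/

set_option autoImplicit false

namespace Cfsg.Agent.H3

open Subgroup Equiv

universe u

variable {G : Type u} [Group G]

/-- The regular elementary abelian subgroup of `S₈`; `tr i` maps `0` to `i`. -/
@[irreducible] def tr : Fin 8 → Perm (Fin 8) :=
  ![1, swap 0 1 * swap 2 6 * swap 3 4 * swap 5 7, swap 0 2 * swap 1 6 * swap 3 5 * swap 4 7, v1,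
    swap 0 4 * swap 1 3 * swap 2 7 * swap 5 6, swap 0 5 * swap 1 7 * swap 2 3 * swap 4 6,
    swap 0 6 * swap 1 2 * swap 3 7 * swap 4 5, swap 0 7 * swap 1 5 * swap 2 4 * swap 3 6]

theorem tr_mul : ∀ i j, tr i * tr j = tr (tr i j) := by decide +kernel
theorem tr0 : tr 0 = 1 := by decide +kernel
theorem tr3 : tr 3 = v1 := by decide +kernel
theorem tr_zero : ∀ i, tr i 0 = i := by decide +kernel
theorem tr_comm : ∀ i j, tr i j = tr j i := by decide +kernel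
theorem tr_self : ∀ i, tr i i = 0 := by decide +kernel
theorem tr_eq_zero : ∀ i j, tr i j = 0 → i = j := by decide +kernel
theorem tr_conj : ∀ i, i ≠ 0 → ∃ k : Fin 7, ze ^ k.1 * v1 * (ze ^ k.1)⁻¹ = tr i := by decide +kernel

/-- `l` normalises the translations. -/
def Nm (l : Perm (Fin 8)) : Prop := ∀ j, ∃ j', l * tr j' * l⁻¹ = tr j

instance (l : Perm (Fin 8)) : Decidable (Nm l) := by unfold Nm; infer_instance

/-- `(0 1 5 7)(2 3)`. -/
def rh : Perm (Fin 8) := swap 0 7 * swap 0 5 * swap 0 1 * swap 2 3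

namespace HS2

variable (h : HS2 G)

theorem s_inv : h.s⁻¹ = h.s := inv_eq_of_mul_eq_one_right h.s2

theorem t_mul (i j) : h.κ (tr i) * h.κ (tr j) = h.κ (tr (tr i j)) := by rw [← map_mul, tr_mul]

theorem t0 : h.κ (tr 0) = 1 := by rw [tr0, map_one]

theorem t_sq (i) : h.κ (tr i) * h.κ (tr i) = 1 := by rw [t_mul, tr_self, t0]

theorem t_eq_one {i} (e : h.κ (tr i) = 1) : i = 0 := by
  rw [← tr_zero i, (injective_iff_map_eq_one _).1 h.inj _ e]; rfl

theorem conj_sκ (σ p) : IsConj (h.s * h.κ p) (h.s * h.κ (σ * p * σ⁻¹)) :=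
  isConj_iff.2 ⟨h.κ σ, by rw [← mul_assoc, h.comm, map_mul, map_mul, map_inv]; group⟩

theorem t_conj (i) : IsConj h.s (h.s * h.κ (tr i)) := by
  by_cases hi : i = 0
  · rw [hi, t0, mul_one]
  · obtain ⟨k, e⟩ := tr_conj i hi
    exact e ▸ h.fuse4.trans (h.conj_sκ ..)

theorem cls {p} (e : IsConj h.s (h.s * h.κ p)) (h1 : p ≠ 1) :
    p.support.card = 2 ∧ Perm.sign p = -1 ∨ p.support.card = 8 ∧ Perm.sign p = 1 := by
  rcases h.cls2 p e with e | e | e
  · exact absurd e h1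
  · exact .inl ⟨Perm.card_support_eq_two.2 e, e.sign_eq⟩
  · exact .inr ⟨by rw [← Perm.sum_cycleType, e]; rfl, by rw [Perm.sign_of_cycleType, e]; decide⟩

/-- `g` centralises the translations and moves `s` by the `i`-th one. -/
def Rr (g : G) (i : Fin 8) : Prop := (∀ j, g * h.κ (tr j) = h.κ (tr j) * g) ∧ g * h.s * g⁻¹ = h.s * h.κ (tr i)

theorem exists_Rr : ∃ x, h.Rr x 3 := by
  obtain ⟨g, hg⟩ := isConj_iff.1 h.fuse4
  rw [← tr3] at hg
  have h1 : ∀ i, ∃ p, h.κ p = g⁻¹ * h.κ (tr i) * g ∧ IsConj h.s (h.s * h.κ p) := fun i => by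
    have c : g⁻¹ * h.κ (tr i) * g * h.s = h.s * (g⁻¹ * h.κ (tr i) * g) := by
      have := h.t_mul i 3
      rw [tr_comm, ← h.t_mul 3 i] at this
      calc _ = g⁻¹ * (h.κ (tr i) * (g * h.s * g⁻¹)) * g := by group
        _ = g⁻¹ * (g * h.s * g⁻¹ * h.κ (tr i)) * g := by
          rw [hg, ← mul_assoc _ h.s, h.comm, mul_assoc h.s, mul_assoc h.s, this]
        _ = _ := by group
    have e : IsConj h.s (h.s * (g⁻¹ * h.κ (tr i) * g)) := (h.t_conj (tr 3 i)).trans (isConj_iff.2 ⟨g⁻¹, by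
      rw [← t_mul, ← mul_assoc h.s, ← hg]; group⟩)
    rcases h.cen _ c with ⟨p, hp⟩ | ⟨p, hp⟩
    exacts [⟨p, hp, hp ▸ e⟩, absurd (hp ▸ e) (h.cls1 p)]
  choose φ e1 e2 using h1
  have hm : ∀ i j, φ i * φ j = φ (tr i j) := fun i j => h.inj (by rw [map_mul, e1, e1, e1, ← t_mul]; group)
  have h0 : ∀ i, φ i = 1 → i = 0 := fun i e => h.t_eq_one (by
    have := e1 i
    rw [e, map_one] at this
    rw [← mul_inv_cancel g]; nth_rewrite 1 [← mul_one g]; rw [this]; group)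
  have cl := fun i (hi : i ≠ 0) => h.cls (e2 i) fun e => hi (h0 i e)
  have sp : ∀ i j, (φ (tr i j)).support.card ≤ (φ i).support.card + (φ j).support.card := fun i j =>
    hm i j ▸ (Finset.card_le_card (Perm.support_mul_le _ _)).trans (Finset.card_union_le _ _)
  have h8 : ∀ i, i ≠ 0 → φ i 0 ≠ 0 := fun i hi => by
    obtain ⟨j, j0, j1, j2⟩ : ∃ j, j ≠ 0 ∧ tr i j ≠ 0 ∧ tr i (tr i j) = j := by revert i; decide +kernel
    have s1 := sp i j
    have s2 := j2 ▸ sp i (tr i j)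
    have s3 := congrArg Perm.sign (hm i j)
    rw [map_mul] at s3
    rcases cl i hi with a | a
    · rcases cl j j0 with b | b <;> rcases cl _ j1 with c | c
      · rw [a.2, b.2, c.2] at s3; exact absurd s3 (by decide)
      · omega
      · omega
      · rw [a.2, b.2, c.2] at s3; exact absurd s3 (by decide)
    · exact Perm.mem_support.1 (Finset.eq_univ_of_card _ a.1 ▸ Finset.mem_univ _)
  have p0 : φ 0 = 1 := mul_left_cancel (a := φ 0) (by rw [hm, mul_one, tr_zero])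
  have hi : Function.Injective fun i => φ i 0 := fun i j e => tr_eq_zero i j (by_contra fun e' => h8 _ e' (by
    rw [← hm, Perm.mul_apply, ← show φ i 0 = φ j 0 from e, ← Perm.mul_apply, hm, tr_self, p0]; rfl))
  set σ := Equiv.ofBijective _ (Finite.injective_iff_bijective.1 hi)
  refine ⟨g * h.κ σ, fun j => ?_, by rw [mul_assoc g, h.comm, ← hg]; group⟩
  rw [mul_assoc, ← map_mul, show σ * tr j = φ j * σ from Equiv.ext fun i => congrArg (· 0) (hm j i).symm, map_mul, e1]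
  group

theorem Rr_s : h.Rr h.s 0 := ⟨fun _ => (h.comm _).symm, by simp [t0]⟩

theorem Rr_t (i) : h.Rr (h.κ (tr i)) 0 :=
  ⟨fun j => by rw [t_mul, t_mul, tr_comm], by simp [h.comm, t0]⟩

variable {h} {g g' : G} {i j : Fin 8}

theorem Rr.mul (a : h.Rr g i) (b : h.Rr g' j) {k} (e : tr i j = k := by decide +kernel) : h.Rr (g * g') k :=
  ⟨fun k => by rw [mul_assoc, b.1, ← mul_assoc, a.1, mul_assoc], by
    calc _ = g * (g' * h.s * g'⁻¹) * g⁻¹ := by group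
      _ = g * h.s * g⁻¹ * (g * h.κ (tr j) * g⁻¹) := by rw [b.2]; group
      _ = _ := by rw [a.2, a.1, ← e, ← t_mul]; group⟩

theorem Rr.inv (a : h.Rr g i) : h.Rr g⁻¹ i :=
  ⟨fun k => by rw [inv_mul_eq_iff_eq_mul, ← mul_assoc, a.1, mul_inv_cancel_right], by
    calc _ = g⁻¹ * (h.s * h.κ (tr i)) * (h.κ (tr i) * g) := by
          rw [mul_assoc _ (_ * _), mul_assoc h.s, ← mul_assoc (h.κ _), t_sq]; group
      _ = _ := by rw [← a.1]; nth_rewrite 1 [← a.2]; group⟩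

theorem Rr.conj (a : h.Rr g i) {l} (hl : Nm l) (e : l * tr i * l⁻¹ = tr j) : h.Rr (h.κ l * g * (h.κ l)⁻¹) j :=
  ⟨fun k => by
    obtain ⟨k, e'⟩ := hl k
    rw [← e', map_mul, map_mul, map_inv, conj_mul, conj_mul, a.1], by
    calc _ = h.κ l * g * ((h.κ l)⁻¹ * (h.s * h.κ l)) * g⁻¹ * (h.κ l)⁻¹ := by group
      _ = h.κ l * (g * h.s * g⁻¹) * (h.κ l)⁻¹ := by rw [← h.comm]; group
      _ = _ := by rw [a.2, ← e, ← mul_assoc, h.comm, map_mul, map_mul, map_inv]; group⟩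

theorem Rr.zero (a : h.Rr g 0) : ∃ j, g = h.κ (tr j) ∨ g = h.s * h.κ (tr j) := by
  have key : ∀ p, (∀ j, h.κ p * h.κ (tr j) = h.κ (tr j) * h.κ p) → p = tr (p 0) := fun p hp => Equiv.ext fun j => by
    have := congrArg (· 0) (h.inj (show h.κ (p * tr j) = h.κ (tr j * p) by rw [map_mul, map_mul, hp]))
    simpa only [Perm.mul_apply, tr_zero, tr_comm j (p 0)] using this
  rcases h.cen g (mul_inv_eq_iff_eq_mul.1 (a.2.trans (by rw [t0, mul_one]))) with ⟨p, rfl⟩ | ⟨p, hp⟩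
  · exact ⟨_, .inl (congrArg _ (key p a.1))⟩
  · refine ⟨p 0, .inr ?_⟩
    rw [← key p (hp ▸ (h.Rr_s.mul a rfl).1), hp, ← mul_assoc, h.s2, one_mul]

theorem Rr.sq0 (a : h.Rr g 0) : g * g = 1 := by
  obtain ⟨j, rfl | rfl⟩ := a.zero
  exacts [h.t_sq j, by rw [mul_assoc, ← mul_assoc (h.κ _), h.comm, mul_assoc, t_sq, mul_one, h.s2]]

theorem Rr.sq_s (a : h.Rr g i) (j) : g * (h.s * h.κ (tr j)) * (g * (h.s * h.κ (tr j))) = h.κ (tr i) * (g * g) := by
  have h1 := mul_inv_eq_iff_eq_mul.1 ((a.mul a (tr_self i)).2.trans (by rw [t0, mul_one]))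
  calc _ = g * h.s * g⁻¹ * (g * (h.κ (tr j) * g) * h.s * h.κ (tr j)) := by group
    _ = h.s * h.κ (tr i) * (g * g * (h.κ (tr j) * h.s) * h.κ (tr j)) := by rw [a.2, ← a.1]; group
    _ = h.s * h.κ (tr i) * (g * g * h.s * (h.κ (tr j) * h.κ (tr j))) := by rw [h.comm]; group
    _ = _ := by rw [t_sq, h1, ← h.comm, mul_one, mul_assoc, ← mul_assoc h.s, h.s2, one_mul]

theorem Rr.sq_t (a : h.Rr g i) (j) : g * h.κ (tr j) * (g * h.κ (tr j)) = g * g := by
  rw [mul_assoc, ← mul_assoc (h.κ _), ← a.1, mul_assoc, t_sq, mul_one]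

theorem Rr.cases (a : h.Rr g i) (b : h.Rr g' i) : ∃ j, g' = g * h.κ (tr j) ∨ g' = g * (h.s * h.κ (tr j)) :=
  (a.inv.mul b (tr_self i)).zero.imp fun _ => Or.imp inv_mul_eq_iff_eq_mul.1 inv_mul_eq_iff_eq_mul.1

theorem Rr.eq (hi : i ≠ 0) (a : h.Rr g i) (b : h.Rr g' i) (e : g' * g' = g * g) : ∃ j, g' = g * h.κ (tr j) := by
  obtain ⟨j, e' | rfl⟩ := a.cases b
  exacts [⟨j, e'⟩, absurd (h.t_eq_one (mul_eq_right.1 ((a.sq_s j).symm.trans e))) hi]

/-- An element of order four of the homocyclic group. -/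
def Bb (h : HS2 G) (g : G) (i : Fin 8) : Prop := h.Rr g i ∧ g * g = h.κ (tr i)

theorem Bb.conj (a : h.Bb g i) {l} (hl : Nm l) (e : l * tr i * l⁻¹ = tr j) : h.Bb (h.κ l * g * (h.κ l)⁻¹) j :=
  ⟨a.1.conj hl e, by rw [conj_mul, a.2, ← e, map_mul, map_mul, map_inv]⟩

theorem Bb.inv_eq (a : h.Bb g i) : g⁻¹ = g * h.κ (tr i) :=
  inv_eq_of_mul_eq_one_right (by rw [← mul_assoc, a.2, t_sq])

theorem Bb.sb (a : h.Bb g i) : h.s * g * h.s⁻¹ = g⁻¹ := by
  rw [a.inv_eq, mul_inv_eq_iff_eq_mul, mul_assoc, h.comm, ← a.1.inv.2]; group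

variable (h) in
theorem exists_Bb : ∃ b, h.Bb b 3 ∧ h.κ th * b = b * h.κ th := by
  obtain ⟨x, hx⟩ := h.exists_Rr
  have n : Nm th := by decide +kernel
  have c0 : ∀ {a}, h.Rr a 0 → h.Rr (h.κ th * a * (h.κ th)⁻¹) 0 := fun a => a.conj n (by decide +kernel)
  have h1 : h.Rr (x⁻¹ * (h.κ th * x * (h.κ th)⁻¹)) 0 := hx.inv.mul (hx.conj n (j := 3) (by decide +kernel))
  have h3 : h.κ th * h.κ th * h.κ th = 1 := by
    rw [← map_mul, ← map_mul, show th * th * th = 1 by decide +kernel, map_one]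
  have h2 : h.Rr _ 3 := hx.mul (c0 h1)
  have h4 := h1.sq0
  have h5 := (h1.mul (k := 0) (c0 h1)).sq0
  have h6 := (c0 (c0 h1)).sq0
  obtain ⟨y, hy, e⟩ : ∃ y, h.Rr y 3 ∧ h.κ th * y = y * h.κ th := ⟨_, h2, by
    generalize h.κ th = θ at *
    set a := x⁻¹ * (θ * x * θ⁻¹) with ha
    have e1 : a * (θ * a * θ⁻¹ * (θ * (θ * a * θ⁻¹) * θ⁻¹)) = 1 := by
      calc _ = x⁻¹ * (θ * θ * θ) * x * (θ * θ * θ)⁻¹ := by rw [ha]; group
        _ = _ := by rw [h3]; group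
    have e2 : θ * x * θ⁻¹ = x * a := by rw [ha]; group
    clear_value a
    rw [← mul_assoc, ← h5, mul_right_inj] at e1
    rw [← mul_inv_eq_iff_eq_mul, ← conj_mul, e2, mul_assoc x, e1, ← mul_assoc a, h4, one_mul]⟩
  obtain ⟨j, e1 | e1⟩ := (hy.mul (k := 0) hy).zero
  · obtain rfl | rfl : j = 0 ∨ j = 3 := by
      have : th * tr j = tr j * th := h.inj (by rw [map_mul, map_mul, ← e1, ← mul_assoc, e, mul_assoc, e, mul_assoc])
      clear e1; revert j; decide +kernel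
    · refine ⟨_, ⟨hy.mul (j := 0) (h.Rr_s.mul (h.Rr_t 0)), by rw [hy.sq_s, e1, t0, mul_one]⟩, ?_⟩
      rw [t0, mul_one, ← mul_assoc, e, mul_assoc, h.comm, mul_assoc]
    · exact ⟨y, ⟨hy, e1⟩, e⟩
  · have : y * (y * y) * y⁻¹ = y * y := by group
    rw [e1, ← conj_mul, hy.2, hy.1, mul_inv_cancel_right, mul_left_inj, mul_eq_left] at this
    exact absurd (h.t_eq_one this) (by decide)

theorem Bb.comm {b : G} (a : h.Bb b 3) : b * (h.κ ze * b * (h.κ ze)⁻¹) = h.κ ze * b * (h.κ ze)⁻¹ * b := by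
  have a1 := a.conj (l := ze) (j := 6) (by decide +kernel) (by decide +kernel)
  have a3 := a1.conj (l := ze * ze) (j := 7) (by decide +kernel) (by decide +kernel)
  have n : Nm rh := by decide +kernel
  obtain ⟨k, e1⟩ := Rr.eq (by decide) a1.1 (a.conj n (by decide +kernel)).1
    ((a.conj n (by decide +kernel)).2.trans a1.2.symm)
  generalize h.κ ze * b * (h.κ ze)⁻¹ = c at *
  obtain ⟨j, e | e⟩ := a3.1.cases (a1.1.mul a.1)
  · have e2 : c * b * (c * b) = c * c * (b * b) := by rw [e, a3.1.sq_t, a3.2, a.2, a1.2, t_mul, show tr 6 3 = 7 by decide +kernel]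
    exact mul_left_cancel (a := c) (mul_right_cancel (b := b) (by simpa only [mul_assoc] using e2))
  have e2 : c * b * (c * b) = 1 := by rw [e, a3.1.sq_s, a3.2, t_sq]
  have y0 : h.Rr (b * h.s) 3 := a.1.mul h.Rr_s
  have e3 : h.κ rh * (b * h.s) * (h.κ rh)⁻¹ * (b * h.s) = c * b * h.κ (tr (tr k 3)) := by
    calc _ = h.κ rh * b * (h.κ rh)⁻¹ * (h.κ rh * h.s * (h.κ rh)⁻¹) * b * h.s := by group
      _ = c * (h.κ (tr k) * (h.s * b * h.s⁻¹)) := by rw [e1, h.comm, s_inv]; group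
      _ = _ := by rw [a.sb, a.inv_eq, ← mul_assoc (h.κ _), ← a.1.1, ← t_mul]; group
  have g0 : h.Rr _ 7 := (y0.conj n (j := 6) (by decide +kernel)).mul y0
  have g1 : h.κ rh * (b * h.s) * (h.κ rh)⁻¹ * (b * h.s) * (h.κ rh * (b * h.s) * (h.κ rh)⁻¹ * (b * h.s)) = 1 := by
    rw [e3, (a1.1.mul a.1 rfl).sq_t, e2]
  obtain ⟨m, e4⟩ := Rr.eq (by decide) g0 (g0.conj (l := rh * rh) (by decide +kernel) (by decide +kernel))
    (by rw [conj_mul, g1, mul_one, mul_inv_cancel])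
  have h4 : h.κ rh * h.κ rh * h.κ rh * h.κ rh = 1 := by
    rw [← map_mul, ← map_mul, ← map_mul, show rh * rh * rh * rh = 1 by decide +kernel, map_one]
  have e5 := congrArg (· * (h.κ rh * (b * h.s) * (h.κ rh)⁻¹ * (b * h.s))) e4
  rw [mul_assoc _ (h.κ (tr m)), ← g0.1, ← mul_assoc _ _ (h.κ (tr m)), g1, one_mul, map_mul] at e5
  have e6 : rh * tr m * rh⁻¹ = tr m := h.inj (by
    rw [map_mul, map_mul, map_inv]
    nth_rewrite 2 [← mul_inv_eq_iff_eq_mul.2 (y0.1 m)]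
    rw [← e5]
    generalize b * h.s = y, h.κ rh = r at h4
    calc _ = r * r * r * r * (y * r⁻¹ * y * r⁻¹ * y * r⁻¹ * y * r⁻¹) := by group
      _ = y * (r * r * r * r) * (r⁻¹ * y * r⁻¹ * y * r⁻¹ * y * r⁻¹) := by rw [h4]; group
      _ = _ := by group)
  obtain ⟨σ, e7⟩ : ∃ σ, tr 7 * tr m * (rh * rh) = σ * v1 * σ⁻¹ := by
    obtain rfl | rfl : m = 0 ∨ m = 5 := by clear e4 e5; revert m; decide +kernel
    exacts [⟨swap 1 3 * swap 1 2 * swap 5 6, by decide +kernel⟩,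
      ⟨swap 3 6 * swap 3 5 * swap 3 4 * swap 3 7, by decide +kernel⟩]
  have h5 : IsConj (h.s * h.κ (rh * rh)) (h.s * h.κ (σ * v1 * σ⁻¹)) := isConj_iff.2 ⟨_, by
    rw [← conj_mul, g0.2, ← e7, map_mul _ (tr 7 * tr m), map_mul _ (tr 7), ← inv_mul_eq_iff_eq_mul.2 e4]
    generalize h.κ rh * (b * h.s) * (h.κ rh)⁻¹ * (b * h.s) = y at g1
    rw [inv_eq_of_mul_eq_one_right g1]; group⟩
  exact absurd (h.cls ((h.fuse4.trans (h.conj_sκ σ _)).trans h5.symm) (by decide +kernel)) (by decide +kernel)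

end HS2

end Cfsg.Agent.H3
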