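import Mathlib
import Cfsg.Agent.H3.HSa1

/-! The homocyclic group `4³` (PLAN section F1). -/

set_option autoImplicit false

namespace Cfsg.Agent.H3

open Subgroup Equiv

universe u

variable {G : Type u} [Group G]

abbrev M4 := ZMod 4 × ZMod 4 × ZMod 4

/-- The translation belonging to an element of order at most two. -/
def io (n : M4) : Fin 8 :=
  tr (tr (if n.1 = 0 then 0 else 3) (if n.2.1 = 0 then 0 else 6)) (if n.2.2 = 0 then 0 else 2)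

/-- The linear map with the given columns. -/
def ap (c0 c1 c2 n : M4) : M4 := n.1.val • c0 + n.2.1.val • c1 + n.2.2.val • c2

theorem io_inj : ∀ n : M4, n + n = 0 → io n = 0 → n = 0 := by decide +kernel
theorem io_surj : ∀ j, ∃ n : M4, n + n = 0 ∧ io n = j := by decide +kernel

namespace HS2

variable {h : HS2 G}

theorem Bb.pw_add {b : G} {i} (a : h.Bb b i) (x y : ZMod 4) : b ^ (x + y).val = b ^ x.val * b ^ y.val := by
  rw [ZMod.val_add, ← pow_eq_pow_mod, pow_add]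
  rw [show 4 = 2 * 2 from rfl, pow_mul, sq, sq, a.2, t_sq]

theorem Bb.pw_even {b : G} {i} (a : h.Bb b i) {x : ZMod 4} (e : x + x = 0) :
    b ^ x.val = h.κ (tr (if x = 0 then 0 else i)) := by
  obtain rfl | rfl : x = 0 ∨ x = 2 := by revert x; decide
  exacts [by rw [if_pos rfl, t0]; exact pow_zero b, by rw [if_neg (by decide), ← a.2]; exact sq b]

theorem Bb.pw_Rr {b : G} {i} (a : h.Bb b i) (x : ZMod 4) : h.Rr (b ^ x.val) (if x + x = 0 then 0 else i) := by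
  split_ifs with e
  · exact a.pw_even e ▸ h.Rr_t _
  obtain rfl | rfl : x = 1 ∨ x = 3 := by revert x; decide
  · exact (pow_one b).symm ▸ a.1
  · exact (show b * b * b = b ^ 3 by rw [pow_succ, sq]) ▸ (a.1.mul a.1 (tr_self i)).mul a.1
      (by rw [tr_comm, tr_zero])

/-- Three commuting generators. -/
structure Tri (h : HS2 G) (b0 b1 b2 : G) : Prop where
  a0 : h.Bb b0 3
  a1 : h.Bb b1 6
  a2 : h.Bb b2 2
  c01 : Commute b0 b1
  c02 : Commute b0 b2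
  c12 : Commute b1 b2

def ph (b0 b1 b2 : G) (n : M4) : G := b0 ^ n.1.val * b1 ^ n.2.1.val * b2 ^ n.2.2.val

namespace Tri

variable {b0 b1 b2 : G} (t : h.Tri b0 b1 b2)
include t

theorem add (n m : M4) : ph b0 b1 b2 (n + m) = ph b0 b1 b2 n * ph b0 b1 b2 m := by
  simp only [ph, Prod.fst_add, Prod.snd_add, t.a0.pw_add, t.a1.pw_add, t.a2.pw_add]
  rw [(t.c01.pow_pow ..).mul_mul_mul_comm, ((t.c02.pow_pow ..).mul_left (t.c12.pow_pow ..)).mul_mul_mul_comm]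

theorem smul (k : ℕ) (n : M4) : ph b0 b1 b2 (k • n) = ph b0 b1 b2 n ^ k := by
  induction k with
  | zero => simp [ph]
  | succ k ih => rw [succ_nsmul, t.add, ih, pow_succ]

theorem even {n : M4} (e : n + n = 0) : ph b0 b1 b2 n = h.κ (tr (io n)) := by
  rw [ph, t.a0.pw_even (congrArg (·.1) e), t.a1.pw_even (congrArg (·.2.1) e), t.a2.pw_even (congrArg (·.2.2) e),
    t_mul, t_mul, io]

theorem rr (n : M4) : h.Rr (ph b0 b1 b2 n) (io (n + n)) :=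
  ((t.a0.pw_Rr _).mul (t.a1.pw_Rr _) rfl).mul (t.a2.pw_Rr _) rfl

theorem inj {n m : M4} (e : ph b0 b1 b2 n = ph b0 b1 b2 m) : n = m := by
  rw [← sub_add_cancel n m, t.add, mul_eq_right] at e
  have h1 := (t.rr (n - m)).2
  rw [e, one_mul, inv_one, mul_one, left_eq_mul] at h1
  have h2 := io_inj _ (by generalize n - m = x; revert x; decide +kernel) (h.t_eq_one h1)
  exact sub_eq_zero.1 (io_inj _ h2 (h.t_eq_one ((t.even h2).symm.trans e)))

theorem exists_ph {g : G} {i} (a : h.Bb g i) (n : M4) (e : io (n + n) = i) (hi : i ≠ 0) :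
    ∃ d, d + d = 0 ∧ g = ph b0 b1 b2 (n + d) := by
  obtain ⟨j, rfl⟩ := Rr.eq hi (e ▸ t.rr n) a.1 (by
    rw [a.2, ← t.add, t.even (by generalize n = x; revert x; decide +kernel), e])
  obtain ⟨d, h1, rfl⟩ := io_surj j
  exact ⟨d, h1, by rw [t.add, t.even h1]⟩

theorem act {g : G} {c0 c1 c2 : M4} (e0 : g * b0 * g⁻¹ = ph b0 b1 b2 c0) (e1 : g * b1 * g⁻¹ = ph b0 b1 b2 c1)
    (e2 : g * b2 * g⁻¹ = ph b0 b1 b2 c2) (n : M4) : g * ph b0 b1 b2 n * g⁻¹ = ph b0 b1 b2 (ap c0 c1 c2 n) := by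
  rw [ap, t.add, t.add, t.smul, t.smul, t.smul, ← e0, ← e1, ← e2, conj_pow, conj_pow, conj_pow, conj_mul, conj_mul, ph]

theorem fix {g : G} {F : M4 → M4} (e : ∀ n, g * ph b0 b1 b2 n * g⁻¹ = ph b0 b1 b2 (F n)) {k : ℕ} (hk : g ^ k = 1)
    (n : M4) : F^[k] n = n := by
  have : ∀ k : ℕ, g ^ k * ph b0 b1 b2 n * (g ^ k)⁻¹ = ph b0 b1 b2 (F^[k] n) := fun k => by
    induction k with
    | zero => simp
    | succ k ih => rw [Function.iterate_succ_apply', ← e, ← ih, pow_succ']; group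
  exact t.inj (by rw [← this, hk]; group)

end Tri

end HS2

set_option synthInstance.maxSize 100000 in
theorem ta_cases : ∀ d0 : M4, d0 + d0 = 0 → ∀ d1 : M4, d1 + d1 = 0 → ∀ d2 : M4, d2 + d2 = 0 →
    (∀ n, (ap ((1, 0, 0) + d0) ((0, 1, 0) + d1) ((0, 1, 1) + d2))^[2] n = n) →
    (∀ n, (fun n => ap ((1, 0, 0) + d0) ((0, 1, 0) + d1) ((0, 1, 1) + d2)
      (ap (1, 0, 0) (0, 0, 1) (2, 3, 3) n))^[2] n = n) →
    (∀ n, (fun n => ap ((1, 0, 0) + d0) ((0, 1, 0) + d1) ((0, 1, 1) + d2)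
      (ap (0, 0, 1) (1, 3, 2) (2, 3, 3) n))^[3] n = n) → d0 = (2, 0, 0) ∧ d1 = 0 := by decide +kernel

set_option linter.unusedSectionVars false in
theorem HS2.exists_let [Finite G] (h : HS2 G) : ∃ b, h.Let b := by
  obtain ⟨b, a, hθ⟩ := h.exists_Bb
  have nz : Nm ze := by decide +kernel
  have nt : Nm ta := by decide +kernel
  have a1 := a.conj (j := 6) nz (by decide +kernel)
  have c1 : Commute _ _ := a.comm
  obtain ⟨b1, z0⟩ : ∃ b1, h.κ ze * b * (h.κ ze)⁻¹ = b1 := ⟨_, rfl⟩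
  rw [z0] at a1 c1
  have a2 := a1.conj (j := 2) nz (by decide +kernel)
  have c3 := c1.conj (h.κ ze)
  obtain ⟨b2, z1⟩ : ∃ b2, h.κ ze * b1 * (h.κ ze)⁻¹ = b2 := ⟨_, rfl⟩
  rw [z1] at a2
  rw [z0, z1] at c3
  have θ0 := mul_inv_eq_iff_eq_mul.2 hθ
  have k1 : ∀ x, h.κ th * (h.κ ze * x * (h.κ ze)⁻¹) * (h.κ th)⁻¹ =
      h.κ ze * (h.κ ze * (h.κ th * x * (h.κ th)⁻¹) * (h.κ ze)⁻¹) * (h.κ ze)⁻¹ := fun x => by
    have : h.κ th * h.κ ze = h.κ ze * h.κ ze * h.κ th := by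
      rw [← map_mul, ← map_mul, ← map_mul]; exact congrArg _ (by decide +kernel)
    calc _ = h.κ th * h.κ ze * x * (h.κ th * h.κ ze)⁻¹ := by group
      _ = _ := by rw [this]; group
  have θ1 : h.κ th * b1 * (h.κ th)⁻¹ = b2 := by rw [← z0, k1, θ0, z0, z1]
  have c2 := c1.conj (h.κ th)
  rw [θ0, θ1] at c2
  have t : h.Tri b b1 b2 := ⟨a, a1, a2, c1, c2, c3⟩
  have p0 : b = ph b b1 b2 (1, 0, 0) := show b = b ^ 1 * b1 ^ 0 * b2 ^ 0 by simp
  have p1 : b1 = ph b b1 b2 (0, 1, 0) := show b1 = b ^ 0 * b1 ^ 1 * b2 ^ 0 by simp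
  have p2 : b2 = ph b b1 b2 (0, 0, 1) := show b2 = b ^ 0 * b1 ^ 0 * b2 ^ 1 by simp
  have kp : ∀ {p : Perm (Fin 8)} {k : ℕ}, p ^ k = 1 → h.κ p ^ k = 1 := fun e => by rw [← map_pow, e, map_one]
  obtain ⟨e, he, z2⟩ := t.exists_ph (a2.conj (j := 7) nz (by decide +kernel)) (1, 1, 0) (by decide +kernel) (by decide)
  obtain rfl : e = (0, 2, 2) := by
    have := t.fix (t.act (z0.trans p1) (z1.trans p2) z2) (kp (k := 7) (by decide +kernel)) (1, 0, 0)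
    clear z2; revert e; decide +kernel
  have hz := t.act (z0.trans p1) (z1.trans p2) z2
  have z3 : h.κ ze * (h.κ ze * b2 * (h.κ ze)⁻¹) * (h.κ ze)⁻¹ = ph b b1 b2 (2, 3, 3) := by
    rw [z2, hz]; exact congrArg _ (by decide +kernel)
  have q2 : ∀ x, h.κ (ze ^ 2) * x * (h.κ (ze ^ 2))⁻¹ = h.κ ze * (h.κ ze * x * (h.κ ze)⁻¹) * (h.κ ze)⁻¹ := fun x => by
    rw [sq, map_mul]; group
  obtain ⟨d0, h0, t0⟩ := t.exists_ph (a.conj (j := 3) nt (by decide +kernel)) (1, 0, 0) (by decide +kernel) (by decide)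
  obtain ⟨d1, h1, t1⟩ := t.exists_ph (a1.conj (j := 6) nt (by decide +kernel)) (0, 1, 0) (by decide +kernel) (by decide)
  obtain ⟨d2, h2, t2⟩ := t.exists_ph (a2.conj (j := 1) nt (by decide +kernel)) (0, 1, 1) (by decide +kernel) (by decide)
  have ht := t.act t0 t1 t2
  have comp : ∀ {p} {F : M4 → M4}, (∀ n, h.κ p * ph b b1 b2 n * (h.κ p)⁻¹ = ph b b1 b2 (F n)) → ∀ n, h.κ (ta * p) * ph b b1 b2 n *
      (h.κ (ta * p))⁻¹ = ph b b1 b2 (ap ((1, 0, 0) + d0) ((0, 1, 0) + d1) ((0, 1, 1) + d2) (F n)) := fun e n => by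
    rw [← ht, ← e, map_mul]; group
  obtain ⟨rfl, rfl⟩ := ta_cases d0 h0 d1 h1 d2 h2 (t.fix ht (kp (by decide +kernel)))
    (t.fix (comp (t.act (θ0.trans p0) (θ1.trans p2) (by rw [← z3, ← θ1, ← k1, z1, θ1]))) (kp (by decide +kernel)))
    (t.fix (comp (p := ze ^ 2) (t.act (by rw [q2, z0, z1, ← p2]) (by rw [q2, z1, z2]; rfl) (by rw [q2, z3])))
      (kp (by decide +kernel)))
  refine ⟨b, tr3 ▸ a.2, a.sb, hθ, z0 ▸ c1, by rw [q2, z0, z1, c2], ?_, ?_, ?_⟩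
  · rw [q2, z0, z1, pow_succ' ze, map_mul, mul_inv_rev, mul_assoc (h.κ ze), mul_assoc (h.κ ze), ← mul_assoc (_ * b), q2, z0,
      z1, ← mul_assoc, z2]
    exact show b ^ 1 * b1 ^ 3 * b2 ^ 2 = _ by rw [pow_one]
  · rw [t0, a.inv_eq, ← a.2]
    exact show b ^ 3 * b1 ^ 0 * b2 ^ 0 = _ by simp [pow_succ, mul_assoc]
  · rw [z0, ← mul_inv_eq_iff_eq_mul, t1, add_zero, ← p1]

end Cfsg.Agent.H3
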