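import Mathlib
import Cfsg.Agent.H3.Defs
import Cfsg.Agent.H3.HSbD
import Cfsg.Agent.Rec.Loc
import Cfsg.Agent.GT.PGroupChain

/-! The group `4³ : (2 × D₈)` of order 1024: letters, codes and facts (PLAN section F2). -/

set_option autoImplicit false
set_option synthInstance.maxSize 100000
set_option synthInstance.maxHeartbeats 1000000
set_option maxRecDepth 100000

namespace Cfsg.Agent.H3

open Cfsg.Agent.Spor Cfsg.Agent.Rec Subgroup Equiv TD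
open scoped commutatorElement

universe u

variable {G : Type u} [Group G]

theorem TD.cod {e : List G} (hl : e.length = 9) (hs : Sat rel2 e) (hz : nth 1 e 3 * nth 1 e 3 ≠ 1) :
    ∃ C : Cod A G, C.RepL cL e := by
  obtain ⟨e₀, h₀⟩ : ∃ e, HSy.Z4.C.RepL cL e := ⟨_, HSy.Z4.repL cL_ok⟩
  have hl₀ : e₀.length = 9 := h₀.length_eq.symm
  match e₀, hl₀, h₀ with
  | [p, q, s, a, a', b, b', c, c'], hl₀, h₀ =>
  have gT := h₀.gen T_ok
  refine pres2.cod_of_normal h₀ (h₀.sat rel2_ok) hl₀ gT.2 (W := [[3, 3]]) (fun K hK hn h1 => ?_) hs hl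
    (by simpa using hz)
  have := Fact.mk Nat.prime_two
  have hF : Finite (GL (Fin 4) (ZMod 4)) := inferInstance
  have pT : IsPGroup 2 (clos [p, q, s, a, a', b, b', c, c']) := .of_card (n := 10) gT.2
  obtain ⟨x, hx, x1, -, -, k⟩ := GT.PG.exists_step (N := ⊥) (M := K) (pT.to_le hK) pT
    (fun g hg => mem_normalizer_fintype (hn g hg)) le_normalizer_of_normal (bot_lt_iff_ne_bot.2 h1)
  have h2 : ∀ x ∈ clos [p, q, s, a, a', b, b', c, c'], ⁅x, s⁆ = 1 → ⁅x, c⁆ = 1 → ⁅x, p⁆ = 1 → ⁅x, q⁆ = 1 →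
      x = 1 ∨ x = a * a := (gT.1.cons Cod.listsL_nil).decide h₀ (by decide +kernel)
  have m : ∀ y ∈ [p, q, s, a, a', b, b', c, c'], ⁅x, y⁆ = 1 := fun y hy => mem_bot.1 (k y (mem_clos hy))
  have := (h2 x (hK hx) (m _ (by simp)) (m _ (by simp)) (m _ (by simp)) (m _ (by simp))).resolve_left
    fun e => x1 (mem_bot.2 e)
  simpa [← this] using hx

/-- `(0 3)(1 4)`. -/
def qa : Perm (Fin 8) := swap 0 3 * swap 1 4

/-- An element of the homocyclic group. -/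
def ph (x y z : G) (i j k : ℤ) : G := x ^ i * y ^ j * z ^ k

theorem ph_y {x y z : G} : y = ph x y z 0 1 0 := by simp [ph]
theorem ph_z {x y z : G} : z = ph x y z 0 0 1 := by simp [ph]
theorem ph_x' {x y z : G} : x⁻¹ = ph x y z (-1) 0 0 := by simp [ph]
theorem ph_y' {x y z : G} : y⁻¹ = ph x y z 0 (-1) 0 := by simp [ph]
theorem ph_z' {x y z : G} : z⁻¹ = ph x y z 0 0 (-1) := by simp [ph]

section

variable {x y z : G} (h1 : Commute x y) (h2 : Commute x z) (h3 : Commute y z)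
include h1 h2 h3

theorem ph_mul (i j k l m n : ℤ) : ph x y z i j k * ph x y z l m n = ph x y z (i + l) (j + m) (k + n) := by
  simp only [ph, zpow_add, mul_assoc]
  rw [← mul_assoc (z ^ k), ← (h2.zpow_zpow l k).eq, mul_assoc, ← mul_assoc (z ^ k), ← (h3.zpow_zpow m k).eq,
    ← mul_assoc (y ^ j), ← (h1.zpow_zpow l j).eq]
  simp only [mul_assoc]

theorem ph_zpow (i j k n : ℤ) : ph x y z i j k ^ n = ph x y z (i * n) (j * n) (k * n) := by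
  simp only [ph, zpow_mul]
  rw [((h2.zpow_zpow i k).mul_left (h3.zpow_zpow j k)).mul_zpow, (h1.zpow_zpow i j).mul_zpow]

theorem ph_map (f : MulAut G) {a b c d e g l m n : ℤ} (e1 : f x = ph x y z a b c) (e2 : f y = ph x y z d e g)
    (e3 : f z = ph x y z l m n) (i j k : ℤ) : f (ph x y z i j k) =
      ph x y z (a * i + d * j + l * k) (b * i + e * j + m * k) (c * i + g * j + n * k) := by
  rw [ph, map_mul, map_mul, map_zpow, map_zpow, map_zpow, e1, e2, e3, ph_zpow h1 h2 h3, ph_zpow h1 h2 h3,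
    ph_zpow h1 h2 h3, ph_mul h1 h2 h3, ph_mul h1 h2 h3]

end

theorem ph_mod {x y z : G} (hx : x ^ 4 = 1) (hy : y ^ 4 = 1) (hz : z ^ 4 = 1) {i j k l m n : ℤ}
    (h : i % 4 = l % 4 ∧ j % 4 = m % 4 ∧ k % 4 = n % 4) : ph x y z i j k = ph x y z l m n := by
  have k : ∀ {x : G} {i l : ℤ}, x ^ 4 = 1 → i % 4 = l % 4 → x ^ i = x ^ l := fun {x i l} hx e => by
    have : x ^ (4 : ℤ) = 1 := by exact_mod_cast hx
    rw [zpow_eq_zpow_emod i this, zpow_eq_zpow_emod l this, e]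
  rw [ph, ph, k hx h.1, k hy h.2.1, k hz h.2.2]

theorem sat_of {x y z p q s : G} (c1 : Commute x y) (c2 : Commute x z) (c3 : Commute y z) (p0 : x ^ 4 = 1)
    (p1 : y ^ 4 = 1) (p2 : z ^ 4 = 1) (kt : p * p = 1) (kq : q * q = 1) (ks : s * s = 1)
    (k1 : p * (q * (p * (q * (p * (q * (p * q)))))) = 1) (k2 : p * (s * (p * s)) = 1) (k3 : q * (s * (q * s)) = 1)
    (A : ∀ i j k, MulAut.conj p (ph x y z i j k) = ph x y z (2 * k - i) (j + 3 * k) (3 * k))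
    (Q : ∀ i j k, MulAut.conj q (ph x y z i j k) = ph x y z (i + 3 * j + k) (j + 2 * k) (2 * j + k))
    (S : ∀ i j k, MulAut.conj s (ph x y z i j k) = ph x y z (-i) (-j) (-k)) :
    Sat rel2 [p, q, s, x, x⁻¹, y, y⁻¹, z, z⁻¹] := by
  have o : ∀ i j k : ℤ, i % 4 = 0 ∧ j % 4 = 0 ∧ k % 4 = 0 → ph x y z i j k = 1 :=
    fun i j k e => (ph_mod p0 p1 p2 (l := 0) (m := 0) (n := 0) e).trans (by simp [ph])
  have cv : ∀ {g : G}, g * g = 1 → ∀ x w : G, g * (x * (g * w)) = MulAut.conj g x * w := fun hg x w => by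
    rw [MulAut.conj_apply, inv_eq_of_mul_eq_one_right hg, mul_assoc, mul_assoc]
  suffices Sat rel2 [p, q, s, ph x y z 1 0 0, ph x y z (-1) 0 0, ph x y z 0 1 0, ph x y z 0 (-1) 0,
      ph x y z 0 0 1, ph x y z 0 0 (-1)] by simpa [ph] using this
  simp only [rel2, rel1, ex2, List.cons_append, List.nil_append, sat_cons, evalW_cons, evalW_nil,
    nth_zero, nth_succ, mul_one, sat_nil, and_true]
  refine ⟨kt, kq, ks, k1, k2, k3, ?_⟩
  simp only [cv kt, cv kq, cv ks, A, Q, S, ph_mul c1 c2 c3]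
  refine ⟨?_, ?_, ?_, ?_, ?_, ?_, ?_, ?_, ?_, ?_, ?_, ?_, ?_, ?_, ?_, ?_, ?_, ?_, ?_, ?_, ?_⟩ <;>
    exact o _ _ _ (by decide)

attribute [local irreducible] ze th ta qa v1

namespace HS2

variable (h : HS2 G) (b : G)

/-- The second generator. -/
def b1 : G := h.κ ze * b * (h.κ ze)⁻¹
/-- The third generator. -/
def b2 : G := h.κ (ze ^ 2) * b * (h.κ (ze ^ 2))⁻¹
/-- The third involution. -/
def dd : G := h.κ qa * h.b2 b * h.b1 b
/-- The group of order 1024. -/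
def T : Subgroup G := clos [h.κ ta, h.κ qa, h.s, b, b⁻¹, h.b1 b, (h.b1 b)⁻¹, h.b2 b, (h.b2 b)⁻¹]
/-- The group of order 512. -/
def U : Subgroup G := clos [h.κ ta, h.κ qa, h.dd b]
/-- The group of order 8. -/
def V : Subgroup G := clos [b * b, h.b1 b * h.b1 b, h.b2 b * h.b2 b]
/-- The group `4³`. -/
def B : Subgroup G := clos [b, h.b1 b, h.b2 b]
/-- The dihedral group of order 8. -/
def D : Subgroup G := clos [h.κ ta, h.κ qa]

variable {h b}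

namespace Let

variable (l : h.Let b)
include l

theorem sq1 : h.b1 b * h.b1 b = h.κ (ze * v1 * ze⁻¹) := by
  rw [b1, conj_mul, l.sq, map_mul, map_mul, map_inv]

theorem sq2 : h.b2 b * h.b2 b = h.κ (ze ^ 2 * v1 * (ze ^ 2)⁻¹) := by
  rw [b2, conj_mul, l.sq, map_mul, map_mul, map_inv]

theorem p0 : b ^ 4 = 1 := by
  rw [show b ^ 4 = b * b * (b * b) by simp [pow_succ, mul_assoc], l.sq, ← map_mul,
    show v1 * v1 = 1 by decide +kernel, map_one]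

theorem p1 : h.b1 b ^ 4 = 1 := by rw [b1, conj_pow, l.p0, mul_one, mul_inv_cancel]

theorem p2 : h.b2 b ^ 4 = 1 := by rw [b2, conj_pow, l.p0, mul_one, mul_inv_cancel]

omit l in
theorem z1 : MulAut.conj (h.κ ze) (h.b1 b) = h.b2 b := by
  rw [MulAut.conj_apply, b1, b2, pow_two, map_mul]; group

theorem d1 : Commute b (h.b1 b) := l.c1

theorem d2 : Commute b (h.b2 b) := l.c2

theorem d3 : Commute (h.b1 b) (h.b2 b) := by
  rw [← z1]; exact l.d1.map (MulAut.conj (h.κ ze))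

theorem z2 : MulAut.conj (h.κ ze) (h.b2 b) = ph b (h.b1 b) (h.b2 b) 1 3 2 := by
  have := l.z3
  rw [show ze ^ 3 = ze * ze ^ 2 by rw [← pow_succ'], map_mul] at this
  rw [ph, zpow_one, zpow_ofNat, zpow_ofNat, b1, b2, ← this]
  simp only [MulAut.conj_apply, mul_inv_rev, mul_assoc]

theorem cZ (i j k : ℤ) : MulAut.conj (h.κ ze) (ph b (h.b1 b) (h.b2 b) i j k) =
    ph b (h.b1 b) (h.b2 b) k (i + 3 * k) (j + 2 * k) :=
  (ph_map l.d1 l.d2 l.d3 _ ph_y (z1.trans ph_z) l.z2 i j k).trans (ph_mod l.p0 l.p1 l.p2 (by omega))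

theorem t1' : MulAut.conj (h.κ ta) (h.b1 b) = h.b1 b := mul_inv_eq_iff_eq_mul.2 l.t1

theorem t2 : MulAut.conj (h.κ ta) (h.b2 b) = ph b (h.b1 b) (h.b2 b) 2 3 3 := by
  have c : ∀ p q x, MulAut.conj (h.κ (p * q)) x = MulAut.conj (h.κ p) (MulAut.conj (h.κ q) x) :=
    fun p q x => by rw [map_mul, map_mul, MulAut.mul_apply]
  have e0 : MulAut.conj (h.κ th) b = b := mul_inv_eq_iff_eq_mul.2 l.θb
  have f1 : h.b1 b = MulAut.conj (h.κ ze) b := rfl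
  have f2 : h.b2 b = MulAut.conj (h.κ (ze ^ 2)) b := rfl
  have e1 : h.b2 b = MulAut.conj (h.κ (th * ze)) b := by
    rw [show th * ze = ze ^ 2 * th by decide +kernel, c, e0, f2]
  have e2 : MulAut.conj (h.κ ta) (h.b2 b) = MulAut.conj (h.κ th⁻¹) (h.b1 b) := by
    rw [e1, ← l.t1', f1, ← c, ← c, ← c, show ta * (th * ze) = th⁻¹ * ta * ze by decide +kernel]
  have e3 : MulAut.conj (h.κ th⁻¹) b = b := by
    rw [map_inv, MulAut.conj_apply, inv_inv, mul_assoc, ← l.θb, inv_mul_cancel_left]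
  have e4 : MulAut.conj (h.κ th⁻¹) (h.b1 b) = MulAut.conj (h.κ ze) (MulAut.conj (h.κ ze) (h.b2 b)) := by
    rw [f1, ← c, show th⁻¹ * ze = ze * (ze * (ze ^ 2 * th⁻¹)) by decide +kernel, c, c, c, e3, f2]
  rw [e2, e4, l.z2, l.cZ]
  exact ph_mod l.p0 l.p1 l.p2 (by decide)

theorem cA (i j k : ℤ) : MulAut.conj (h.κ ta) (ph b (h.b1 b) (h.b2 b) i j k) =
    ph b (h.b1 b) (h.b2 b) (2 * k - i) (j + 3 * k) (3 * k) :=
  (ph_map l.d1 l.d2 l.d3 _ (l.t0.trans ph_x') (l.t1'.trans ph_y) l.t2 i j k).trans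
    (ph_mod l.p0 l.p1 l.p2 (by omega))

theorem cQ (i j k : ℤ) : MulAut.conj (h.κ qa) (ph b (h.b1 b) (h.b2 b) i j k) =
    ph b (h.b1 b) (h.b2 b) (i + 3 * j + k) (j + 2 * k) (2 * j + k) := by
  rw [show qa = ze * (ta * (ze * (ta * (ze * (ze * ta))))) by decide +kernel]
  simp only [map_mul, MulAut.mul_apply, l.cA, l.cZ]
  exact ph_mod l.p0 l.p1 l.p2 (by omega)

theorem cS (i j k : ℤ) : MulAut.conj h.s (ph b (h.b1 b) (h.b2 b) i j k) =
    ph b (h.b1 b) (h.b2 b) (-i) (-j) (-k) := by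
  have sc : ∀ p, MulAut.conj h.s (h.κ p * b * (h.κ p)⁻¹) = (h.κ p * b * (h.κ p)⁻¹)⁻¹ := fun p => by
    rw [MulAut.conj_apply, conj_inv, ← l.sb, ← mul_assoc, ← mul_assoc, ← h.comm, mul_assoc _ _ h.s⁻¹,
      ← mul_inv_rev, ← h.comm, mul_inv_rev]
    simp only [mul_assoc]
  exact (ph_map l.d1 l.d2 l.d3 _ (l.sb.trans ph_x') ((sc ze).trans ph_y') ((sc (ze ^ 2)).trans ph_z') i j k).trans
    (ph_mod l.p0 l.p1 l.p2 (by omega))

theorem sat : Sat rel2 [h.κ ta, h.κ qa, h.s, b, b⁻¹, h.b1 b, (h.b1 b)⁻¹, h.b2 b, (h.b2 b)⁻¹] := by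
  have ks : ∀ p, p * p = 1 → h.κ p * (h.s * (h.κ p * h.s)) = 1 := fun p hp => by
    rw [← mul_assoc h.s, ← h.comm, mul_assoc, h.s2, mul_one, ← map_mul, hp, map_one]
  refine sat_of l.d1 l.d2 l.d3 l.p0 l.p1 l.p2 (by rw [← map_mul, show ta * ta = 1 by decide +kernel, map_one])
    (by rw [← map_mul, show qa * qa = 1 by decide +kernel, map_one]) h.s2 ?_ (ks _ (by decide +kernel))
    (ks _ (by decide +kernel)) l.cA l.cQ l.cS
  simp only [← map_mul]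
  rw [show ta * (qa * (ta * (qa * (ta * (qa * (ta * qa)))))) = 1 by decide +kernel, map_one]

theorem z_ne : b * b ≠ 1 := by
  rw [l.sq, Ne, map_eq_one_iff _ h.inj]
  decide +kernel

theorem cod : ∃ C : Cod A G, C.RepL ([0, 1, 2, 3, 5, 7].map (nth A.one cL) ++ cF)
      [h.κ ta, h.κ qa, h.s, b, h.b1 b, h.b2 b, h.dd b, b * b, h.b1 b * h.b1 b, h.b2 b * h.b2 b] ∧
    C.ListsL [T_t.dom, U_t.dom, V_t.dom, B_t.dom, D_t.dom] [h.T b, h.U b, h.V b, h.B b, h.D] ∧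
    C.Lists T_t.dom (h.T b) ∧ C.Lists U_t.dom (h.U b) ∧ Nat.card (h.T b) = 1024 ∧ Nat.card (h.U b) = 512 := by
  obtain ⟨C, h0⟩ := TD.cod rfl l.sat l.z_ne
  have h1 : C.RepL ([0, 1, 2, 3, 5, 7].map (nth A.one cL) ++ cF)
      [h.κ ta, h.κ qa, h.s, b, h.b1 b, h.b2 b, h.dd b, b * b, h.b1 b * h.b1 b, h.b2 b * h.b2 b] :=
    List.rel_append (h0.pick [0, 1, 2, 3, 5, 7])
      ((h0.term (h.κ qa * h.b2 b * h.b1 b) (by decide +kernel)).cons <| (h0.term _ (by decide +kernel)).cons <|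
        (h0.term _ (by decide +kernel)).cons <| (h0.term _ (by decide +kernel)).cons Cod.repL_nil)
  have gT : C.Lists T_t.dom (h.T b) ∧ Nat.card (h.T b) = 1024 := h0.gen T_ok
  have gU : C.Lists U_t.dom (h.U b) ∧ Nat.card (h.U b) = 512 := (h1.pick [0, 1, 6]).gen U_ok
  have gV : C.Lists V_t.dom (h.V b) ∧ Nat.card (h.V b) = 8 := (h1.pick [7, 8, 9]).gen V_ok
  have gB : C.Lists B_t.dom (h.B b) ∧ Nat.card (h.B b) = 64 := (h1.pick [3, 4, 5]).gen B_ok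
  have gD : C.Lists D_t.dom h.D ∧ Nat.card h.D = 8 := (h1.pick [0, 1]).gen D_ok
  exact ⟨C, h1, gT.1.cons (gU.1.cons (gV.1.cons (gB.1.cons (gD.1.cons Cod.listsL_nil)))), gT.1, gU.1, gT.2, gU.2⟩

theorem card_T : Nat.card (h.T b) = 1024 := l.cod.elim fun _ h => h.2.2.2.2.1
theorem card_U : Nat.card (h.U b) = 512 := l.cod.elim fun _ h => h.2.2.2.2.2

theorem incl : h.U b ≤ h.T b ∧ h.V b ≤ h.T b ∧ h.B b ≤ h.T b ∧ h.D ≤ h.T b ∧ h.s ∈ h.T b ∧ h.s ∉ h.U b ∧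
    h.κ ta ∈ h.T b ∧ h.κ qa ∈ h.T b ∧ h.b2 b ∈ h.T b ∧ b * b ∈ h.V b ∧ h.b1 b * h.b1 b ∈ h.V b ∧
    h.b2 b * h.b2 b ∈ h.V b ∧ h.b1 b * h.b1 b ≠ 1 ∧ h.b1 b * h.b1 b ≠ b * b ∧ h.b2 b * h.b2 b ≠ 1 ∧
    h.b2 b * h.b2 b ≠ b * b ∧ h.b2 b * h.b2 b ≠ h.b1 b * h.b1 b ∧
    h.b2 b * h.b2 b ≠ h.b1 b * h.b1 b * (b * b) ∧ b * h.s * h.s * (b * h.s)⁻¹ = h.s * (b * b) ∧
    (b * h.s)⁻¹ = b * h.s := by
  obtain ⟨C, h1, hL, -⟩ := l.cod
  exact hL.decide h1 (by decide +kernel)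

theorem cenT : ∀ x ∈ h.T b, x * h.s = h.s * x → x * h.b2 b = h.b2 b * x → x * h.κ ta = h.κ ta * x →
    x * h.κ qa = h.κ qa * x → x = 1 ∨ x = b * b := by
  obtain ⟨C, h1, hL, -⟩ := l.cod
  exact hL.decide h1 (by decide +kernel)

theorem cenU : ∀ x ∈ h.U b, x * h.dd b = h.dd b * x → x * h.κ ta = h.κ ta * x →
    x * h.κ qa = h.κ qa * x → x = 1 ∨ x = b * b := by
  obtain ⟨C, h1, hL, -⟩ := l.cod
  exact hL.decide h1 (by decide +kernel)

theorem ab : ∀ x ∈ h.T b, x * x = 1 → x ∉ h.V b → h.s * x ∉ h.V b → b * h.s * x ∉ h.V b →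
    ∃ y ∈ h.T b, Rec.Let (y * x * y⁻¹) fun u => x * u ≠ u * x := by
  obtain ⟨C, h1, hL, -⟩ := l.cod
  exact hL.decide h1 (by decide +kernel)

theorem cs : ∀ y ∈ h.T b, (Rec.Let (y * h.s * y⁻¹) fun u => h.s * u = u * h.s ∧ h.s * u ∈ h.V b) ∧
    y * (b * b) = b * b * y ∧ (y * (h.b1 b * h.b1 b) = h.b1 b * h.b1 b * y ∨
      y * (h.b1 b * h.b1 b) = h.b1 b * h.b1 b * (b * b) * y) := by
  obtain ⟨C, h1, hL, -⟩ := l.cod
  exact hL.decide h1 (by decide +kernel)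

theorem mv : ∀ v ∈ h.V b, (∃ d ∈ h.B b, d * h.s * d⁻¹ = h.s * v) ∧
    ∃ d ∈ h.B b, d * (b * h.s) * d⁻¹ = b * h.s * v := by
  obtain ⟨C, h1, hL, -⟩ := l.cod
  exact hL.decide h1 (by decide +kernel)

theorem flag : ∀ u ∈ h.V b, ∀ w ∈ h.V b, u ≠ 1 → u ≠ b * b →
    (h.κ ta * u = u * h.κ ta ∨ h.κ ta * u = u * (b * b) * h.κ ta) →
    (h.κ qa * u = u * h.κ qa ∨ h.κ qa * u = u * (b * b) * h.κ qa) → w ≠ 1 → w ≠ b * b → w ≠ u →
    w ≠ u * (b * b) → ∃ d ∈ h.D, d * (b * b) * d⁻¹ = b * b ∧ d * (h.b1 b * h.b1 b) * d⁻¹ = u ∧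
      d * (h.b2 b * h.b2 b) * d⁻¹ = w ∧ d * h.s * d⁻¹ = h.s := by
  obtain ⟨C, h1, hL, -⟩ := l.cod
  exact hL.decide h1 (by decide +kernel)

theorem cnt : ∀ x ∈ h.U b, x * x = 1 ∧ x ∉ h.V b → {y | y ∈ h.T b ∧ x * y = y * x}.ncard ≤ 128 := by
  obtain ⟨C, h1, hL, hT, hU, -⟩ := l.cod
  exact hL.all_count h1 hU hT (fun x => x * x = 1 ∧ x ∉ h.V b) (fun x y => x * y = y * x) 128 (by decide +kernel)

theorem satS : Sat [[0, 0], [1, 1], [2, 2], [0, 1, 0, 1, 0, 1, 0, 1], [1, 2, 1, 2, 1, 2, 1, 2],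
    [0, 1, 2, 0, 1, 2, 0, 2, 1, 0, 2, 1], [0, 1, 2, 1, 0, 2, 0, 1, 2, 1, 0, 2]] [h.κ ta, h.κ qa, h.dd b] := by
  obtain ⟨C, h1, -⟩ := l.cod
  exact (h1.pick [0, 1, 6]).sat (by decide +kernel)

end Let

end HS2

end Cfsg.Agent.H3
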