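import Mathlib
import Cfsg.Agent.H3.Fm
import Cfsg.Agent.H3.B0
import Cfsg.Agent.T16.S9b
import Cfsg.Agent.T16.X4
import Cfsg.Agent.GT.CoprimeGen

/-! The quotient `N(⟨a⟩) / ⟨a⟩` is the symmetric group of degree nine (PLAN section C, first half). -/

set_option autoImplicit false
set_option synthInstance.maxSize 100000
set_option synthInstance.maxHeartbeats 1000000
set_option linter.unusedSectionVars false

namespace Cfsg.Agent.H3

open Cfsg.Agent.Rec Cfsg.Agent.Inv.Fz Cfsg.Agent.T3 Subgroup Equiv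
open scoped commutatorElement

universe u

variable {G : Type u} [Group G] [Finite G]

namespace Fm

variable (F : Fm G)

theorem ord_a : orderOf F.a = 3 := F.lists.decide F.rep (by decide +kernel)

theorem a3 : F.a ^ 3 = 1 := F.ord_a ▸ pow_orderOf_eq_one F.a

theorem fa : F.t * F.a * F.t⁻¹ = F.a⁻¹ ∧ F.a ∈ EE F.z F.s ∧ F.a ∉ zpowers F.z ∧ F.w * F.a * F.w⁻¹ = F.a * F.z ∧
    F.t * F.w * F.a * (F.t * F.w)⁻¹ = F.a⁻¹ * F.z ∧ F.a ∈ JJ F.z F.s ∧ F.t * F.z = F.z * F.t ∧ F.a ≠ F.a⁻¹ ∧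
    F.i * F.a * F.i⁻¹ = F.u⁻¹ := F.lists.decide F.rep (by decide +kernel)

theorem Sa_a : ∀ g ∈ F.Sa, g * F.a = F.a * g := F.lists.decide F.rep (by decide +kernel)

theorem J_Sa : JJ F.z F.s ≤ F.Sa := F.lists.decide F.rep (by decide +kernel)

theorem Y_J : F.Y ≤ JJ F.z F.s := F.lists.decide F.rep (by decide +kernel)

theorem memJ : F.z ∈ JJ F.z F.s ∧ F.s ∈ JJ F.z F.s ∧ F.u ∈ JJ F.z F.s ∧ F.y ∈ JJ F.z F.s ∧ F.y' ∈ JJ F.z F.s ∧
    F.v * F.s * F.v⁻¹ ∈ JJ F.z F.s ∧ F.v * (F.v * F.s * F.v⁻¹) * F.v⁻¹ ∈ JJ F.z F.s ∧ F.v ∈ F.Sa :=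
  F.lists.decide F.rep (by decide +kernel)

theorem rels : (F.v * F.s * F.v⁻¹) ^ 3 = 1 ∧ F.v ^ 3 = 1 ∧ F.t * F.t = 1 ∧ F.t * F.v * F.t⁻¹ = F.v⁻¹ ∧
    F.v * (F.v * (F.v * F.s * F.v⁻¹) * F.v⁻¹) * F.v⁻¹ = F.s ∧
    F.t * (F.v * F.s * F.v⁻¹) * F.t⁻¹ = F.v * (F.v * F.s * F.v⁻¹) * F.v⁻¹ ∧ F.t * F.s * F.t⁻¹ = F.s ∧
    F.z = (F.v * F.s * F.v⁻¹ * (F.v * (F.v * F.s * F.v⁻¹) * F.v⁻¹) * F.s)⁻¹ ∧
    F.u = F.z * F.s * (F.v * F.s * F.v⁻¹)⁻¹ ∧ F.y = F.a⁻¹ * F.u⁻¹ ∧ F.y' = F.a⁻¹ * F.u ∧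
    F.v * F.u * F.v⁻¹ = F.u * F.z := F.lists.decide F.rep (by decide +kernel)

theorem Y_cls : ∀ q ∈ F.Y, q = 1 ∨ q = F.z ∨ q = F.z⁻¹ ∨ ∃ k ∈ F.K, k * F.y * k⁻¹ = q :=
  F.lists.decide F.rep (by decide +kernel)

theorem Y_ze {q : G} (hq : q ∈ F.Y) (h1 : q ≠ 1) : ZE F.z q := by
  rcases F.Y_cls q hq with e | e | e | ⟨k, -, e⟩
  · exact absurd e h1
  · exact .inl (e ▸ IsConj.refl _)
  · exact .inr (e ▸ IsConj.refl _)
  · exact F.ze.imp (·.trans (isConj_iff.2 ⟨k, e⟩)) (·.trans (isConj_iff.2 ⟨k, e⟩))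

theorem cen_za {g : G} (h1 : g * F.z = F.z * g) (h2 : g * F.a = F.a * g) : g ∈ F.Sa :=
  F.mem_Sa g (F.ln.stab F.cz h1 F.fa.2.1 F.fa.2.2.1 (by rw [h2]; simp)) h2

/-- The normaliser of `⟨a⟩`. -/
def NA : Subgroup G := normalizer (zpowers F.a : Set G)

theorem mem_NA {g : G} : g ∈ F.NA ↔ g * F.a = F.a * g ∨ g * F.a * g⁻¹ = F.a⁻¹ := by
  constructor
  · intro h
    rcases T16.mem_zpowers_three F.a3 ((mem_normalizer_iff.1 h _).1 (mem_zpowers _)) with e | e | e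
    · have : F.a = 1 := by simpa using e
      exact .inl (by rw [this]; simp)
    · exact .inl (mul_inv_eq_iff_eq_mul.1 e)
    · exact .inr e
  · intro h
    refine mem_normalizer_of_conj_mem ?_
    rintro _ ⟨k, rfl⟩
    rw [← conj_zpow]
    rcases h with e | e
    · rw [e, mul_inv_cancel_right]; exact ⟨k, rfl⟩
    · rw [e]; exact zpow_mem (inv_mem (mem_zpowers _)) k

theorem Sa_NA : F.Sa ≤ F.NA := fun g hg => F.mem_NA.2 (.inl (F.Sa_a g hg))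

theorem J_NA : JJ F.z F.s ≤ F.NA := F.J_Sa.trans F.Sa_NA

def aN : F.NA := ⟨F.a, F.J_NA F.fa.2.2.2.2.2.1⟩
def zN : F.NA := ⟨F.z, F.J_NA F.memJ.1⟩
def sN : F.NA := ⟨F.s, F.J_NA F.memJ.2.1⟩
def uN : F.NA := ⟨F.u, F.J_NA F.memJ.2.2.1⟩
def vN : F.NA := ⟨F.v, F.Sa_NA F.memJ.2.2.2.2.2.2.2⟩
def tN : F.NA := ⟨F.t, F.mem_NA.2 (.inr F.fa.1)⟩

/-- `π` identifies `N(⟨a⟩) / ⟨a⟩` with `Γ`. -/
structure Pi {Γ : Type*} [Group Γ] (π : F.NA →* Γ) : Prop where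
  surj : Function.Surjective π
  ker : ∀ g, π g = 1 ↔ (g : G) ∈ zpowers F.a

theorem img_clos {Γ : Type*} [Group Γ] (π : F.NA →* Γ) {xs : List G} {M : Subgroup Γ}
    (h : ∀ x ∈ xs, ∃ g : F.NA, π g ∈ M ∧ (g : G) = x) {g : F.NA} (hg : (g : G) ∈ clos xs) : π g ∈ M := by
  obtain ⟨g', h1, h2⟩ : (g : G) ∈ (M.comap π).map F.NA.subtype := clos_le.2 h hg
  rwa [← show g' = g from Subtype.ext h2]

variable {F} {Γ : Type u} [Group Γ] {π : F.NA →* Γ}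

namespace Pi

variable (h : F.Pi π)
include h

theorem finite : Finite Γ := .of_surjective π h.surj

theorem a_one : π F.aN = 1 := (h.ker _).2 (mem_zpowers _)

theorem mem_of_eq {L : Subgroup G} (hL : F.a ∈ L) {x y : F.NA} (e : π x = π y) (hy : (y : G) ∈ L) : (x : G) ∈ L := by
  have h1 : ((x * y⁻¹ : F.NA) : G) ∈ zpowers F.a := (h.ker _).1 (by rw [map_mul, map_inv, e, mul_inv_cancel])
  exact (mul_mem_cancel_right (inv_mem hy)).1 (zpowers_le.2 hL h1)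

theorem J_img {M : Subgroup Γ} (h1 : π (F.vN * F.sN * F.vN⁻¹) ∈ M) (h2 : π (F.vN * (F.vN * F.sN * F.vN⁻¹) * F.vN⁻¹) ∈ M)
    (h3 : π F.sN ∈ M) : π F.zN ∈ M ∧ π (F.aN⁻¹ * F.uN⁻¹) ∈ M ∧ π (F.aN⁻¹ * F.uN) ∈ M := by
  obtain ⟨-, -, -, -, -, -, -, ez, eu, -⟩ := F.rels
  have hz : π F.zN ∈ M := by
    rw [show F.zN = (F.vN * F.sN * F.vN⁻¹ * (F.vN * (F.vN * F.sN * F.vN⁻¹) * F.vN⁻¹) * F.sN)⁻¹ from Subtype.ext ez, map_inv,
      map_mul, map_mul]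
    exact inv_mem (mul_mem (mul_mem h1 h2) h3)
  have hu : π F.uN ∈ M := by
    rw [show F.uN = F.zN * F.sN * (F.vN * F.sN * F.vN⁻¹)⁻¹ from Subtype.ext eu, map_mul, map_mul, map_inv]
    exact mul_mem (mul_mem hz h3) (inv_mem h1)
  refine ⟨hz, ?_, ?_⟩ <;> simp only [map_mul, map_inv, h.a_one, inv_one, one_mul]
  exacts [inv_mem hu, hu]

theorem J_eq : clos [π (F.vN * F.sN * F.vN⁻¹), π (F.vN * (F.vN * F.sN * F.vN⁻¹) * F.vN⁻¹), π F.sN] =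
    ((JJ F.z F.s).subgroupOf F.NA).map π := by
  refine le_antisymm (clos_le.2 ?_) ?_
  · simp only [List.mem_cons, List.not_mem_nil, or_false, forall_eq_or_imp, forall_eq]
    exact ⟨mem_map_of_mem _ F.memJ.2.2.2.2.2.1, mem_map_of_mem _ F.memJ.2.2.2.2.2.2.1, mem_map_of_mem _ F.memJ.2.1⟩
  · rintro _ ⟨g, hg, rfl⟩
    obtain ⟨h1, h2, h3⟩ := h.J_img (M := clos [π (F.vN * F.sN * F.vN⁻¹), π (F.vN * (F.vN * F.sN * F.vN⁻¹) * F.vN⁻¹), π F.sN])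
      (mem_clos (by simp)) (mem_clos (by simp)) (mem_clos (by simp))
    refine F.img_clos π ?_ (F.J_eq.ge hg)
    simp only [List.mem_cons, List.not_mem_nil, or_false, forall_eq_or_imp, forall_eq]
    exact ⟨⟨_, h1, rfl⟩, ⟨_, h2, F.rels.2.2.2.2.2.2.2.2.2.1.symm⟩, ⟨_, h3, F.rels.2.2.2.2.2.2.2.2.2.2.1.symm⟩,
      ⟨F.sN, mem_clos (by simp), rfl⟩⟩

theorem card_J : Nat.card (((JJ F.z F.s).subgroupOf F.NA).map π) = 27 := by
  have h1 := GT.card_map_mul_card_inf_ker ((JJ F.z F.s).subgroupOf F.NA) π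
  have h2 : (JJ F.z F.s).subgroupOf F.NA ⊓ π.ker = (zpowers F.a).subgroupOf F.NA := by
    ext g
    rw [mem_inf, MonoidHom.mem_ker, h.ker, mem_subgroupOf, mem_subgroupOf]
    exact ⟨fun e => e.2, fun e => ⟨zpowers_le.2 F.fa.2.2.2.2.2.1 e, e⟩⟩
  rw [h2, Nat.card_congr (subgroupOfEquivOfLe F.J_NA).toEquiv, F.gJ.2,
    Nat.card_congr (subgroupOfEquivOfLe (zpowers_le.2 (F.J_NA F.fa.2.2.2.2.2.1))).toEquiv, Nat.card_zpowers, F.ord_a] at h1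
  omega

/-- The frame in the quotient. -/
def fr : T16.Fr Γ where
  c1 := π (F.vN * F.sN * F.vN⁻¹)
  c2 := π (F.vN * (F.vN * F.sN * F.vN⁻¹) * F.vN⁻¹)
  c3 := π F.sN
  v := π F.vN
  t := π F.tN
  c1_3 := by rw [← map_pow, ← map_one π]; exact congrArg π (Subtype.ext F.rels.1)
  c12 := by
    rw [← map_mul, ← map_mul]
    exact congrArg π (Subtype.ext (F.J_comm _ F.memJ.2.2.2.2.2.1 _ F.memJ.2.2.2.2.2.2.1))
  v3 := by rw [← map_pow, ← map_one π]; exact congrArg π (Subtype.ext F.rels.2.1)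
  t2 := by rw [← map_mul, ← map_one π]; exact congrArg π (Subtype.ext F.rels.2.2.1)
  tv := by rw [← map_inv, ← map_inv, ← map_mul, ← map_mul]; exact congrArg π (Subtype.ext F.rels.2.2.2.1)
  vc1 := by rw [← map_inv, ← map_mul, ← map_mul]
  vc2 := by rw [← map_inv, ← map_mul, ← map_mul]; exact congrArg π (Subtype.ext F.rels.2.2.2.2.1)
  tc1 := by rw [← map_inv, ← map_mul, ← map_mul]; exact congrArg π (Subtype.ext F.rels.2.2.2.2.2.1)
  tc3 := by rw [← map_inv, ← map_mul, ← map_mul]; exact congrArg π (Subtype.ext F.rels.2.2.2.2.2.2.1)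
  card := h.J_eq ▸ h.card_J

theorem fr_a : h.fr.a = (π F.zN)⁻¹ := by
  rw [show F.zN = (F.vN * F.sN * F.vN⁻¹ * (F.vN * (F.vN * F.sN * F.vN⁻¹) * F.vN⁻¹) * F.sN)⁻¹ from
    Subtype.ext F.rels.2.2.2.2.2.2.2.1, map_inv, inv_inv, map_mul, map_mul]
  rfl

theorem mem_frJ {g : F.NA} : π g ∈ h.fr.J ↔ (g : G) ∈ JJ F.z F.s := by
  rw [show h.fr.J = _ from h.J_eq]
  exact ⟨fun ⟨x, hx, e⟩ => h.mem_of_eq F.fa.2.2.2.2.2.1 e.symm hx, fun hg => mem_map_of_mem _ hg⟩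

theorem mem_frH {g : F.NA} (hg : (g : G) ∈ F.Sa) : π g ∈ h.fr.H := by
  refine F.img_clos π ?_ hg
  simp only [List.mem_cons, List.not_mem_nil, or_false, forall_eq_or_imp, forall_eq]
  have h1 : ∀ x (hx : x ∈ JJ F.z F.s), ∃ g : F.NA, π g ∈ h.fr.H ∧ (g : G) = x := fun x hx =>
    ⟨⟨x, F.J_NA hx⟩, h.fr.J_le_H_k (h.mem_frJ.2 hx), rfl⟩
  exact ⟨h1 _ F.memJ.1, h1 _ F.memJ.2.2.2.1, h1 _ F.memJ.2.2.2.2.1, h1 _ F.memJ.2.1, ⟨F.vN, h.fr.v_mem_H_k, rfl⟩⟩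

theorem comm_z {g : F.NA} (e : π g * π F.zN = π F.zN * π g) : (g : G) * F.z = F.z * g := by
  have h1 : ((g * F.zN * g⁻¹ * F.zN⁻¹ : F.NA) : G) ∈ zpowers F.a :=
    (h.ker _).1 (by simp only [map_mul, map_inv, e]; group)
  have h2 : ∀ k : G, k * F.a * k⁻¹ ≠ (g : G) * F.z * (g : G)⁻¹ := fun k e =>
    F.not_a (.inl ((isConj_iff.2 ⟨(g : G), rfl⟩).trans (isConj_iff.2 ⟨k, e⟩).symm))
  change (g : G) * F.z * (g : G)⁻¹ * F.z⁻¹ ∈ _ at h1
  rcases T16.mem_zpowers_three F.a3 h1 with e | e | e <;> rw [mul_inv_eq_iff_eq_mul] at e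
  · rw [one_mul] at e; exact mul_inv_eq_iff_eq_mul.1 e
  · exact absurd (F.fa.2.2.2.1.trans e.symm) (h2 _)
  · exact absurd (F.fa.2.2.2.2.1.trans e.symm) (h2 _)

theorem cen : centralizer {h.fr.a} = h.fr.H := by
  have := h.finite
  refine le_antisymm (fun γ hγ => ?_) h.fr.H_le_C_k
  obtain ⟨g, rfl⟩ := h.surj γ
  rw [mem_cen, h.fr_a] at hγ
  have h1 := h.comm_z (Commute.inv_right_iff.1 hγ)
  rcases F.mem_NA.1 g.2 with e | e
  · exact h.mem_frH (F.cen_za h1 e)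
  · refine (mul_mem_cancel_right h.fr.t_mem_k).1 ?_
    change π g * π F.tN ∈ _
    rw [← map_mul]
    refine h.mem_frH (F.cen_za ?_ ?_)
    · change (g : G) * F.t * F.z = F.z * (g * F.t)
      rw [mul_assoc, F.fa.2.2.2.2.2.2.1, ← mul_assoc, h1, mul_assoc]
    · change (g : G) * F.t * F.a = F.a * (g * F.t)
      rw [← mul_inv_eq_iff_eq_mul]
      calc _ = (g : G) * (F.t * F.a * F.t⁻¹) * (g : G)⁻¹ := by group
        _ = _ := by rw [F.fa.1, ← conj_inv, e, inv_inv]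

/-- A subgroup of order prime to three normalised by the image of `J` has no non-trivial element whose lift centralises
`a`. -/
theorem sig0 {K : Subgroup Γ} (cop : (Nat.card K).Coprime 3) (hn : h.fr.J ≤ normalizer (K : Set Γ)) {g : F.NA}
    (hg : π g ∈ K) (ha : (g : G) * F.a = F.a * g) : π g = 1 := by
  have := Fact.mk Nat.prime_three
  have := h.finite
  set K1 : Subgroup G := (K.comap π).map F.NA.subtype ⊓ centralizer {F.a} with hK1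
  have m1 : ∀ x : F.NA, π x ∈ K → (x : G) * F.a = F.a * x → (x : G) ∈ K1 := fun x h1 h2 =>
    ⟨mem_map_of_mem _ h1, mem_cen.2 h2⟩
  have m2 : ∀ x ∈ K1, ∃ y : F.NA, π y ∈ K ∧ (y : G) = x := fun x hx => hx.1
  have one : ∀ y : F.NA, π y ∈ K → ∀ k : ℕ, y ^ 3 ^ k = 1 → π y = 1 := fun y hy k e => by
    have h1 : orderOf (π y) ∣ 3 ^ k := orderOf_dvd_of_pow_eq_one (by rw [← map_pow, e, map_one])
    exact orderOf_eq_one_iff.1 (Nat.eq_one_of_dvd_coprimes (cop.pow_right k) (K.orderOf_dvd_natCard hy) h1)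
  have hS : IsSylIn 3 (zpowers F.a) K1 := by
    refine ⟨zpowers_le.2 (m1 F.aN (h.a_one ▸ one_mem _) rfl), T16.isPGroup_zpowers_three F.ord_a,
      fun Q hQ h1 h2 => le_antisymm (fun q hq => ?_) h2⟩
    obtain ⟨y, hy, rfl⟩ := m2 q (h1 hq)
    obtain ⟨k, hk⟩ := hQ ⟨_, hq⟩
    have hk' : (y : G) ^ 3 ^ k = 1 := congrArg Subtype.val hk
    exact (h.ker _).1 (one y hy k (Subtype.ext hk'))
  obtain ⟨K0, le0, nm, -, cov, inf0⟩ := T16.exists_res hS (by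
    rintro _ ⟨i, rfl⟩ _ ⟨j, rfl⟩; exact zpow_mul_comm _ _ _)
  have inf1 : K0 ⊓ zpowers F.a = ⊥ := by
    rw [inf0, commutator_eq_bot_iff_le_centralizer, zpowers_le]
    exact fun x hx => (mem_cen.1 hx.1.2)
  have cop0 : (Nat.card K0).Coprime 3 := by
    have le1 : K0 ≤ F.NA := fun x hx => by obtain ⟨y, -, rfl⟩ := m2 x (le0 hx); exact y.2
    have h1 : (K0.subgroupOf F.NA).map π ≤ K := by
      rintro _ ⟨x, hx, rfl⟩
      obtain ⟨y, hy, e⟩ := m2 x (le0 hx)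
      rwa [← show y = x from Subtype.ext e]
    have h2 := GT.card_map_mul_card_inf_ker (K0.subgroupOf F.NA) π
    have h3 : K0.subgroupOf F.NA ⊓ π.ker = ⊥ := eq_bot_iff.2 fun x hx =>
      mem_bot.2 (Subtype.ext (mem_bot.1 (inf1 ▸ mem_inf.2 ⟨hx.1, (h.ker x).1 hx.2⟩)))
    rw [h3, card_bot, mul_one, Nat.card_congr (subgroupOfEquivOfLe le1).toEquiv] at h2
    exact cop.coprime_dvd_left (h2 ▸ card_dvd_of_le h1)
  have nJ : JJ F.z F.s ≤ normalizer (K0 : Set G) := fun j hj => nm (mem_normalizer_of_conj_mem fun x hx => by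
    obtain ⟨y, hy, rfl⟩ := m2 x hx
    refine m1 (⟨j, F.J_NA hj⟩ * y * (⟨j, F.J_NA hj⟩ : F.NA)⁻¹) ?_ ?_
    · rw [map_mul, map_mul, map_inv]
      exact conj_mem_of_mem_norm (hn (h.mem_frJ.2 hj)) hy
    · have c1 : Commute j F.a := F.Sa_a j (F.J_Sa hj)
      have c2 : Commute (y : G) F.a := mem_cen.1 hx.2
      exact ((c1.mul_left c2).mul_left c1.inv_left).eq)
  have p3 : IsPGroup 3 (JJ F.z F.s) := IsPGroup.of_card (n := 4) F.gJ.2
  have bot0 : K0 ≤ ⊥ := by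
    refine GT.CopAct.le_of_centralizer_elt_le (A := F.Y) (T16.comm_of_nine F.gY.2) (fun hc => ?_) (F.Y_J.trans nJ)
      (by rw [F.gY.2]; exact (cop0.symm.pow_left 2)) fun q hq h1 => ?_
    · obtain ⟨⟨x, hx⟩, e⟩ := isCyclic_iff_exists_orderOf_eq_natCard.1 hc
      have h1 := orderOf_dvd_of_pow_eq_one (F.J_exp x (F.Y_J hx))
      rw [← orderOf_mk x hx, e, F.gY.2] at h1
      norm_num at h1
    · have hJ : JJ F.z F.s ≤ centralizer {q} := fun j hj => mem_cen.2 (F.J_comm j hj q (F.Y_J hq))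
      exact ((F.cz.of_ze (F.Y_ze hq h1)).sig inf_le_right (cop0.coprime_dvd_left (card_dvd_of_le inf_le_left)) hJ p3
        (by rw [F.gJ.2]; norm_num) (GT.CopAct.le_normalizer_inf nJ (hJ.trans le_normalizer))).le
  obtain ⟨k, hk, j, hj, e⟩ := cov _ (m1 g hg ha)
  rw [mem_bot.1 (bot0 hk), one_mul] at e
  exact (h.ker g).2 (e ▸ hj)

theorem sig : h.fr.Sig := fun K cop hn => eq_bot_iff.2 fun k hk => by
  have := h.finite
  obtain ⟨g, rfl⟩ := h.surj k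
  have h1 : ∀ j ∈ h.fr.J, π g * j = j * π g := fun j hj => by
    obtain ⟨x, rfl⟩ := h.surj j
    have c1 : Commute (x : G) F.a := F.Sa_a _ (F.J_Sa (h.mem_frJ.1 hj))
    have h2 := h.sig0 cop hn (g := x * g * x⁻¹ * g⁻¹) (by
      simp only [map_mul, map_inv]
      exact mul_mem (conj_mem_of_mem_norm (hn hj) hk) (inv_mem hk)) (by
      change (x : G) * g * (x : G)⁻¹ * (g : G)⁻¹ * F.a = F.a * (x * g * (x : G)⁻¹ * (g : G)⁻¹)
      have c2 : Commute ((g : G) * (x : G)⁻¹ * (g : G)⁻¹) F.a := by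
        rcases F.mem_NA.1 g.2 with e | e
        · have e' : Commute (g : G) F.a := e
          exact (e'.mul_left c1.inv_left).mul_left e'.inv_left
        · have := (c1.inv_left.inv_right).conj (g : G)
          rwa [← conj_inv (a := F.a), e, inv_inv] at this
      have := (c1.mul_left c2).eq
      simpa only [mul_assoc] using this)
    simp only [map_mul, map_inv] at h2
    rw [mul_inv_eq_one, mul_inv_eq_iff_eq_mul] at h2
    exact h2.symm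
  have h2 : π g ∈ h.fr.H := h.cen ▸ mem_cen.2 (h1 _ h.fr.a_mem_k)
  have h3 := h.fr.J_exp_k _ (h.fr.H_cent_k _ h2 (h1 _ h.fr.c1_mem_k) (h1 _ h.fr.c2_mem_k))
  exact orderOf_eq_one_iff.1 (Nat.eq_one_of_dvd_coprimes cop (K.orderOf_dvd_natCard hk) (orderOf_dvd_of_pow_eq_one h3))

theorem not_normal : ¬ h.fr.J.Normal := fun hn => by
  obtain ⟨g, h1, h2⟩ := F.move
  refine h2 (mem_normalizer_of_conj_mem fun j hj => ?_)
  have h3 := hn.conj_mem _ (h.mem_frJ (g := ⟨j, F.J_NA hj⟩).2 hj) (π ⟨g, F.mem_NA.2 (.inl h1)⟩)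
  rw [← map_inv, ← map_mul, ← map_mul, h.mem_frJ] at h3
  exact h3

theorem iso : Nonempty (Γ ≃* Perm (Fin 9)) := by
  have := h.finite
  obtain ⟨f', h1, h2, -, h3, h4⟩ := T16.Fr.cases (T16.Fr.hc_ok h.cen)
  have hCa : centralizer {f'.a} = f'.H := by rw [h2, h3, h.cen]
  have hs : f'.Sig := fun K hK hn => h.sig K hK (h1 ▸ hn)
  refine Or.resolve_left ?_ h.not_normal
  rw [← h1]
  rcases h4 with e | ⟨w, e⟩ | ⟨d, e⟩ | ⟨d, e⟩
  exacts [.inl (T16.Fr.x1_normal e hCa hs), .inl (T16.Fr.x2_normal e hCa hs), .inl (T16.Fr.x3_normal e hCa hs),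
    T16.Fr.x4_main e hCa hs]

theorem card_cen : Nat.card (centralizer {π F.zN}) = 162 := by
  have := h.finite
  rw [← h.fr.card_H_k, ← h.cen, h.fr_a]
  congr 2
  ext g
  rw [mem_cen, mem_cen]
  exact Commute.inv_right_iff.symm

theorem ord_z : orderOf (π F.zN) = 3 := by
  have := h.finite
  rw [← h.fr.ord_a_k, h.fr_a, orderOf_inv]

end Pi

theorem Pi.comp {Δ : Type*} [Group Δ] (h : F.Pi π) (e : Γ ≃* Δ) : F.Pi (e.toMonoidHom.comp π) :=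
  ⟨e.surjective.comp h.surj, fun g => by rw [← h.ker]; exact e.map_eq_one_iff⟩

variable (F)

/-- A surjection onto `S₉` with kernel `⟨a⟩`; the centraliser of the image of `z` has order 162. -/
theorem exists_pi0 : ∃ π : F.NA →* Perm (Fin 9), F.Pi π ∧ orderOf (π F.zN) = 3 ∧ Nat.card (centralizer {π F.zN}) = 162 := by
  have hn : ((zpowers F.a).subgroupOf F.NA).Normal := normal_in_normalizer
  have h : F.Pi (QuotientGroup.mk' ((zpowers F.a).subgroupOf F.NA)) :=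
    ⟨QuotientGroup.mk'_surjective _, fun g => by rw [QuotientGroup.mk'_apply, QuotientGroup.eq_one_iff, mem_subgroupOf]⟩
  obtain ⟨e⟩ := h.iso
  refine ⟨_, h.comp e, ?_, ?_⟩
  · rw [← h.ord_z]; exact e.orderOf_eq _
  · rw [← h.card_cen]
    refine (Nat.card_congr (e.toEquiv.subtypeEquiv fun g => ?_)).symm
    rw [mem_cen, mem_cen]
    change _ ↔ e g * e _ = e _ * e g
    rw [← map_mul, ← map_mul, e.apply_eq_iff_eq]

end Fm

end Cfsg.Agent.H3
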