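import Mathlib
import Cfsg.Agent.H3.Defs

/-! Small facts on permutations of twelve points. -/

set_option autoImplicit false

namespace Cfsg.Agent.H3

open Equiv Equiv.Perm

theorem e8_hi (p : Perm (Fin 8)) (k : Fin 8) : e8 p (Fin.natAdd 4 k) = Fin.natAdd 4 (p k) := by
  simp only [e8, permCongrHom]; simp; rw [finSumFinEquiv_symm_apply_natAdd]; rfl

theorem e8_lo (p : Perm (Fin 8)) (k : Fin 4) : e8 p (Fin.castAdd 8 k) = Fin.castAdd 8 k := by
  simp only [e8, permCongrHom]; simp; rw [finSumFinEquiv_symm_apply_castAdd]; rfl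

theorem e8_fix (p : Perm (Fin 8)) : e8 p 0 = 0 ∧ e8 p 1 = 1 ∧ e8 p 2 = 2 ∧ e8 p 3 = 3 :=
  ⟨e8_lo p 0, e8_lo p 1, e8_lo p 2, e8_lo p 3⟩

theorem e8_inj : Function.Injective e8 := fun p q h => Equiv.ext fun k =>
  Fin.natAdd_injective _ _ (by rw [← e8_hi, ← e8_hi, h])

theorem sign_e8 (p : Perm (Fin 8)) : sign (e8 p) = sign p := by
  simp [e8, permCongrHom]

theorem e8_swap (a b : Fin 8) : e8 (swap a b) = swap (Fin.natAdd 4 a) (Fin.natAdd 4 b) := by
  simp [e8, permCongrHom, permCongr_def]; rfl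

theorem e8_eq (p : Perm (Fin 8)) : e8 p = p.viaEmbedding (Fin.natAddEmb 4) := Equiv.ext fun x => by
  refine Fin.addCases (m := 4) (n := 8) (fun k => ?_) (fun k => ?_) x
  · rw [e8_lo, viaEmbedding_apply_of_notMem]
    rintro ⟨j, hj⟩
    have := congrArg Fin.val hj
    have h1 : 4 + (j : ℕ) = k := this
    omega
  · rw [e8_hi]; exact (viaEmbedding_apply p (Fin.natAddEmb 4) k).symm

theorem cycleType_e8 (p : Perm (Fin 8)) : (e8 p).cycleType = p.cycleType := by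
  rw [e8_eq, viaEmbedding]; convert cycleType_extendDomain _

theorem mem_e8 {p : Perm (Fin 12)} (h0 : p 0 = 0) (h1 : p 1 = 1) (h2 : p 2 = 2) (h3 : p 3 = 3) : p ∈ e8.range := by
  have h : ∀ k : Fin 4, p (Fin.castAdd 8 k) = Fin.castAdd 8 k := fun k => by fin_cases k <;> assumption
  obtain ⟨⟨a, b⟩, e⟩ := mem_sumCongrHom_range_of_perm_mapsTo_inl
    (σ := (finSumFinEquiv (m := 4) (n := 8)).symm.permCongr p) (by rintro _ ⟨k, rfl⟩; exact ⟨k, by
      rw [permCongr_apply, eq_comm, Equiv.symm_apply_eq]; exact h k⟩)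
  have e1 : ∀ x, p (finSumFinEquiv x) = finSumFinEquiv (Sum.map a b x) := fun x => by
    have := congrArg (fun f => finSumFinEquiv (f x)) e
    simpa using this.symm
  refine ⟨b, Equiv.ext fun x => ?_⟩
  refine Fin.addCases (m := 4) (n := 8) (fun k => ?_) (fun k => ?_) x
  · rw [e8_lo, h]
  · rw [e8_hi]; exact (e1 (.inr k)).symm

theorem fix_of_comm {α : Type*} {p q : Perm α} (h : p * q = q * p) {x : α} : q (p x) = p x ↔ q x = x := by
  rw [← mul_apply, ← h, mul_apply, p.apply_eq_iff_eq]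

/-- The centraliser of the four-group on `0, 1, 2, 3`. -/
theorem cent_V4 {p : Perm (Fin 12)} (h1 : p * uu = uu * p) (h2 : p * ss = ss * p) :
    ∃ v : alternatingGroup (Fin 12), (v = 1 ∨ v = uu ∨ v = ss ∨ v = uu * ss) ∧ ∃ q, p = v * e8 q := by
  have a1 : ∀ x, (uu : Perm (Fin 12)) (p x) = p ((uu : Perm (Fin 12)) x) := fun x => (congrArg (· x) h1).symm
  have a2 : ∀ x, (ss : Perm (Fin 12)) (p x) = p ((ss : Perm (Fin 12)) x) := fun x => (congrArg (· x) h2).symm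
  have b1 : p 1 = (uu : Perm (Fin 12)) (p 0) := (a1 0).symm
  have b2 : p 2 = (ss : Perm (Fin 12)) (p 0) := (a2 0).symm
  have b3 : p 3 = (uu : Perm (Fin 12)) ((ss : Perm (Fin 12)) (p 0)) := by rw [← b2]; exact (a1 2).symm
  have b0 : (uu : Perm (Fin 12)) (p 0) ≠ p 0 := fun e => absurd ((fix_of_comm h1).1 e) (by decide)
  have key : ∀ x : Fin 12, (uu : Perm (Fin 12)) x ≠ x → ∃ v : alternatingGroup (Fin 12),
      (v = 1 ∨ v = uu ∨ v = ss ∨ v = uu * ss) ∧ (v : Perm (Fin 12))⁻¹ x = 0 ∧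
      (v : Perm (Fin 12))⁻¹ ((uu : Perm (Fin 12)) x) = 1 ∧ (v : Perm (Fin 12))⁻¹ ((ss : Perm (Fin 12)) x) = 2 ∧
      (v : Perm (Fin 12))⁻¹ ((uu : Perm (Fin 12)) ((ss : Perm (Fin 12)) x)) = 3 := by
    simp only [exists_eq_or_imp, exists_eq_left]; decide +kernel
  obtain ⟨v, hv, c0, c1, c2, c3⟩ := key _ b0
  obtain ⟨q, hq⟩ := mem_e8 (p := (v : Perm (Fin 12))⁻¹ * p) c0 (by rw [mul_apply, b1, c1]) (by rw [mul_apply, b2, c2])
    (by rw [mul_apply, b3, c3])
  exact ⟨v, hv, q, by rw [hq, mul_inv_cancel_left]⟩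

/-- Conjugacy in an alternating group for elements with two fixed points. -/
theorem conjA {n : ℕ} {p q : alternatingGroup (Fin n)} (h : (p : Perm (Fin n)).cycleType = (q : Perm (Fin n)).cycleType)
    (hs : (p : Perm (Fin n)).cycleType.sum + 2 ≤ n) : IsConj p q :=
  alternatingGroup.isConj_of (isConj_iff_cycleType_eq.2 h) (by rwa [← sum_cycleType, Fintype.card_fin])

/-- The cycle type of an element of prime order `r`. -/
theorem type_of_prime {n r : ℕ} (hr : r.Prime) {p : Perm (Fin n)} (h : p ^ r = 1) :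
    ∃ k, k * r ≤ n ∧ p.cycleType = Multiset.replicate k r := by
  have := Fact.mk hr
  have h1 := cycleType_of_pow_prime_eq_one h
  have h2 := p.sum_cycleType_le
  rw [h1, Multiset.sum_replicate, Fintype.card_fin, smul_eq_mul] at h2
  exact ⟨_, h2, h1⟩

theorem type_inv12 {p : alternatingGroup (Fin 12)} (h : p * p = 1) : p = 1 ∨ (p : Perm (Fin 12)).cycleType = {2, 2} ∨
    (p : Perm (Fin 12)).cycleType = {2, 2, 2, 2} ∨ (p : Perm (Fin 12)).cycleType = {2, 2, 2, 2, 2, 2} := by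
  obtain ⟨k, h1, h2⟩ := type_of_prime Nat.prime_two (p := (p : Perm (Fin 12))) (by rw [sq]; exact congrArg Subtype.val h)
  have h3 := sign_of_cycleType (p : Perm (Fin 12))
  rw [mem_alternatingGroup.1 p.2, h2] at h3
  have : k ≤ 6 := by omega
  interval_cases k
  · exact .inl (Subtype.ext (cycleType_eq_zero.1 h2))
  all_goals first | exact absurd h3 (by decide) | simp [h2]

/-- An element commuting with `(9 10 11)`. -/
theorem comm_cc {p : Perm (Fin 12)} (h : p * cc = cc * p) :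
    ∃ k : Fin 3, ∃ q : Perm (Fin 12), p = cc ^ (k : ℕ) * q ∧ q 9 = 9 ∧ q 10 = 10 ∧ q 11 = 11 := by
  have a1 : ∀ x, (cc : Perm (Fin 12)) (p x) = p ((cc : Perm (Fin 12)) x) := fun x => (congrArg (· x) h).symm
  have b1 : p 10 = (cc : Perm (Fin 12)) (p 9) := (a1 9).symm
  have b2 : p 11 = (cc : Perm (Fin 12)) ((cc : Perm (Fin 12)) (p 9)) := by rw [← b1]; exact (a1 10).symm
  have b0 : (cc : Perm (Fin 12)) (p 9) ≠ p 9 := fun e => absurd ((fix_of_comm h).1 e) (by decide)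
  have key : ∀ x : Fin 12, (cc : Perm (Fin 12)) x ≠ x → ∃ k : Fin 3, ((cc : Perm (Fin 12)) ^ (k : ℕ))⁻¹ x = 9 ∧
      ((cc : Perm (Fin 12)) ^ (k : ℕ))⁻¹ ((cc : Perm (Fin 12)) x) = 10 ∧
      ((cc : Perm (Fin 12)) ^ (k : ℕ))⁻¹ ((cc : Perm (Fin 12)) ((cc : Perm (Fin 12)) x)) = 11 := by decide +kernel
  obtain ⟨k, c0, c1, c2⟩ := key _ b0
  exact ⟨k, ((cc : Perm (Fin 12)) ^ (k : ℕ))⁻¹ * p, by rw [mul_inv_cancel_left], c0, by rw [mul_apply, b1, c1],
    by rw [mul_apply, b2, c2]⟩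

end Cfsg.Agent.H3
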