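import Mathlib
import Cfsg.Agent.H3.N9a
import Cfsg.Agent.H3.P12
import Cfsg.Agent.S0892

/-! The normaliser `(3 × A₉) : 2` (PLAN section C). -/

set_option autoImplicit false
set_option synthInstance.maxSize 100000
set_option synthInstance.maxHeartbeats 1000000
set_option linter.unusedSectionVars false

namespace Cfsg.Agent.H3

open Cfsg.Agent.Rec Cfsg.Agent.Inv.Fz Cfsg.Agent.T3 Subgroup Equiv
open scoped commutatorElement

universe u

variable {G : Type u} [Group G] [Finite G]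

theorem type_d1 : (d1 : Perm (Fin 9)).cycleType = {3} := by decide +kernel
theorem type_d12 : ((d1 * d2 : alternatingGroup (Fin 9)) : Perm (Fin 9)).cycleType = {3, 3} := by decide +kernel
theorem type_d123 : ((d1 * d2 * d3 : alternatingGroup (Fin 9)) : Perm (Fin 9)).cycleType = {3, 3, 3} := by decide +kernel

theorem type_three {p : Perm (Fin 9)} (h : orderOf p = 3) :
    p.cycleType = {3} ∨ p.cycleType = {3, 3} ∨ p.cycleType = {3, 3, 3} := by
  obtain ⟨k, h1, h2⟩ := type_of_prime Nat.prime_three (p := p) (h ▸ pow_orderOf_eq_one p)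
  have : k ≤ 3 := by omega
  interval_cases k
  · rw [Perm.cycleType_eq_zero.1 h2, orderOf_one] at h; norm_num at h
  exacts [.inl h2, .inr (.inl h2), .inr (.inr h2)]

theorem type_of_cen {p : Perm (Fin 9)} (h : orderOf p = 3) (hc : Nat.card (centralizer {p}) = 162) :
    p.cycleType = {3, 3, 3} := by
  rw [Perm.nat_card_centralizer] at hc
  rcases type_three h with e | e | e
  · rw [e] at hc; exact absurd hc (by decide +kernel)
  · rw [e] at hc; exact absurd hc (by decide +kernel)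
  · exact e

theorem not_three {p q : Perm (Fin 9)} (h : p.cycleType = {3}) (hq : q.cycleType = {3, 3, 3}) (hc : IsConj p (p * q)) :
    False := by
  have h1 := Perm.sum_cycleType p
  have h2 := Perm.sum_cycleType (p * q)
  have h3 := Perm.sum_cycleType q
  rw [← Perm.isConj_iff_cycleType_eq.1 hc] at h2
  rw [h] at h1 h2
  rw [hq] at h3
  have h4 := Finset.card_le_card (Perm.support_mul_le p⁻¹ (p * q))
  have h5 := Finset.card_union_le p⁻¹.support (p * q).support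
  rw [inv_mul_cancel_left, Finset.sup_eq_union, ← h3] at h4
  have := h4.trans h5
  rw [Perm.support_inv, ← h1, ← h2] at this
  norm_num at this

namespace Fm

variable (F : Fm G)

theorem exists_pi : ∃ π : F.NA →* Perm (Fin 9), F.Pi π ∧ π F.zN = (d1 * d2 * d3 : alternatingGroup (Fin 9)) := by
  obtain ⟨π, h, h1, h2⟩ := F.exists_pi0
  obtain ⟨c, hc⟩ := isConj_iff.1 (Perm.isConj_iff_cycleType_eq.2 ((type_of_cen h1 h2).trans type_d123.symm))
  exact ⟨(MulAut.conj c).toMonoidHom.comp π, ⟨(MulAut.conj c).surjective.comp h.surj,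
    fun g => by rw [← h.ker]; exact (MulAut.conj c).map_eq_one_iff⟩, hc⟩

theorem tri : ∀ j ∈ F.Sa, j ∈ zpowers F.z ∨ F.y * j * F.y⁻¹ = j * F.z ∨ F.y * j * F.y⁻¹ = j * F.z⁻¹ ∨ ∃ k ∈ F.K,
    Let (k * j * k⁻¹) fun c => c = j * F.z ∨ c⁻¹ = j * F.z ∨ c = j * F.z⁻¹ ∨ c⁻¹ = j * F.z⁻¹ ∨ c * F.z = j * F.z⁻¹ ∨
      (c * F.z)⁻¹ = j * F.z⁻¹ := F.lists.decide F.rep (by decide +kernel)

theorem tri' {j : G} (hj : j ∈ F.Sa) (hz : j ∉ zpowers F.z) :
    ZE j (j * F.z) ∨ ZE j (j * F.z⁻¹) ∨ ZE (j * F.z) (j * F.z⁻¹) := by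
  rcases F.tri j hj with e | e | e | ⟨k, hk, e | e | e | e | e | e⟩
  · exact absurd e hz
  · exact .inl (.inl (isConj_iff.2 ⟨_, e⟩))
  · exact .inr (.inl (.inl (isConj_iff.2 ⟨_, e⟩)))
  · exact .inl (.inl (isConj_iff.2 ⟨_, e⟩))
  · exact .inl (.inr (isConj_iff.2 ⟨k, by rw [← conj_inv, e]⟩))
  · exact .inr (.inl (.inl (isConj_iff.2 ⟨_, e⟩)))
  · exact .inr (.inl (.inr (isConj_iff.2 ⟨k, by rw [← conj_inv, e]⟩)))
  · exact .inr (.inr (.inl (isConj_iff.2 ⟨k, by rw [← e, ← mul_assoc, mul_assoc _ F.z, mul_assoc _ k⁻¹,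
      F.K_z _ (inv_mem hk)]⟩)))
  · exact .inr (.inr (.inr (isConj_iff.2 ⟨k, by rw [← conj_inv, ← e, ← mul_assoc, mul_assoc _ F.z, mul_assoc _ k⁻¹,
      F.K_z _ (inv_mem hk)]⟩)))

theorem comms : ⁅F.u⁻¹, F.v⁆ = F.z ∧ F.z * ⁅F.s, F.v⁆ = F.u ∧ orderOf F.u = 3 ∧ F.u ∉ zpowers F.a :=
  F.lists.decide F.rep (by decide +kernel)

/-- The centraliser of `a` inside the normaliser. -/
def CA : Subgroup F.NA := centralizer {F.aN}

theorem mem_CA {g : F.NA} : g ∈ F.CA ↔ (g : G) * F.a = F.a * g := mem_cen.trans Subtype.ext_iff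

theorem index_CA : F.CA.index = 2 := by
  refine index_eq_two_iff.2 ⟨F.tN, fun b => ?_⟩
  have h1 : b * F.tN ∈ F.CA ↔ (b : G) * F.a * (b : G)⁻¹ = F.a⁻¹ := by
    rw [mem_CA, ← mul_inv_eq_iff_eq_mul]
    change (b : G) * F.t * F.a * ((b : G) * F.t)⁻¹ = F.a ↔ _
    rw [show (b : G) * F.t * F.a * ((b : G) * F.t)⁻¹ = b * (F.t * F.a * F.t⁻¹) * (b : G)⁻¹ by group, F.fa.1, ← conj_inv,
      inv_eq_iff_eq_inv]
  rw [h1, mem_CA]
  rcases F.mem_NA.1 b.2 with e | e
  · exact .inr ⟨e, fun e' => F.fa.2.2.2.2.2.2.2.1 (by rw [← e', e, mul_inv_cancel_right])⟩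
  · exact .inl ⟨e, fun e' => F.fa.2.2.2.2.2.2.2.1 (by rw [← e, e', mul_inv_cancel_right])⟩

instance : F.CA.Normal := normal_of_index_eq_two F.index_CA

/-- The complement to `⟨a⟩` in its centraliser. -/
def KA : Subgroup F.NA := ⁅F.CA, F.CA⁆

instance : F.KA.Normal := commutator_normal _ _

theorem KA_le : F.KA ≤ F.CA := commutator_le_left _ _

theorem z_KA : F.zN ∈ F.KA := by
  rw [show F.zN = ⁅F.uN⁻¹, F.vN⁆ from Subtype.ext F.comms.1.symm]
  exact commutator_mem_commutator (inv_mem (F.mem_CA.2 (F.Sa_a _ (F.J_Sa F.memJ.2.2.1))))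
    (F.mem_CA.2 (F.Sa_a _ F.memJ.2.2.2.2.2.2.2))

theorem u_KA : F.uN ∈ F.KA := by
  rw [show F.uN = F.zN * ⁅F.sN, F.vN⁆ from Subtype.ext F.comms.2.1.symm]
  exact mul_mem F.z_KA (commutator_mem_commutator (F.mem_CA.2 (F.Sa_a _ (F.J_Sa F.memJ.2.1)))
    (F.mem_CA.2 (F.Sa_a _ F.memJ.2.2.2.2.2.2.2)))

variable {F} {π : F.NA →* Perm (Fin 9)}

namespace Pi

variable (h : F.Pi π)
include h

theorem ker_le : π.ker ≤ F.CA := fun g hg => by
  obtain ⟨k, e⟩ := (h.ker g).1 hg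
  rw [mem_CA, ← e]
  exact ((Commute.refl F.a).zpow_left k).eq

theorem map_CA : F.CA.map π = alternatingGroup (Fin 9) :=
  Perm.eq_alternatingGroup_of_index_eq_two (by rw [index_map_eq _ h.surj h.ker_le, F.index_CA])

theorem even_iff {g : F.NA} : π g ∈ alternatingGroup (Fin 9) ↔ g ∈ F.CA := by
  rw [← h.map_CA, ← mem_comap, comap_map_eq_self h.ker_le]

theorem map_KA : F.KA.map π = alternatingGroup (Fin 9) := by
  rw [KA, map_commutator, h.map_CA]
  exact commutator_alternatingGroup_eq_self (by simp)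

theorem a_not : F.aN ∉ F.KA := fun ha => by
  let φ : F.CA →* alternatingGroup (Fin 9) := (π.comp F.CA.subtype).codRestrict _ fun g => h.even_iff.2 g.2
  have surj : Function.Surjective φ := fun p => by
    obtain ⟨g, hg, e⟩ := h.map_CA.ge p.2
    exact ⟨⟨g, hg⟩, Subtype.ext e⟩
  have hk : ∀ g, g ∈ φ.ker ↔ ((g : F.NA) : G) ∈ zpowers F.a := fun g => by
    rw [MonoidHom.mem_ker, ← h.ker]; exact Subtype.ext_iff
  have h2 := S0892.result 9 (by norm_num) (by norm_num) (by norm_num) φ.ker (fun g hg => mem_center_iff.2 fun x => by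
      obtain ⟨k, e⟩ := (hk g).1 hg
      refine Subtype.ext (Subtype.ext ?_)
      change ((x : F.NA) : G) * ((g : F.NA) : G) = ((g : F.NA) : G) * ((x : F.NA) : G)
      rw [← e]
      exact (Commute.zpow_right (F.mem_CA.1 x.2) k).eq)
    (fun g hg => by
      obtain ⟨k, e⟩ := (hk g).1 hg
      have h1 : (g : F.NA) ∈ F.KA := by
        rw [show (g : F.NA) = F.aN ^ k from Subtype.ext e.symm]; exact zpow_mem ha k
      rw [KA, ← map_subtype_commutator] at h1
      obtain ⟨x, hx, e'⟩ := h1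
      rwa [← show x = g from Subtype.ext e']) (QuotientGroup.quotientKerEquivOfSurjective φ surj)
  have h3 : orderOf (⟨F.aN, F.mem_CA.2 rfl⟩ : F.CA) ∣ Nat.card φ.ker := φ.ker.orderOf_dvd_natCard ((hk _).2 (mem_zpowers _))
  rw [← orderOf_coe, ← orderOf_coe] at h3
  change orderOf F.a ∣ _ at h3
  rw [F.ord_a] at h3
  have := Nat.le_of_dvd Nat.card_pos h3
  omega

theorem inj_KA {g : F.NA} (hg : g ∈ F.KA) (e : π g = 1) : g = 1 := by
  rcases T16.mem_zpowers_three F.a3 ((h.ker g).1 e) with e | e | e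
  · exact Subtype.ext e
  · exact absurd ((show g = F.aN from Subtype.ext e) ▸ hg) h.a_not
  · exact absurd (inv_mem_iff.1 ((show g = F.aN⁻¹ from Subtype.ext e) ▸ hg)) h.a_not

theorem ext_KA {x y : F.NA} (hx : x ∈ F.KA) (hy : y ∈ F.KA) (e : π x = π y) : x = y :=
  mul_inv_eq_one.1 (h.inj_KA (mul_mem hx (inv_mem hy)) (by rw [map_mul, map_inv, e, mul_inv_cancel]))

theorem exists_kappa : ∃ κ : alternatingGroup (Fin 9) →* F.NA, ∀ p, κ p ∈ F.KA ∧ π (κ p) = p := by
  choose κ h1 h2 using fun p : alternatingGroup (Fin 9) => h.map_KA.ge p.2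
  exact ⟨MonoidHom.mk' κ fun p q => h.ext_KA (h1 _) (mul_mem (h1 _) (h1 _)) (by rw [map_mul, h2, h2, h2]; rfl),
    fun p => ⟨h1 p, h2 p⟩⟩

theorem conj_KA {x y : F.NA} (hx : x ∈ F.KA) (hy : y ∈ F.KA) (e : IsConj (π x) (π y)) : IsConj (x : G) (y : G) := by
  obtain ⟨c, hc⟩ := isConj_iff.1 e
  obtain ⟨g, rfl⟩ := h.surj c
  rw [← map_inv, ← map_mul, ← map_mul] at hc
  exact isConj_iff.2 ⟨g, congrArg Subtype.val (h.ext_KA (Normal.conj_mem inferInstance _ hx g) hy hc)⟩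

end Pi

end Fm

theorem ZE.symm' {x y : G} (h : ZE x y) : ZE y x :=
  h.imp IsConj.symm fun e => by
    obtain ⟨c, rfl⟩ := isConj_iff.1 e
    exact isConj_iff.2 ⟨c⁻¹, by group⟩

theorem ZE.trans' {x y w : G} (h : ZE x y) (h' : ZE y w) : ZE x w := by
  have inv : ∀ {a b : G}, IsConj a b → IsConj a⁻¹ b⁻¹ := fun e => by
    obtain ⟨c, rfl⟩ := isConj_iff.1 e
    exact isConj_iff.2 ⟨c, by group⟩
  rcases h with e | e <;> rcases h' with e' | e'
  exacts [.inl (e.trans e'), .inr ((inv e).trans e'), .inr (e.trans e'), .inl ((inv_inv x ▸ inv e).trans e')]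

theorem Fm.exists_n9 (F : Fm G) : Nonempty (N9 G) := by
  obtain ⟨π, h, hz⟩ := F.exists_pi
  obtain ⟨κ, hκ⟩ := h.exists_kappa
  obtain ⟨d, hd⟩ := h.surj (swap 0 1)
  have inj : Function.Injective (F.NA.subtype.comp κ) := fun p q e =>
    Subtype.ext (by rw [← (hκ p).2, ← (hκ q).2, show κ p = κ q from Subtype.ext e])
  have da : (d : G) * F.a * (d : G)⁻¹ = F.a⁻¹ := (F.mem_NA.1 d.2).resolve_left fun e => by
    have := h.even_iff.2 (F.mem_CA.2 e)
    rw [hd, Perm.mem_alternatingGroup] at this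
    exact absurd this (by decide +kernel)
  have kz : κ (d1 * d2 * d3) = F.zN := h.ext_KA (hκ _).1 F.z_KA ((hκ _).2.trans hz.symm)
  have aa : IsConj F.a F.a⁻¹ := isConj_iff.2 ⟨_, da⟩
  have au : IsConj F.a F.u := aa.trans (isConj_iff.2 ⟨F.i, by rw [← conj_inv, F.fa.2.2.2.2.2.2.2.2, inv_inv]⟩)
  have c2 : IsConj F.a (κ (d1 * d2) : G) := by
    have o3 : orderOf (π F.uN) = 3 := orderOf_eq_prime
      (by rw [← map_pow, ← map_one π]; exact congrArg π (Subtype.ext (F.J_exp _ F.memJ.2.2.1)))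
      fun e => F.comms.2.2.2 ((h.ker _).1 e)
    rcases type_three o3 with e | e | e
    · refine (not_three e type_d123 (isConj_iff.2 ⟨π F.vN, ?_⟩)).elim
      rw [← hz, ← map_inv, ← map_mul, ← map_mul, ← map_mul]
      exact congrArg π (Subtype.ext F.rels.2.2.2.2.2.2.2.2.2.2.2)
    · exact au.trans (h.conj_KA F.u_KA (hκ _).1 (Perm.isConj_iff_cycleType_eq.2 (by rw [e, (hκ _).2, type_d12])))
    · exact absurd (.inl (au.trans (h.conj_KA F.u_KA F.z_KA
        (Perm.isConj_iff_cycleType_eq.2 (by rw [e, hz, type_d123])))).symm) F.not_a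
  have cm : ∀ p, (κ p : G) * F.a = F.a * κ p := fun p => F.mem_CA.1 (F.KA_le (hκ p).1)
  have c1 : IsConj F.a (κ d1 : G) := by
    have kc : ∀ {p q : alternatingGroup (Fin 9)}, p * q = q * p → (κ p : G) * κ q = κ q * κ p := fun e =>
      congrArg Subtype.val (by rw [← map_mul, ← map_mul, e] : κ _ * κ _ = κ _ * κ _)
    have nz : ¬ ZE F.z (κ d1 : G) := fun e => by
      let p : alternatingGroup (Fin 9) := ⟨swap 3 4 * swap 5 6, Perm.mem_alternatingGroup.2 (by decide +kernel)⟩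
      let q : alternatingGroup (Fin 9) := ⟨swap 3 5 * swap 4 6, Perm.mem_alternatingGroup.2 (by decide +kernel)⟩
      have sq : ∀ {r : alternatingGroup (Fin 9)}, r * r = 1 → (κ r : G) * κ r = 1 := fun e =>
        congrArg Subtype.val (by rw [← map_mul, e, map_one] : κ _ * κ _ = 1)
      rcases (F.cz.of_ze e).noFour (κ p) (κ q) (sq (by decide +kernel)) (sq (by decide +kernel)) (kc (by decide +kernel))
        (kc (by decide +kernel)) (kc (by decide +kernel)) with e | e | e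
      · exact absurd (inj (e.trans (map_one (F.NA.subtype.comp κ)).symm)) (by decide +kernel)
      · exact absurd (inj (e.trans (map_one (F.NA.subtype.comp κ)).symm)) (by decide +kernel)
      · exact absurd (inj e) (by decide +kernel)
    have e1 : ZE F.z ((κ d1 : G) * F.z) := .inl (h.conj_KA F.z_KA (mul_mem (hκ d1).1 F.z_KA)
      (isConj_iff.2 ⟨swap 0 1, by rw [map_mul, (hκ _).2, hz]; decide +kernel⟩))
    have e2 : ZE F.a ((κ d1 : G) * F.z⁻¹) := .inl (c2.trans (h.conj_KA (hκ _).1 (mul_mem (hκ d1).1 (inv_mem F.z_KA))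
      (isConj_iff.2 ⟨swap 0 6 * swap 1 8 * swap 2 7 * swap 4 5, by
        rw [(hκ _).2, map_mul, map_inv, (hκ _).2, hz]; decide +kernel⟩)))
    have jz : (κ d1 : G) * F.z = F.z * κ d1 := by
      have := kc (p := d1) (q := d1 * d2 * d3) (by decide +kernel)
      rwa [kz] at this
    have jZ : (κ d1 : G) ∉ zpowers F.z := fun e => by
      rcases T16.mem_zpowers_three F.cz.es.z_pow e with e | e | e
      · exact absurd (inj (e.trans (map_one (F.NA.subtype.comp κ)).symm)) (by decide +kernel)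
      · exact nz (.inl (e ▸ IsConj.refl _))
      · exact nz (.inr (e ▸ IsConj.refl _))
    rcases F.tri' (F.cen_za jz (cm _)) jZ with e | e | e
    · exact absurd (ZE.trans' e1 (ZE.symm' e)) nz
    · exact (ZE.trans' e2 (ZE.symm' e)).elim id aa.trans
    · exact absurd (ZE.trans' (ZE.trans' e1 e) (ZE.symm' e2)) F.not_a
  refine ⟨⟨F.a, d, F.NA.subtype.comp κ, inj, F.ord_a, cm, fun g hg => ?_, ?_, da, fun p => ?_, c1, c2, ?_⟩⟩
  · let x : F.NA := ⟨g, F.mem_NA.2 (.inl hg)⟩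
    let p : alternatingGroup (Fin 9) := ⟨π x, h.even_iff.2 (F.mem_CA.2 hg)⟩
    have h1 : ((x * (κ p)⁻¹ : F.NA) : G) ∈ zpowers F.a :=
      (h.ker _).1 (by rw [map_mul, map_inv, (hκ p).2, mul_inv_cancel])
    obtain ⟨k, e⟩ := mem_powers_iff_mem_zpowers.2 h1
    exact ⟨k, p, mul_inv_eq_iff_eq_mul.1 (Eq.symm e)⟩
  · have h1 : ((d * d : F.NA) : G) ∈ zpowers F.a := (h.ker _).1 (by rw [map_mul, hd, swap_mul_self])
    have h2 : (d : G) * (d * d) * (d : G)⁻¹ = d * d := by group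
    rcases T16.mem_zpowers_three F.a3 h1 with e | e | e <;> change (d : G) * d = _ at e
    · exact e
    · rw [e, da] at h2; exact absurd h2.symm F.fa.2.2.2.2.2.2.2.1
    · rw [e, ← conj_inv, da, inv_inv] at h2; exact absurd h2 F.fa.2.2.2.2.2.2.2.1
  · exact congrArg Subtype.val (h.ext_KA (Normal.conj_mem inferInstance _ (hκ p).1 d) (hκ _).1 (by
      rw [map_mul, map_mul, map_inv, hd, (hκ _).2, (hκ _).2, MulAut.conjNormal_apply]))
  · change NoFour ((κ (d1 * d2 * d3) : F.NA) : G)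
    rw [kz]
    exact F.cz.noFour

end Cfsg.Agent.H3
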