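import Mathlib
import Cfsg.Agent.H3.Defs
import Cfsg.Agent.H3.PK

/-! Permutations of twelve points preserving the first four points. -/

set_option autoImplicit false

namespace Cfsg.Agent.H3.TopE

open Subgroup Equiv

/-- `S₄ × S₈` in `S₁₂`. -/
def EP : Perm (Fin 4) × Perm (Fin 8) →* Perm (Fin 12) :=
  (finSumFinEquiv (m := 4) (n := 8)).permCongrHom.toMonoidHom.comp (Perm.sumCongrHom (Fin 4) (Fin 8))

theorem EP_inj : Function.Injective EP :=
  (finSumFinEquiv (m := 4) (n := 8)).permCongrHom.injective.comp Perm.sumCongrHom_injective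

theorem EP_mul (a b : Perm (Fin 4)) (p q : Perm (Fin 8)) : EP (a, p) * EP (b, q) = EP (a * b, p * q) :=
  (map_mul EP _ _).symm

theorem EP_eq {a b : Perm (Fin 4)} {p q : Perm (Fin 8)} : EP (a, p) = EP (b, q) ↔ a = b ∧ p = q :=
  EP_inj.eq_iff.trans Prod.mk_inj

theorem EP_one : EP (1, 1) = 1 := map_one EP

theorem EP_apply (a : Perm (Fin 4)) (p : Perm (Fin 8)) (x : Fin 4 ⊕ Fin 8) :
    EP (a, p) (finSumFinEquiv x) = finSumFinEquiv (Perm.sumCongr a p x) := by
  change finSumFinEquiv (m := 4) (n := 8) (Perm.sumCongr a p (finSumFinEquiv.symm (finSumFinEquiv x))) = _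
  rw [symm_apply_apply]

theorem sign_EP (a : Perm (Fin 4)) (p : Perm (Fin 8)) :
    Perm.sign (EP (a, p)) = Perm.sign a * Perm.sign p :=
  (Perm.sign_permCongr (finSumFinEquiv (m := 4) (n := 8)) _).trans (Perm.sign_sumCongr a p)

theorem card_supp {α : Type*} [Fintype α] [DecidableEq α] (σ : Perm α) :
    σ.support.card = ∑ i, if σ i = i then 0 else 1 := by
  rw [Perm.support, Finset.card_filter]
  exact Finset.sum_congr rfl fun i _ => by by_cases h : σ i = i <;> simp [h]

theorem supp_EP (a : Perm (Fin 4)) (p : Perm (Fin 8)) :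
    (EP (a, p)).support.card = a.support.card + p.support.card := by
  rw [card_supp, card_supp, card_supp, ← Equiv.sum_comp (finSumFinEquiv (m := 4) (n := 8)),
    Fintype.sum_sum_type]
  simp only [EP_apply, EmbeddingLike.apply_eq_iff_eq, Perm.sumCongr_apply, Sum.map_inl, Sum.map_inr,
    Sum.inl.injEq, Sum.inr.injEq]

/-- `(0 1)(2 3)`. -/
def u4 : Perm (Fin 4) := swap 0 1 * swap 2 3
/-- `(0 2)(1 3)`. -/
def s4 : Perm (Fin 4) := swap 0 2 * swap 1 3
/-- `(0 2 1 3)`. -/
def ep : Perm (Fin 4) := swap 0 3 * swap 0 1 * swap 0 2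

theorem uu_eq : (uu : Perm (Fin 12)) = EP (u4, 1) := by decide +kernel
theorem ss_eq : (ss : Perm (Fin 12)) = EP (s4, 1) := by decide +kernel
theorem rr_eq : (rr : Perm (Fin 12)) = EP (swap 0 1, swap 0 1) := by decide +kernel
theorem nn_eq : (nn : Perm (Fin 12)) = EP (u4, swap 0 1 * swap 2 3) := by decide +kernel
theorem cc_eq : (cc : Perm (Fin 12)) = EP (1, swap 5 7 * swap 5 6) := by decide +kernel

theorem exists_EP {y : Perm (Fin 12)} (h : y * uu = uu * y) :
    ∃ a p, y = EP (a, p) ∧ a * u4 = u4 * a := by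
  have k1 : ∀ x : Fin 12, (uu : Perm (Fin 12)) x ≠ x ↔
      ∃ a : Fin 4, Sum.inl a = (finSumFinEquiv (m := 4) (n := 8)).symm x := by decide +kernel
  obtain ⟨⟨a, p⟩, e⟩ := Perm.mem_sumCongrHom_range_of_perm_mapsTo_inl
    (σ := (finSumFinEquiv (m := 4) (n := 8)).symm.permCongr y) (by
      rintro _ ⟨a, rfl⟩
      refine (k1 _).1 fun e => (k1 (finSumFinEquiv (m := 4) (n := 8) (Sum.inl a))).2
        ⟨a, (symm_apply_apply _ _).symm⟩ (y.injective ?_)
      rw [← Perm.mul_apply, h, Perm.mul_apply]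
      exact e)
  have e1 : y = EP (a, p) := by
    change y = (finSumFinEquiv (m := 4) (n := 8)).permCongr (Perm.sumCongrHom _ _ (a, p))
    rw [e]
    ext x; simp
  refine ⟨a, p, e1, ?_⟩
  rw [e1, uu_eq, EP_mul, EP_mul, EP_eq] at h
  exact h.1

theorem invol_type {α : Type*} [Fintype α] [DecidableEq α] {p : Perm α} (h : p * p = 1) :
    ∃ k, p.cycleType = Multiset.replicate k 2 ∧ p.support.card = 2 * k ∧ Perm.sign p = (-1) ^ k := by
  have e := Perm.cycleType_of_pow_prime_eq_one (p := 2) ((pow_two p).trans h)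
  refine ⟨_, e, ?_, ?_⟩
  · rw [← Perm.sum_cycleType]
    nth_rw 1 [e]
    rw [Multiset.sum_replicate, smul_eq_mul, mul_comm]
  · rw [Perm.sign_of_cycleType, pow_add]
    nth_rw 1 [e]
    rw [Multiset.sum_replicate, smul_eq_mul, mul_comm, pow_mul]
    simp

theorem type_of_card {α : Type*} [Fintype α] [DecidableEq α] {p : Perm α} (h : p * p = 1) {k : ℕ}
    (hk : p.support.card = 2 * k) : p.cycleType = Multiset.replicate k 2 := by
  obtain ⟨m, e, e', -⟩ := invol_type h
  rwa [show k = m by omega]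

theorem invol8 {p : Perm (Fin 8)} (h : p * p = 1) :
    (Perm.sign p = 1 ∧ (p = 1 ∨ p.support.card = 4 ∨ p.support.card = 8)) ∨
      (Perm.sign p = -1 ∧ (p.support.card = 2 ∨ p.support.card = 6)) := by
  obtain ⟨k, -, e, e'⟩ := invol_type h
  have : p.support.card ≤ 8 := (Finset.card_le_univ _).trans (by simp)
  have hk : k ≤ 4 := by omega
  interval_cases k
  · exact .inl ⟨e', .inl (Perm.support_eq_empty_iff.1 (Finset.card_eq_zero.1 e))⟩
  · exact .inr ⟨e', .inl e⟩
  · exact .inl ⟨e', .inr (.inl e)⟩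
  · exact .inr ⟨e', .inr e⟩
  · exact .inl ⟨e', .inr (.inr e)⟩

/-- The first component of the lift of a permutation of the last eight points. -/
def fc (p : Perm (Fin 8)) : Perm (Fin 4) := if Perm.sign p = 1 then 1 else ep

theorem fc_cases (p : Perm (Fin 8)) :
    (Perm.sign p = 1 ∧ fc p = 1) ∨ (Perm.sign p = -1 ∧ fc p = ep) := by
  rcases Int.units_eq_one_or (Perm.sign p) with h | h
  · exact .inl ⟨h, if_pos h⟩
  · exact .inr ⟨h, if_neg (by rw [h]; decide)⟩

/-- The lift of a permutation of the last eight points. -/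
def L (p : Perm (Fin 8)) : alternatingGroup (Fin 12) :=
  ⟨EP (fc p, p), Perm.mem_alternatingGroup.2 (by
    rw [sign_EP]
    rcases fc_cases p with ⟨h, e⟩ | ⟨h, e⟩ <;> rw [h, e] <;> decide)⟩

theorem coe_L (p : Perm (Fin 8)) : (L p : Perm (Fin 12)) = EP (fc p, p) := rfl

theorem L_uu (p : Perm (Fin 8)) : L p * uu = uu * L p := Subtype.ext (by
  rw [coe_mul, coe_mul, coe_L, uu_eq, EP_mul, EP_mul, EP_eq]
  rcases fc_cases p with ⟨-, e⟩ | ⟨-, e⟩ <;> rw [e] <;> exact ⟨by decide, by simp⟩)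

theorem L_mul (p q : Perm (Fin 8)) : L (p * q) = L p * L q ∨ L (p * q) = L p * L q * uu := by
  simp only [Subtype.ext_iff, coe_mul, coe_L, uu_eq, EP_mul, EP_eq, mul_one, and_true]
  have := fc_cases (p * q)
  rw [map_mul] at this
  rcases fc_cases p with ⟨h, e⟩ | ⟨h, e⟩ <;> rcases fc_cases q with ⟨h', e'⟩ | ⟨h', e'⟩ <;>
    rw [h, h'] at this <;> rcases this with ⟨h1, e1⟩ | ⟨h1, e1⟩ <;> rw [e, e', e1] <;>
    first | exact absurd h1 (by decide) | decide

theorem L_ss (p : Perm (Fin 8)) : L p * ss = ss * L p ∨ L p * ss = ss * L p * uu := by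
  simp only [Subtype.ext_iff, coe_mul, coe_L, uu_eq, ss_eq, EP_mul, EP_eq, mul_one, one_mul, and_true]
  rcases fc_cases p with ⟨-, e⟩ | ⟨-, e⟩ <;> rw [e] <;> decide

theorem L_eq_one {p : Perm (Fin 8)} (h : L p = 1 ∨ L p = 1 * uu) : p = 1 := by
  simp only [Subtype.ext_iff, coe_L, uu_eq, one_mul, coe_one, ← EP_one, EP_eq] at h
  exact h.elim And.right And.right

theorem L_ne_ss {p : Perm (Fin 8)} (h : L p = ss ∨ L p = ss * uu) : False := by
  simp only [Subtype.ext_iff, coe_mul, coe_L, uu_eq, ss_eq, EP_mul, EP_eq] at h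
  rcases fc_cases p with ⟨-, e⟩ | ⟨-, e⟩ <;> rw [e] at h <;>
    exact h.elim (fun h => absurd h.1 (by decide)) fun h => absurd h.1 (by decide)

/-- The centraliser of the four-group. -/
theorem cent_V4 {y : alternatingGroup (Fin 12)} (h : y * uu = uu * y) (h' : y * ss = ss * y) :
    ∃ p, (y = L p ∨ y = L p * uu) ∨ (ss * y = L p ∨ ss * y = L p * uu) := by
  obtain ⟨a, p, e, ea⟩ := exists_EP (congrArg Subtype.val h)
  have hs := Perm.mem_alternatingGroup.1 y.2
  have h1 := congrArg Subtype.val h'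
  rw [coe_mul, coe_mul, e, ss_eq, EP_mul, EP_mul, EP_eq] at h1
  rw [e, sign_EP] at hs
  have k : ∀ a : Perm (Fin 4), a * u4 = u4 * a → a * s4 = s4 * a → Perm.sign a = 1 ∧
      ((a = 1 ∨ a = 1 * u4) ∨ (s4 * a = 1 ∨ s4 * a = 1 * u4)) := by decide +kernel
  obtain ⟨k1, k2⟩ := k a ea h1.1
  rw [k1, one_mul] at hs
  refine ⟨p, ?_⟩
  simp only [Subtype.ext_iff, coe_mul, coe_L, uu_eq, ss_eq, e, EP_mul, EP_eq, mul_one, one_mul,
    and_true, fc, if_pos hs]
  simpa only [one_mul] using k2

theorem norm_V4 {y : alternatingGroup (Fin 12)} (h : y * uu = uu * y) :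
    y * ss = ss * y ∨ y * ss = ss * y * uu := by
  obtain ⟨a, p, e, ea⟩ := exists_EP (congrArg Subtype.val h)
  simp only [Subtype.ext_iff, coe_mul, uu_eq, ss_eq, e, EP_mul, EP_eq, mul_one, one_mul, and_true]
  revert a
  suffices ∀ a : Perm (Fin 4), a * u4 = u4 * a → a * s4 = s4 * a ∨ a * s4 = s4 * a * u4 from
    fun a _ => this a
  decide +kernel

/-- A non-trivial element of square one which does not move eight points. -/
def Gd (y : alternatingGroup (Fin 12)) : Prop :=
  y * y = 1 ∧ y ≠ 1 ∧ (y : Perm (Fin 12)).support.card ≠ 8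

theorem not_gd_L {p : Perm (Fin 8)} (h : Gd (L p)) (h' : Gd (L p * uu)) : False := by
  simp only [Gd, ne_eq, Subtype.ext_iff, coe_mul, coe_L, uu_eq, coe_one, ← EP_one, EP_mul, EP_eq,
    supp_EP, mul_one] at h h'
  obtain ⟨⟨h1, h2⟩, h3, h4⟩ := h
  have h5 := h'.2.2
  rcases fc_cases p with ⟨s, e⟩ | ⟨-, e⟩ <;> rw [e] at h1 h3 h4 h5
  · rw [show (1 : Perm (Fin 4)).support.card = 0 by decide] at h4
    rw [show (1 * u4 : Perm (Fin 4)).support.card = 4 by decide] at h5
    rcases invol8 h2 with ⟨-, k | k | k⟩ | ⟨k, -⟩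
    · exact h3 ⟨rfl, k⟩
    · omega
    · omega
    · exact absurd (s.symm.trans k) (by decide)
  · exact absurd h1 (by decide)

theorem gd_ss_L {p : Perm (Fin 8)} (h : Gd (ss * L p)) :
    p = 1 ∨ p.IsSwap ∨ p.cycleType = {2, 2, 2, 2} := by
  simp only [Gd, ne_eq, Subtype.ext_iff, coe_mul, coe_L, ss_eq, coe_one, ← EP_one, EP_mul, EP_eq,
    supp_EP, one_mul] at h
  obtain ⟨⟨-, h2⟩, -, h4⟩ := h
  rcases fc_cases p with ⟨s, e⟩ | ⟨s, e⟩ <;> rw [e] at h4
  · rw [show (s4 * 1 : Perm (Fin 4)).support.card = 4 by decide] at h4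
    rcases invol8 h2 with ⟨-, k | k | k⟩ | ⟨k, -⟩
    · exact .inl k
    · omega
    · exact .inr (.inr (type_of_card h2 (k := 4) k))
    · exact absurd (s.symm.trans k) (by decide)
  · rw [show (s4 * ep : Perm (Fin 4)).support.card = 2 by decide] at h4
    rcases invol8 h2 with ⟨k, -⟩ | ⟨-, k | k⟩
    · exact absurd (s.symm.trans k) (by decide)
    · exact .inr (.inl (Perm.card_support_eq_two.1 k))
    · omega

theorem not_gd_theta {y : alternatingGroup (Fin 12)} (h : Gd y) (h' : Gd (y * uu))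
    (cu : y * uu = uu * y) (cc' : y * cc = cc * y)
    (hr : y * rr = rr * nn * y ∨ y * rr = rr * nn * uu * y) : False := by
  obtain ⟨a, p, e, ea⟩ := exists_EP (congrArg Subtype.val cu)
  have hs := Perm.mem_alternatingGroup.1 y.2
  simp only [Gd, ne_eq, Subtype.ext_iff, coe_mul, uu_eq, rr_eq, nn_eq, cc_eq, e, coe_one, ← EP_one,
    EP_mul, EP_eq, supp_EP, mul_one, sign_EP] at h h' cc' hr hs
  obtain ⟨⟨a2, p2⟩, -, h4⟩ := h
  have h5 := h'.2.2
  have hp : p * swap 0 1 = swap 2 3 * p := by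
    rcases hr with hr | hr <;> simpa using hr.2
  have f := fun x => PK.fix_of_sq (p := swap (5 : Fin 8) 7 * swap 5 6) (x := x)
    (card_support_eq_three_iff.1 (by decide)) p2 cc'.2
  have n0 : p 0 = 2 ∨ p 0 = 3 := by
    have := congrArg (· 0) hp
    simp only [Perm.mul_apply, swap_apply_left] at this
    by_contra hn
    rw [not_or] at hn
    rw [swap_apply_of_ne_of_ne hn.1 hn.2] at this
    exact absurd (p.injective this) (by decide)
  have n1 : p 1 = 2 ∨ p 1 = 3 := by
    have := congrArg (· 0) hp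
    simp only [Perm.mul_apply, swap_apply_left] at this
    rcases n0 with n0 | n0 <;> rw [this, n0] <;> decide
  have c4 : p.support.card = 4 ∧ Perm.sign p = 1 := by
    have u5 : p.support.card ≤ 5 := by
      refine (Finset.card_le_card (t := {0, 1, 2, 3, 4}) fun x hx => ?_).trans (by decide)
      rw [Perm.mem_support] at hx
      by_contra hn
      refine hx (f x ?_)
      revert hn
      clear hx
      revert x
      decide
    have l3 : 3 ≤ p.support.card := by
      refine le_trans (by decide) (Finset.card_le_card (s := {0, 1, 2}) fun x hx => ?_)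
      rw [Perm.mem_support]
      simp only [Finset.mem_insert, Finset.mem_singleton] at hx
      rcases hx with rfl | rfl | rfl
      · rcases n0 with n0 | n0 <;> rw [n0] <;> decide
      · rcases n1 with n1 | n1 <;> rw [n1] <;> decide
      · intro e2
        rcases n0 with n0 | n0
        · exact absurd (p.injective (n0.trans e2.symm)) (by decide)
        · rcases n1 with n1 | n1
          · exact absurd (p.injective (n1.trans e2.symm)) (by decide)
          · exact absurd (p.injective (n1.trans n0.symm)) (by decide)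
    rcases invol8 p2 with ⟨k0, k | k | k⟩ | ⟨-, k | k⟩
    · rw [k] at l3; exact absurd l3 (by decide)
    · exact ⟨k, k0⟩
    all_goals omega
  rw [c4.2, mul_one] at hs
  rw [c4.1] at h4 h5
  have k : ∀ a : Perm (Fin 4), a * a = 1 → Perm.sign a = 1 →
      a.support.card = 4 ∨ (a * u4).support.card = 4 := by decide +kernel
  rcases k a a2 hs with k | k <;> omega

end Cfsg.Agent.H3.TopE
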