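import Mathlib
import Cfsg.Agent.H3.Defs
import Cfsg.Agent.H3.A12
import Cfsg.Agent.GT.PGroupChain

/-! The twisted copy of `A₁₂` and the two classes of involutions (PLAN section E1). -/

set_option autoImplicit false

namespace Cfsg.Agent.H3

open Cfsg.Agent.Rec Cfsg.Agent.Inv.Fz Cfsg.Agent.T3 Subgroup Equiv
open scoped commutatorElement
open Cfsg.Agent.Sym PK DA
open Cfsg.Agent.AP (via_swap via_mul via_via via_inj via_mem_alt)

universe u

variable {G : Type u} [Group G]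

namespace E1

def e6 : Fin 6 ↪ Fin 12 := ⟨![0, 1, 2, 3, 10, 11], by decide⟩
def u6 : A 6 := ⟨swap 0 1 * swap 2 3, Perm.mem_alternatingGroup.2 (by decide +kernel)⟩
def s6 : A 6 := ⟨swap 0 2 * swap 1 3, Perm.mem_alternatingGroup.2 (by decide +kernel)⟩
def r6 : A 6 := ⟨swap 0 1 * swap 4 5, Perm.mem_alternatingGroup.2 (by decide +kernel)⟩
def w6 : A 6 := ⟨cyc3 1 2 3, Perm.mem_alternatingGroup.2 (by decide +kernel)⟩
def w12 : A 12 := ⟨cyc3 1 2 3, Perm.mem_alternatingGroup.2 (by decide +kernel)⟩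
def t0 : A 12 := ⟨swap 0 3 * swap 1 4 * swap 2 5 * swap 9 10, Perm.mem_alternatingGroup.2 (by decide +kernel)⟩
def be : A 12 := ⟨cyc3 0 1 2 * cyc3 3 4 5 * cyc3 6 7 8, Perm.mem_alternatingGroup.2 (by decide +kernel)⟩

theorem exists_alt {m n : ℕ} (e : Fin m ↪ Fin n) (p : A n) (h : ∀ b, b ∉ Set.range e → (p : Perm (Fin n)) b = b) :
    ∃ q : A m, altEmb e q = p := by
  obtain ⟨q, hq⟩ := AP.TFC.exists_via e h
  exact ⟨⟨q, (via_mem_alt e).1 (hq ▸ p.2)⟩, Subtype.ext hq⟩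

theorem disj_via {m n : ℕ} (e : Fin m ↪ Fin n) (q : Perm (Fin m)) {p : Perm (Fin n)} (h : ∀ i, p (e i) = e i) :
    p.Disjoint (q.viaEmbedding e) := fun x => by
  by_cases k : x ∈ Set.range e
  · obtain ⟨i, rfl⟩ := k
    exact Or.inl (h i)
  · exact Or.inr (Perm.viaEmbedding_apply_of_notMem _ _ _ k)

theorem even_fix {n : ℕ} (h : Perm (Fin (n + 2))) : ∃ k : A (n + 2), (k : Perm _) = h ∨ (k : Perm _) = h * swap 0 1 := by
  by_cases e : h ∈ alternatingGroup _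
  · exact ⟨⟨h, e⟩, Or.inl rfl⟩
  · exact ⟨⟨h * swap 0 1, by
      rw [Perm.mem_alternatingGroup, map_mul, sign_eq_neg_one_of_not_mem e, Perm.sign_swap zero_ne_one]; rfl⟩, Or.inr rfl⟩

theorem mem_pair {H : Type*} [Group H] {a b w : H} (ab : Commute a b) (a3 : a ^ 3 = 1) (b3 : b ^ 3 = 1)
    (hw : w ∈ closure ({a, b} : Set H)) : ∃ i j : Fin 3, w = a ^ (i : ℕ) * b ^ (j : ℕ) := by
  have key : ∃ i j : ℕ, w = a ^ i * b ^ j := by
    induction hw using closure_induction with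
    | mem x hx => rcases hx with rfl | rfl; exacts [⟨1, 0, by simp⟩, ⟨0, 1, by simp⟩]
    | one => exact ⟨0, 0, by simp⟩
    | mul x y _ _ h1 h2 =>
      obtain ⟨i, j, rfl⟩ := h1
      obtain ⟨k, l, rfl⟩ := h2
      exact ⟨i + k, j + l, by rw [pow_add, pow_add, (ab.symm.pow_pow j k).mul_mul_mul_comm]⟩
    | inv x _ h =>
      obtain ⟨i, j, rfl⟩ := h
      refine ⟨2 * i, 2 * j, inv_eq_of_mul_eq_one_right ?_⟩
      rw [(ab.symm.pow_pow j _).mul_mul_mul_comm, ← pow_add, ← pow_add, show i + 2 * i = 3 * i by ring,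
        show j + 2 * j = 3 * j by ring, pow_mul, pow_mul, a3, b3, one_pow, one_pow, mul_one]
  obtain ⟨i, j, rfl⟩ := key
  exact ⟨⟨i % 3, Nat.mod_lt _ (by decide)⟩, ⟨j % 3, Nat.mod_lt _ (by decide)⟩, by
    rw [pow_eq_pow_mod i a3, pow_eq_pow_mod j b3]⟩

variable (X : A12 G)

/-- The conjugate configuration. -/
def cjX (g : G) : A12 G where
  Φ := cjh g X.Φ
  inj := (MulAut.conj g).injective.comp X.inj
  norm c hc x hx := by
    obtain ⟨p, e⟩ := X.norm c hc (g⁻¹ * x * g) (hx.imp (fun k => by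
      calc _ = g⁻¹ * (x * cjh g X.Φ c * x⁻¹) * g := by rw [cjh_apply]; group
        _ = _ := by rw [k, cjh_apply]; group) fun k => by
      calc _ = g⁻¹ * (x * cjh g X.Φ c * x⁻¹) * g := by rw [cjh_apply]; group
        _ = _ := by rw [k, cjh_apply]; group)
    exact ⟨p, by rw [cjh_apply, e]; group⟩
  fuse c y hc hy := (MulAut.conj g).toMonoidHom.map_isConj (X.fuse c y hc hy)
  nfuse c y hc hy k := X.nfuse c y hc hy ((isConj_iff.2 ⟨g, rfl⟩).trans (k.trans (isConj_iff.2 ⟨g, rfl⟩).symm))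

theorem lbX : Lb (X.Φ cc) (X.Φ.comp (altEmb E4)) where
  inj := X.inj.comp (altEmb_injective E4)
  ord := (orderOf_injective X.Φ X.inj cc).trans (orderOf_eq_prime (by decide +kernel) (by decide +kernel))
  comm p := by rw [MonoidHom.comp_apply, ← map_mul, emb_comm E4 (by decide +kernel), map_mul]
  cen g hg := by
    obtain ⟨p, rfl⟩ := X.norm cc (by rw [Perm.IsThreeCycle]; decide +kernel) g (Or.inl (mul_inv_eq_iff_eq_mul.2 hg))
    have e : (cc : Perm (Fin 12)) = cyc3 9 10 11 := by decide +kernel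
    obtain ⟨k, h1, h2, h3⟩ := split3 (g := (p : Perm (Fin 12))) (a := 9) (b := 10) (c := 11) (by decide) (by decide)
      (by decide) (e ▸ congrArg Subtype.val (X.inj (a₁ := p * cc) (a₂ := cc * p) (by rw [map_mul, map_mul, hg])))
    obtain ⟨q, hq⟩ := exists_alt E4 (cc ^ k * p) fun b hb => by
      rw [coe_mul, coe_pow, e]
      rcases (by decide : ∀ b, b ∉ Set.range E4 → b = 9 ∨ b = 10 ∨ b = 11) b hb with rfl | rfl | rfl <;> assumption
    refine ⟨2 * k, q, ?_⟩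
    rw [MonoidHom.comp_apply, hq, ← map_pow, ← map_mul, ← mul_assoc, ← pow_add, show 2 * k + k = 3 * k by ring, pow_mul,
      show cc ^ 3 = 1 by decide +kernel, one_pow, one_mul]

theorem tw0 : ∃ (g : G) (τ : A 9), g * X.Φ cc * g⁻¹ = X.Φ (z1 * z2) ∧ g * X.Φ dd * g⁻¹ = X.Φ (z1 * z2⁻¹) ∧
    g * X.Φ (altEmb E4 τ) * g⁻¹ = X.Φ vv ∧
    ((τ : Perm (Fin 9)) 6 = 7 ∧ (τ : Perm (Fin 9)) 7 = 6 ∧ (τ : Perm (Fin 9)) 8 = 8) ∧
    ∀ w : A 6, ∃ q : A 6, g * X.Φ (altEmb E4 (altEmb ι q)) * g⁻¹ = X.Φ (altEmb e6 w) := by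
  obtain ⟨g, hg⟩ := isConj_iff.1 (X.fuse cc (z1 * z2) (by rw [Perm.IsThreeCycle]; decide +kernel) (by decide +kernel))
  have L := (lbX X).cj g
  rw [hg] at L
  have m : ∀ p q : A 12, p * q = q * p → X.Φ p * X.Φ q = X.Φ q * X.Φ p := fun p q e => by rw [← map_mul, e, map_mul]
  obtain ⟨φ, τ, p, x, y, z, hφ, hτ, hp, hxy, hxz, hyz, ep, ⟨t1, t2, t3⟩, hf⟩ :=
    L.main (f := X.Φ.comp (altEmb e6)) (a := X.Φ (z1 * z2⁻¹)) (d := X.Φ vv) (X.inj.comp (altEmb_injective e6))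
      (fun w => m _ _ (emb_comm e6 (by decide +kernel) w))
      ((orderOf_injective X.Φ X.inj _).trans (orderOf_eq_prime (by decide +kernel) (by decide +kernel)))
      (m _ _ (by decide +kernel)) (fun w => m _ _ (emb_comm e6 (by decide +kernel) w))
      (by rw [← map_mul, show vv * vv = 1 by decide +kernel, map_one]) (m _ _ (by decide +kernel))
      (by rw [← map_inv, ← map_inv, ← map_mul, ← map_mul]; exact congrArg _ (by decide +kernel))
  obtain ⟨h0, hh⟩ := Perm.exists_extending_pair (f := (![6, 7, 8] : Fin 3 → Fin 9)) (g := ![x, y, z]) (by decide) (by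
    intro i j
    fin_cases i <;> fin_cases j <;> simp [hxy, hxz, hyz, hxy.symm, hxz.symm, hyz.symm])
  obtain ⟨h, g6, g7, g8⟩ : ∃ h : A 9, (h : Perm (Fin 9)) 6 = x ∧ (h : Perm (Fin 9)) 7 = y ∧ (h : Perm (Fin 9)) 8 = z := by
    obtain ⟨h, e | e⟩ := even_fix (n := 7) h0 <;> exact ⟨h, e ▸ hh 0, e ▸ hh 1, e ▸ hh 2⟩
  have key : ∀ q : A 9, g * X.Φ (altEmb E4 h) * X.Φ (altEmb E4 (h⁻¹ * q * h)) * (g * X.Φ (altEmb E4 h))⁻¹ =
      cjh g (X.Φ.comp (altEmb E4)) q := fun q => by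
    simp only [cjh_apply, MonoidHom.comp_apply, map_mul, map_inv]
    group
  have ev : ∀ (q : A 9) (a b : Fin 9), (q : Perm (Fin 9)) ((h : Perm (Fin 9)) a) = (h : Perm (Fin 9)) b →
      ((h⁻¹ * q * h : A 9) : Perm (Fin 9)) a = b := fun q a b e => by
    rw [coe_mul, coe_mul, coe_inv, Perm.mul_apply, Perm.mul_apply, e, Perm.inv_eq_iff_eq]
  refine ⟨g * X.Φ (altEmb E4 h), h⁻¹ * τ * h, ?_, ?_, (key τ).trans hτ,
    ⟨ev _ _ _ (by rw [g6, g7, t1]), ev _ _ _ (by rw [g6, g7, t2]), ev _ _ _ (by rw [g8, t3])⟩, fun w => ?_⟩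
  · rw [← hg, mul_assoc g, m _ _ (emb_comm E4 (by decide +kernel) h)]
    group
  · rw [← hp, ← key p, show h⁻¹ * p * h = d3 from Subtype.ext (by
      rw [coe_mul, coe_mul, coe_inv, ep, ← g6, ← g7, ← g8, ← conj_cyc3, coe_d3]; group),
      show altEmb E4 d3 = dd from Subtype.ext (by rw [coe_altEmb, coe_d3, via_cyc3]; decide +kernel)]
  · obtain ⟨q, hq⟩ := exists_alt ι (h⁻¹ * φ w * h) fun b hb => by
      rcases (by decide : ∀ b, b ∉ Set.range ι → b = 6 ∨ b = 7 ∨ b = 8) b hb with rfl | rfl | rfl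
      exacts [ev _ _ _ (g6 ▸ (hf w).1), ev _ _ _ (g7 ▸ (hf w).2.1), ev _ _ _ (g8 ▸ (hf w).2.2)]
    exact ⟨q, by rw [hq, key, hφ]; rfl⟩

theorem cen_step {c c' : A 12} (hc : (c : Perm (Fin 12)).cycleType = {3}) (hc' : (c' : Perm (Fin 12)).cycleType = {3})
    (hd : ∀ i j : Fin 3, ((c ^ (i : ℕ) * c' ^ (j : ℕ) : A 12) : Perm (Fin 12)).cycleType = {3} →
      (j = 0 ∧ c' ≠ c ^ (i : ℕ)) ∨ c ^ (i : ℕ) * c' ^ (j : ℕ) = c' ∨ c ^ (i : ℕ) * c' ^ (j : ℕ) = c'⁻¹)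
    {x : G} (hx : Commute x (X.Φ c)) {i j : Fin 3} (h : x * X.Φ c' * x⁻¹ = X.Φ c ^ (i : ℕ) * X.Φ c' ^ (j : ℕ)) {m : ℕ}
    (hm : x ^ 3 ^ m = 1) : Commute x (X.Φ c') := by
  obtain ⟨p, rfl⟩ := X.norm c hc x (Or.inl (mul_inv_eq_iff_eq_mul.2 hx))
  have h1 : p * c' * p⁻¹ = c ^ (i : ℕ) * c' ^ (j : ℕ) := X.inj (by simpa only [map_mul, map_inv, map_pow] using h)
  have h2 : Commute p c := X.inj (by simpa only [map_mul] using hx.eq)
  rcases hd i j (by rw [← h1, coe_mul, coe_mul, coe_inv, Perm.cycleType_conj, hc']) with ⟨rfl, e⟩ | e | e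
  · refine absurd ?_ e
    rw [Fin.val_zero, pow_zero, mul_one, mul_inv_eq_iff_eq_mul, ← (h2.pow_right i).eq] at h1
    exact mul_left_cancel h1
  · exact (show Commute p c' from mul_inv_eq_iff_eq_mul.1 (h1.trans e)).map X.Φ
  · have h3 : Commute (p * p) c' := mul_inv_eq_iff_eq_mul.1 (by
      calc _ = p * (p * c' * p⁻¹) * p⁻¹ := by group
        _ = p * c'⁻¹ * p⁻¹ := by rw [h1, e]
        _ = (p * c' * p⁻¹)⁻¹ := by group
        _ = _ := by rw [h1, e, inv_inv])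
    obtain ⟨k, hk⟩ := (show Odd 3 by decide).pow (n := m)
    have h4 := (h3.map X.Φ).pow_left (k + 1)
    rwa [map_mul, ← pow_two, ← pow_mul, show 2 * (k + 1) = 3 ^ m + 1 by omega, pow_succ, hm, one_mul] at h4

theorem mem_D {x : G} (h1 : Commute x (X.Φ z1)) (h2 : Commute x (X.Φ z2)) (hu : Commute x (X.Φ uu)) {m : ℕ}
    (hm : x ^ 3 ^ m = 1) : x ∈ closure ({X.Φ z1, X.Φ z2} : Set G) := by
  obtain ⟨p, rfl⟩ := X.norm z1 (by rw [Perm.IsThreeCycle]; decide +kernel) x (Or.inl (mul_inv_eq_iff_eq_mul.2 h1))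
  have c : ∀ {q : A 12}, Commute (X.Φ p) (X.Φ q) → Commute p q := fun k => X.inj (by simpa only [map_mul] using k.eq)
  have e1 : (z1 : Perm (Fin 12)) = cyc3 4 5 6 := by decide +kernel
  have e2 : (z2 : Perm (Fin 12)) = cyc3 7 8 9 := by decide +kernel
  have z12 : Commute z1 z2 := by rw [commute_iff_eq]; decide +kernel
  obtain ⟨k, a1, a2, a3⟩ := split3 (g := (p : Perm (Fin 12))) (a := 4) (b := 5) (c := 6) (by decide) (by decide)
    (by decide) (e1 ▸ congrArg Subtype.val (c h1).eq)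
  obtain ⟨l, b1, b2, b3⟩ := split3 (g := ((z1 ^ k * p : A 12) : Perm (Fin 12))) (a := 7) (b := 8) (c := 9) (by decide)
    (by decide) (by decide) (e2 ▸ congrArg Subtype.val ((z12.pow_left k).mul_left (c h2)).eq)
  obtain ⟨q, hq⟩ := exists_alt e6 (z2 ^ l * (z1 ^ k * p)) fun b hb => by
    rw [coe_mul, coe_pow, e2]
    have f : ∀ b, b = 4 ∨ b = 5 ∨ b = 6 → ((z1 ^ k * p : A 12) : Perm (Fin 12)) b = b →
        (cyc3 7 8 9 ^ l * ((z1 ^ k * p : A 12) : Perm (Fin 12)) : Perm (Fin 12)) b = b := fun b hb e => by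
      rw [Perm.mul_apply, e]
      exact Perm.pow_apply_eq_self_of_apply_eq_self (by rcases hb with rfl | rfl | rfl <;> decide +kernel) l
    rw [← e1] at a1 a2 a3
    rcases (by decide : ∀ b, b ∉ Set.range e6 → b = 4 ∨ b = 5 ∨ b = 6 ∨ b = 7 ∨ b = 8 ∨ b = 9) b hb with
      rfl | rfl | rfl | rfl | rfl | rfl
    exacts [f _ (by simp) a1, f _ (by simp) a2, f _ (by simp) a3, b1, b2, b3]
  have eu : altEmb e6 u6 = uu := Subtype.ext (by rw [coe_altEmb, u6, via_mul, via_swap, via_swap]; decide +kernel)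
  have c1 : Commute z1 uu := by rw [commute_iff_eq]; decide +kernel
  have c2 : Commute z2 uu := by rw [commute_iff_eq]; decide +kernel
  have h3 : q * u6 = u6 * q := altEmb_injective e6 (by
    rw [map_mul, map_mul, hq, eu]; exact ((c2.pow_left l).mul_left ((c1.pow_left k).mul_left (c hu))).eq)
  have h4 : (z2 ^ l * (z1 ^ k * p)) ^ 4 = 1 := by
    rw [← hq, ← map_pow, show q ^ 4 = 1 from Subtype.ext ((by decide +kernel : ∀ q : Perm (Fin 6),
      q * u6 = u6 * q → q ^ 4 = 1) q (congrArg Subtype.val h3)), map_one]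
  have h5 : (z2 ^ l * (z1 ^ k * p)) ^ 3 ^ (m + 1) = 1 := by
    have f : ∀ (z : A 12) (n : ℕ), z ^ 3 = 1 → (z ^ n) ^ 3 ^ (m + 1) = 1 := fun z n e => by
      rw [← pow_mul, pow_succ', mul_left_comm, pow_mul, e, one_pow]
    rw [(((z12.symm.pow_right k).mul_right (c h2).symm).pow_left l).mul_pow, ((c h1).symm.pow_left k).mul_pow,
      f _ _ (by decide +kernel), f _ _ (by decide +kernel), pow_succ, pow_mul,
      show p ^ 3 ^ m = 1 from X.inj (by rw [map_pow, hm, map_one]), one_pow, one_mul, one_mul]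
  have h6 := (pow_eq_one_iff_of_coprime ((show Nat.Coprime 4 3 by decide).pow_right _)).1 ⟨h4, h5⟩
  rw [← mul_assoc] at h6
  rw [eq_inv_of_mul_eq_one_right h6, map_inv, map_mul, map_pow, map_pow]
  exact inv_mem (mul_mem (pow_mem (subset_closure (by simp)) _) (pow_mem (subset_closure (by simp)) _))

theorem mem_D' {w : G} (hw : w ∈ closure ({X.Φ z1, X.Φ z2} : Set G)) :
    ∃ i j : Fin 3, w = X.Φ (z1 ^ (i : ℕ) * z2 ^ (j : ℕ)) := by
  simp only [map_mul, map_pow]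
  exact mem_pair (Commute.map (by rw [commute_iff_eq]; decide +kernel) X.Φ)
    (by rw [← map_pow, show z1 ^ 3 = 1 by decide +kernel, map_one])
    (by rw [← map_pow, show z2 ^ 3 = 1 by decide +kernel, map_one]) hw

theorem syl [Finite G] : IsSylIn 3 (closure {X.Φ z1, X.Φ z2}) (centralizer {X.Φ uu}) := by
  have m : ∀ p q : A 12, p * q = q * p → Commute (X.Φ p) (X.Φ q) := fun p q e => Commute.map e X.Φ
  have m1 : X.Φ z1 ∈ closure ({X.Φ z1, X.Φ z2} : Set G) := subset_closure (by simp)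
  have m2 : X.Φ z2 ∈ closure ({X.Φ z1, X.Φ z2} : Set G) := subset_closure (by simp)
  refine ⟨(closure_le _).2 ?_, fun w => ?_, fun Q hQ h1 h2 => ?_⟩
  · rintro _ (rfl | rfl) <;> exact mem_centralizer_singleton_iff.2 (m _ _ (by decide +kernel))
  · obtain ⟨i, j, e⟩ := mem_D' X w.2
    exact ⟨1, Subtype.ext (by
      rw [coe_pow, e, ← map_pow, (by decide +kernel : ∀ i j : Fin 3, (z1 ^ (i : ℕ) * z2 ^ (j : ℕ)) ^ 3 ^ 1 = 1), map_one,
        coe_one])⟩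
  by_contra hne
  obtain ⟨x, hx, hn⟩ := SetLike.exists_of_lt (lt_inf_normalizer hQ (lt_of_le_of_ne h2 (Ne.symm hne)))
  have : ((closure {X.Φ z1, X.Φ z2}).subgroupOf
      (Q ⊓ normalizer (closure ({X.Φ z1, X.Φ z2} : Set G) : Set G))).Normal :=
    normal_subgroupOf_of_le_normalizer inf_le_right
  obtain ⟨e, he, ec, e1, -⟩ := GT.PG.exists_mem_center_of_normal (hQ.to_le inf_le_left) ((closure {X.Φ z1, X.Φ z2}).subgroupOf
      (Q ⊓ normalizer (closure ({X.Φ z1, X.Φ z2} : Set G) : Set G))) fun k => by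
    have h3 : (⟨X.Φ z1, h2 m1, le_normalizer m1⟩ : ↥(Q ⊓ normalizer (closure ({X.Φ z1, X.Φ z2} : Set G) : Set G))) ∈
      (closure {X.Φ z1, X.Φ z2}).subgroupOf _ := m1
    rw [k, mem_bot, Subtype.ext_iff] at h3
    exact absurd (X.inj (h3.trans X.Φ.map_one.symm)) (by decide +kernel)
  obtain ⟨n, hm⟩ := hQ ⟨x, hx.1⟩
  replace hm : x ^ 3 ^ n = 1 := congrArg Subtype.val hm
  obtain ⟨i, j, e2⟩ := mem_D' X he
  have h3 : Commute x (X.Φ (z1 ^ (i : ℕ) * z2 ^ (j : ℕ))) := e2 ▸ congrArg Subtype.val (mem_center_iff.1 ec ⟨x, hx⟩)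
  have h4 : ∀ w : A 12, X.Φ w ∈ closure ({X.Φ z1, X.Φ z2} : Set G) →
      ∃ i j : Fin 3, x * X.Φ w * x⁻¹ = X.Φ (z1 ^ (i : ℕ) * z2 ^ (j : ℕ)) := fun w hw =>
    mem_D' X ((mem_normalizer_iff.1 hx.2 _).1 hw)
  have h5 : ∀ c : A 12, z1 ^ (i : ℕ) * z2 ^ (j : ℕ) = c ∨ (z1 ^ (i : ℕ) * z2 ^ (j : ℕ))⁻¹ = c → Commute x (X.Φ c) := by
    rintro _ (rfl | rfl)
    exacts [h3, map_inv X.Φ _ ▸ h3.inv_right]
  obtain ⟨g, -, gc, gd, -⟩ := tw0 X
  have h6 : Commute x (X.Φ (z1 * z2)) → Commute x (X.Φ (z1 * z2⁻¹)) → Commute x (X.Φ z1) ∧ Commute x (X.Φ z2) :=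
    fun a b => by
      have k1 := (a.mul_right b).pow_right 2
      have k2 := (a.mul_right b.inv_right).pow_right 2
      rw [← map_mul, ← map_pow, show (z1 * z2 * (z1 * z2⁻¹)) ^ 2 = z1 by decide +kernel] at k1
      rw [← map_inv, ← map_mul, ← map_pow, show (z1 * z2 * (z1 * z2⁻¹)⁻¹) ^ 2 = z2 by decide +kernel] at k2
      exact ⟨k1, k2⟩
  refine hn (And.elim (fun a b => mem_D X a b (mem_centralizer_singleton_iff.1 (h1 hx.1)) hm) ?_)
  rcases (by decide +kernel : ∀ i j : Fin 3, z1 ^ (i : ℕ) * z2 ^ (j : ℕ) = 1 ∨ ∃ c ∈ [z1, z2, z1 * z2, z1 * z2⁻¹],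
    z1 ^ (i : ℕ) * z2 ^ (j : ℕ) = c ∨ (z1 ^ (i : ℕ) * z2 ^ (j : ℕ))⁻¹ = c) i j with k | ⟨c, hc, k⟩
  · exact absurd (Subtype.ext (e2.trans (by rw [k, map_one]; rfl))) e1
  have k1 := h5 c k
  simp only [List.mem_cons, List.not_mem_nil, or_false] at hc
  rcases hc with rfl | rfl | rfl | rfl
  · obtain ⟨i, j, e⟩ := h4 z2 m2
    exact ⟨k1, cen_step X (i := i) (j := j) (by decide +kernel) (by decide +kernel) (by decide +kernel) k1
      (by rw [e, map_mul, map_pow, map_pow]) hm⟩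
  · obtain ⟨i, j, e⟩ := h4 z1 m1
    exact ⟨cen_step X (i := j) (j := i) (by decide +kernel) (by decide +kernel) (by decide +kernel) k1
      (by rw [e, map_mul, map_pow, map_pow]; exact ((m z1 z2 (by decide +kernel)).pow_pow i j).eq) hm, k1⟩
  · obtain ⟨i, j, e⟩ := h4 (z1 * z2⁻¹) (by rw [map_mul, map_inv]; exact mul_mem m1 (inv_mem m2))
    obtain ⟨i', j', e'⟩ := (by decide +kernel : ∀ i j : Fin 3, ∃ i' j' : Fin 3, z1 ^ (i : ℕ) * z2 ^ (j : ℕ) =
      (z1 * z2) ^ (i' : ℕ) * (z1 * z2⁻¹) ^ (j' : ℕ)) i j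
    refine h6 k1 (gd ▸ cen_step (cjX X g) (c := cc) (c' := dd) (i := i') (j := j') (by decide +kernel) (by decide +kernel)
      (by decide +kernel) (by rw [← gc] at k1; exact k1) ?_ hm)
    change x * (g * X.Φ dd * g⁻¹) * x⁻¹ = (g * X.Φ cc * g⁻¹) ^ (i' : ℕ) * (g * X.Φ dd * g⁻¹) ^ (j' : ℕ)
    rw [gc, gd, e, e', map_mul, map_pow, map_pow]
  · obtain ⟨i, j, e⟩ := h4 (z1 * z2) (by rw [map_mul]; exact mul_mem m1 m2)
    obtain ⟨i', j', e'⟩ := (by decide +kernel : ∀ i j : Fin 3, ∃ i' j' : Fin 3, z1 ^ (i : ℕ) * z2 ^ (j : ℕ) =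
      (z1 * z2⁻¹) ^ (i' : ℕ) * (z1 * z2) ^ (j' : ℕ)) i j
    refine h6 (gc ▸ cen_step (cjX X g) (c := dd) (c' := cc) (i := i') (j := j') (by decide +kernel) (by decide +kernel)
      (by decide +kernel) (by rw [← gd] at k1; exact k1) ?_ hm) k1
    change x * (g * X.Φ cc * g⁻¹) * x⁻¹ = (g * X.Φ dd * g⁻¹) ^ (i' : ℕ) * (g * X.Φ cc * g⁻¹) ^ (j' : ℕ)
    rw [gc, gd, e, e', map_mul, map_pow, map_pow]

theorem six {U W : Perm (Fin 6)} (U2 : U * U = 1) (U1 : U ≠ 1) (sU : Perm.sign U = 1) (W3 : W ^ 3 = 1)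
    (hW : W.cycleType ≠ {3}) (hc : W * U * W⁻¹ * U = U * (W * U * W⁻¹)) (hn : W * U * W⁻¹ ≠ U) :
    ∃ h : A 6, (h : Perm (Fin 6)) * u6 * (h : Perm (Fin 6))⁻¹ = U ∧
      (h : Perm (Fin 6)) * r6 * (h : Perm (Fin 6))⁻¹ = W * U * W⁻¹ := by
  obtain ⟨h, rfl⟩ := isConj_iff.1 (Perm.isConj_of_cycleType_eq (((by decide +kernel : ∀ U : Perm (Fin 6), U * U = 1 →
    U ≠ 1 → Perm.sign U = 1 → (u6 : Perm (Fin 6)).cycleType = U.cycleType) U U2 U1 sU)))
  have key : ∃ k : Perm (Fin 6), k * u6 * k⁻¹ = h * u6 * h⁻¹ ∧ k * r6 * k⁻¹ = W * (h * u6 * h⁻¹) * W⁻¹ := by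
    have e : ∀ a : Perm (Fin 6), h⁻¹ * W * h * u6 * (h⁻¹ * W * h)⁻¹ = a → h * a * h⁻¹ = W * (h * u6 * h⁻¹) * W⁻¹ := by
      rintro _ rfl; group
    rcases (by decide +kernel : ∀ W : Perm (Fin 6), W ^ 3 = 1 → W * u6 * W⁻¹ * u6 = u6 * (W * u6 * W⁻¹) →
      W.cycleType = {3} ∨ W * u6 * W⁻¹ = u6 ∨ W * u6 * W⁻¹ = r6 ∨ W * u6 * W⁻¹ = s6 * r6 * (s6 : Perm (Fin 6))⁻¹)
      (h⁻¹ * W * h) (by rw [← inv_inv h, inv_inv h⁻¹, conj_pow, W3, mul_one, mul_inv_cancel]) (by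
        calc _ = h⁻¹ * (W * (h * u6 * h⁻¹) * W⁻¹ * (h * u6 * h⁻¹)) * h := by group
          _ = _ := by rw [hc]; group) with k | k | k | k
    · rw [← inv_inv h, inv_inv h⁻¹, Perm.cycleType_conj] at k
      exact absurd k hW
    · exact absurd (e _ k).symm hn
    · exact ⟨h, rfl, e _ k⟩
    · refine ⟨h * s6, ?_, by rw [← e _ k]; group⟩
      rw [mul_assoc h, show (s6 : Perm (Fin 6)) * u6 = u6 * s6 by decide +kernel]
      group
  obtain ⟨k, k1, k2⟩ := key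
  obtain ⟨l, e | e⟩ := even_fix (n := 4) k
  · exact ⟨l, e ▸ k1, e ▸ k2⟩
  · refine ⟨l, ?_, ?_⟩
    · rw [e, ← k1, mul_assoc k, show swap 0 1 * (u6 : Perm (Fin 6)) = (u6 : Perm (Fin 6)) * swap 0 1 by decide +kernel]
      group
    · rw [e, ← k2, mul_assoc k, show swap 0 1 * (r6 : Perm (Fin 6)) = (r6 : Perm (Fin 6)) * swap 0 1 by decide +kernel]
      group

end E1

variable [Finite G]

open E1

theorem A12.not_conj (X : A12 G) {p t : alternatingGroup (Fin 12)} (hp : (p : Perm (Fin 12)).cycleType = {2, 2})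
    (ht : (t : Perm (Fin 12)).cycleType = {2, 2, 2, 2}) : ¬ IsConj (X.Φ p) (X.Φ t) := fun h => by
  obtain ⟨k, hk⟩ := isConj_iff.1 ((X.Φ.map_isConj (isConj_alt (p := t0) (Eq.trans (by decide +kernel) ht.symm)
    (by rw [ht]; decide))).trans (h.symm.trans (X.Φ.map_isConj (isConj_alt (q := uu) (hp.trans (by decide +kernel))
      (by decide +kernel)))))
  have h3 : (k * X.Φ be * k⁻¹) ^ 3 = 1 := by
    rw [conj_pow, ← map_pow, show be ^ 3 = 1 by decide +kernel, map_one, mul_one, mul_inv_cancel]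
  obtain ⟨c, -, hc⟩ := (syl X).exists_cj_le (Q := zpowers (k * X.Φ be * k⁻¹)) (by
    rintro ⟨_, n, rfl⟩
    exact ⟨1, Subtype.ext (by
      change ((k * X.Φ be * k⁻¹) ^ n) ^ 3 ^ 1 = 1
      rw [pow_one, ← zpow_natCast, ← zpow_mul, mul_comm, zpow_mul, zpow_natCast, h3, one_zpow])⟩)
    (zpowers_le.2 (mem_centralizer_singleton_iff.2 (by
      rw [← hk, conj_mul, conj_mul, ← map_mul, show be * t0 = t0 * be by decide +kernel, map_mul])))
  obtain ⟨i, j, e⟩ := mem_D' X (cj_le_iff.1 hc _ (mem_zpowers _))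
  have h4 : IsConj (X.Φ (z1 ^ (i : ℕ) * z2 ^ (j : ℕ))) (X.Φ be) :=
    ((isConj_iff.2 ⟨k, rfl⟩).trans (isConj_iff.2 ⟨c, e⟩)).symm
  rcases (by decide +kernel : ∀ i j : Fin 3, z1 ^ (i : ℕ) * z2 ^ (j : ℕ) = 1 ∨
    ((z1 ^ (i : ℕ) * z2 ^ (j : ℕ) : A 12) : Perm (Fin 12)).cycleType = {3} ∨
    ((z1 ^ (i : ℕ) * z2 ^ (j : ℕ) : A 12) : Perm (Fin 12)).cycleType = {3, 3}) i j with e | e | e
  · rw [e, map_one, isConj_one_right] at h4
    exact absurd (X.inj (h4.trans X.Φ.map_one.symm)) (by decide +kernel)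
  · exact X.nfuse _ be e (by decide +kernel) h4
  · exact X.nfuse cc be (by rw [Perm.IsThreeCycle]; decide +kernel) (by decide +kernel)
      ((X.fuse cc _ (by rw [Perm.IsThreeCycle]; decide +kernel) e).trans h4)

theorem A12.exists_tw (X : A12 G) : ∃ g, X.Tw g := by
  obtain ⟨g, τ, gc, gd, gt, ⟨t1, t2, t3⟩, hq⟩ := tw0 X
  let ψ : A 9 →* G := cjh g (X.Φ.comp (altEmb E4))
  have ψi : Function.Injective ψ := ((lbX X).cj g).inj
  have ψj : Function.Injective (ψ.comp (altEmb ι)) := ψi.comp (altEmb_injective ι)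
  obtain ⟨U, hU⟩ : ∃ U, ψ.comp (altEmb ι) U = X.Φ uu := (hq u6).imp fun _ e => e.trans (congrArg _ (Subtype.ext (by
    rw [coe_altEmb, u6, via_mul, via_swap, via_swap]; decide +kernel)))
  obtain ⟨W, hW⟩ : ∃ W, ψ.comp (altEmb ι) W = X.Φ w12 := (hq w6).imp fun _ e => e.trans (congrArg _ (Subtype.ext (by
    rw [coe_altEmb, w6, via_cyc3]; decide +kernel)))
  have hS : ψ.comp (altEmb ι) (W * U * W⁻¹) = X.Φ ss := by
    rw [map_mul, map_mul, map_inv, hU, hW, ← map_inv, ← map_mul, ← map_mul]; exact congrArg _ (by decide +kernel)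
  obtain ⟨h, h1, h2⟩ := six (U := U) (W := W)
    (congrArg Subtype.val (ψj (a₁ := U * U) (a₂ := 1) (by
      rw [map_mul, hU, ← map_mul, map_one, show uu * uu = 1 by decide +kernel, map_one])))
    (fun e => absurd (X.inj (by rw [← hU, show U = 1 from Subtype.ext e, map_one, map_one]) : uu = 1) (by decide +kernel))
    U.2 (congrArg Subtype.val (ψj (a₁ := W ^ 3) (a₂ := 1) (by
      rw [map_pow, hW, ← map_pow, map_one, show w12 ^ 3 = 1 by decide +kernel, map_one])))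
    (fun e => X.nfuse cc (z1 * z2 * w12) (by rw [Perm.IsThreeCycle]; decide +kernel) (by decide +kernel)
      ((X.fuse cc (cc * altEmb E4 (altEmb ι W)) (by rw [Perm.IsThreeCycle]; decide +kernel) (by
        rw [coe_mul, coe_altEmb, (disj_via E4 _ (by decide +kernel)).cycleType_mul, cycleType_viaEmbedding, coe_altEmb,
          cycleType_viaEmbedding, e]; decide +kernel)).trans (isConj_iff.2 ⟨g, by
        rw [map_mul, ← conj_mul, gc, map_mul X.Φ _ w12, ← hW]; rfl⟩)))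
    (congrArg Subtype.val (ψj (a₁ := W * U * W⁻¹ * U) (a₂ := U * (W * U * W⁻¹)) (by
      rw [map_mul, map_mul _ U, hS, hU, ← map_mul, ← map_mul]; exact congrArg _ (by decide +kernel))))
    (fun e => absurd (X.inj (by rw [← hU, ← hS, show W * U * W⁻¹ = U from Subtype.ext e]) : ss = uu) (by decide +kernel))
  replace h1 : h * u6 * h⁻¹ = U := Subtype.ext h1
  replace h2 : h * r6 * h⁻¹ = W * U * W⁻¹ := Subtype.ext h2
  have key : ∀ q : A 9, g * X.Φ (altEmb E4 (altEmb ι h)) * X.Φ (altEmb E4 q) * (g * X.Φ (altEmb E4 (altEmb ι h)))⁻¹ =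
      ψ (altEmb ι h * q * (altEmb ι h)⁻¹) := fun q => by
    simp only [ψ, cjh_apply, MonoidHom.comp_apply, map_mul, map_inv]
    group
  have eu : altEmb E4 (altEmb ι u6) = uu := Subtype.ext (by
    rw [coe_altEmb, coe_altEmb, via_via, u6, via_mul, via_swap, via_swap]; decide +kernel)
  have er : altEmb E4 (altEmb ι r6) = rr := Subtype.ext (by
    rw [coe_altEmb, coe_altEmb, via_via, r6, via_mul, via_swap, via_swap]; decide +kernel)
  have gu : g * X.Φ (altEmb E4 (altEmb ι h)) * X.Φ uu * (g * X.Φ (altEmb E4 (altEmb ι h)))⁻¹ = X.Φ uu := by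
    rw [← eu, key, ← map_inv, ← map_mul, ← map_mul, h1, eu, ← hU]; rfl
  have gr : g * X.Φ (altEmb E4 (altEmb ι h)) * X.Φ rr * (g * X.Φ (altEmb E4 (altEmb ι h)))⁻¹ = X.Φ ss := by
    rw [← er, key, ← map_inv, ← map_mul, ← map_mul, h2, ← hS]; rfl
  have f : ∀ b, b = 6 ∨ b = 7 ∨ b = 8 → (altEmb ι h : Perm (Fin 9)) b = b := fun b hb =>
    Perm.viaEmbedding_apply_of_notMem _ _ _ (by rcases hb with rfl | rfl | rfl <;> decide)
  obtain ⟨σ, gs, s1, s2, s3⟩ : ∃ σ : A 9,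
      g * X.Φ (altEmb E4 (altEmb ι h)) * X.Φ (altEmb E4 σ) * (g * X.Φ (altEmb E4 (altEmb ι h)))⁻¹ = X.Φ vv ∧
      (σ : Perm (Fin 9)) 6 = 7 ∧ (σ : Perm (Fin 9)) 7 = 6 ∧ (σ : Perm (Fin 9)) 8 = 8 := by
    refine ⟨(altEmb ι h)⁻¹ * τ * altEmb ι h, by rw [key, ← gt]; exact congrArg ψ (by group), ?_, ?_, ?_⟩ <;>
      simp only [coe_mul, coe_inv, Perm.mul_apply, Perm.inv_eq_iff_eq, f 6 (by simp), f 7 (by simp), f 8 (by simp),
        t1, t2, t3]
  refine ⟨g * X.Φ (altEmb E4 (altEmb ι h)), gu, gr, ?_, ?_, ?_⟩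
  · rw [← gc, mul_assoc g, ← map_mul, emb_comm E4 (by decide +kernel), map_mul]
    group
  · rw [← gd, ← show altEmb E4 d3 = dd from Subtype.ext (by rw [coe_altEmb, coe_d3, via_cyc3]; decide +kernel),
      mul_assoc g, ← map_mul, ← map_mul, emb_comm ι (by decide +kernel), map_mul, map_mul]
    group
  generalize g * X.Φ (altEmb E4 (altEmb ι h)) = k at gu gr gs
  obtain ⟨q, e⟩ := AP.TFC.exists_via ι (u := swap 6 7 * (σ : Perm (Fin 9))) fun b hb => by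
    rcases (by decide : ∀ b, b ∉ Set.range ι → b = 6 ∨ b = 7 ∨ b = 8) b hb with rfl | rfl | rfl
    · rw [Perm.mul_apply, s1]; rfl
    · rw [Perm.mul_apply, s2]; rfl
    · rw [Perm.mul_apply, s3]; rfl
  have e' : (σ : Perm (Fin 9)) = swap 6 7 * q.viaEmbedding ι := by rw [e, swap_mul_self_mul]
  have cm : ∀ (a : A 6) (b : A 12), k * X.Φ (altEmb E4 (altEmb ι a)) * k⁻¹ = X.Φ b → vv * b = b * vv → q * a = a * q :=
    fun a b h3 h4 => by
      have h5 : σ * altEmb ι a = altEmb ι a * σ := altEmb_injective E4 (X.inj ((MulAut.conj k).injective (by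
        simp only [map_mul, MulAut.conj_apply]
        rw [gs, h3, ← map_mul, h4, map_mul])))
      refine via_inj ι ?_
      rw [via_mul, via_mul, e, mul_assoc, ← coe_altEmb, ← coe_mul, h5, coe_mul, ← mul_assoc, ← mul_assoc, coe_altEmb,
        (commute_viaEmbedding_swap _ ι (by decide) (by decide)).eq]
  rcases (by decide +kernel : ∀ q : Perm (Fin 6), q * u6 = u6 * q → q * r6 = r6 * q → Perm.sign q = -1 →
    q.cycleType = {2} ∨ q = swap 0 1 * swap 2 3 * swap 4 5) q (cm u6 uu (by rw [eu, gu]) (by decide +kernel))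
    (cm r6 ss (by rw [er, gr]) (by decide +kernel)) (by
      rw [← sign_viaEmbedding q ι, e, map_mul, Perm.mem_alternatingGroup.1 σ.2, Perm.sign_swap (by decide), mul_one])
    with k1 | k1
  · exact absurd (isConj_iff.2 ⟨k, gs⟩) (X.not_conj (by
      rw [coe_altEmb, cycleType_viaEmbedding, e', (disj_via ι _ (by decide +kernel)).cycleType_mul,
        cycleType_viaEmbedding, k1]; decide +kernel) (by decide +kernel))
  · rw [← gs, show altEmb E4 σ = nn from Subtype.ext (by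
      rw [coe_altEmb, e', k1]
      simp only [via_mul, via_swap]
      decide +kernel)]

end Cfsg.Agent.H3
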